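import Cfsg.Agent.Msn.GdA

/-! Mason's theorem: a bad element of order three, basic facts. `V = ⟨e, z⟩`. -/

set_option autoImplicit false
set_option linter.unusedSectionVars false

namespace Cfsg.Agent.Msn

open Subgroup Cfsg Cfsg.Agent.PLocal Cfsg.Agent.PLocal.Amb
open Cfsg.Agent.PLocal.CP (IsCharP)
open scoped commutatorElement

variable {G : Type*} [Group G] [Finite G]

/-- `⟨e, z⟩` -/
abbrev VV (e z : G) : Subgroup G := zpowers e ⊔ zpowers z

theorem Hy.exists_cf (h : Hy G) {P : Subgroup G} (hP : IsSyl 3 P ⊤) {e : G} (eP : e ∈ P)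
    (e3 : e ^ 3 = 1) (e1 : e ≠ 1) (bad : ¬ Good e) : ∃ z W B, Cf e z W B P :=
  let ⟨z, W, B, a1, a2, a3, a4, a5, a6, a7, a8, a9, a10, _⟩ := h.exists_flag hP
  ⟨z, W, B, hP, eP, e3, e1, bad, a1, a2, a3, a4, a5, a6, a7, a8, a9, a10⟩

/-- a `p`-group acts trivially on an invariant section of order `p` -/
theorem ba_comm_mem {p : ℕ} [hp : Fact p.Prime] {A B P : Subgroup G} (hP : IsPGroup p P)
    (hAB : A ≤ B) (hBP : B ≤ P) (nA : P ≤ 𝐍[A]) (nB : P ≤ 𝐍[B])
    (hc : Nat.card B = Nat.card A * p) {x b : G} (hx : x ∈ P) (hb : b ∈ B) : ⁅x, b⁆ ∈ A := by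
  have := normal_subgroupOf' nA
  have := normal_subgroupOf' nB
  let f := QuotientGroup.mk' (A.subgroupOf P)
  have hV : Nat.card ((B.subgroupOf P).map f) = p := by
    rw [← Subgroup.relIndex_ker, QuotientGroup.ker_mk', relIndex_subgroupOf hBP]
    have e1 := (A.subgroupOf B).card_mul_index
    rw [Nat.card_congr (subgroupOfEquivOfLe hAB).toEquiv, hc] at e1
    exact Nat.eq_of_mul_eq_mul_left Nat.card_pos e1
  have nV : ((B.subgroupOf P).map f).Normal :=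
    Subgroup.Normal.map inferInstance f (QuotientGroup.mk'_surjective _)
  have hQ : IsPGroup p (P ⧸ A.subgroupOf P) := hP.to_quotient _
  have h1 := inf_centralizer_ne_bot (T := ⊤) (V := (B.subgroupOf P).map f) (hQ.to_subgroup _)
    (hQ.to_subgroup _) (by rw [normalizer_eq_top]) (fun e => by
      rw [e, card_bot] at hV
      exact hp.out.one_lt.ne hV)
  have h2 : (B.subgroupOf P).map f ⊓ 𝐂[(⊤ : Subgroup (P ⧸ A.subgroupOf P))] =
      (B.subgroupOf P).map f := by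
    refine eq_of_le_of_card_ge inf_le_left ?_
    have h3 := card_dvd_of_le (inf_le_left : (B.subgroupOf P).map f ⊓
      𝐂[(⊤ : Subgroup (P ⧸ A.subgroupOf P))] ≤ _)
    rw [hV] at h3 ⊢
    exact (((Nat.dvd_prime hp.out).1 h3).resolve_left fun e => h1 (card_eq_one.1 e)).ge
  have h4 : f ⟨b, hBP hb⟩ ∈ 𝐂[(⊤ : Subgroup (P ⧸ A.subgroupOf P))] :=
    (h2.ge (mem_map_of_mem f (show (⟨b, hBP hb⟩ : P) ∈ B.subgroupOf P from hb))).2
  have h5 : f ⁅(⟨x, hx⟩ : P), ⟨b, hBP hb⟩⁆ = 1 := by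
    rw [map_commutatorElement, commutatorElement_eq_one_iff_mul_comm]
    exact h4 _ (mem_top _)
  exact (QuotientGroup.eq_one_iff (N := A.subgroupOf P) _).1 h5

theorem ba_zp {x z : G} (z3 : z ^ 3 = 1) (h : x ∈ zpowers z) : x = 1 ∨ x = z ∨ x = z * z := by
  obtain ⟨k, rfl⟩ := mem_zpowers_iff.1 h
  rw [zpow_eq_zpow_emod' k z3]
  have : k % (3 : ℕ) = 0 ∨ k % (3 : ℕ) = 1 ∨ k % (3 : ℕ) = 2 := by omega
  rcases this with e | e | e <;> rw [e]
  · exact Or.inl (zpow_zero _)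
  · exact Or.inr (Or.inl (zpow_one _))
  · exact Or.inr (Or.inr (zpow_two _))

theorem ba_ea {z : G} (z3 : z ^ 3 = 1) : IsElementaryAbelian 3 (zpowers z) :=
  ⟨inferInstance, fun a ha => by
    obtain ⟨k, rfl⟩ := mem_zpowers_iff.1 ha
    rw [← zpow_natCast, ← zpow_mul, mul_comm, zpow_mul, zpow_natCast, z3, one_zpow]⟩

theorem ba_card {z : G} (z3 : z ^ 3 = 1) (z1 : z ≠ 1) : Nat.card (zpowers z) = 3 := by
  have : Fact (Nat.Prime 3) := ⟨Nat.prime_three⟩
  rw [Nat.card_zpowers, orderOf_eq_prime z3 z1]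

/-- an elementary abelian group of order nine is generated by `z` and any element outside `⟨z⟩` -/
theorem ba_gen {X : Subgroup G} (hX : IsElementaryAbelian 3 X) (c9 : Nat.card X = 9) {z x : G}
    (hz : z ∈ X) (z1 : z ≠ 1) (hx : x ∈ X) (hn : x ∉ zpowers z) : zpowers z ⊔ zpowers x = X := by
  have : Fact (Nat.Prime 3) := ⟨Nat.prime_three⟩
  have h1 := KM.card_ext (ba_ea (hX.2 z hz)) (y := x)
    (centralizer_anti (zpowers_le.2 hz) (elemAb_le_centralizer hX hx)) (hX.2 x hx) hn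
  rw [ba_card (hX.2 z hz) z1] at h1
  exact eq_of_le_of_card_ge (sup_le (zpowers_le.2 hz) (zpowers_le.2 hx)) (by omega)

theorem ba_cj_zpowers (g x : G) : cj(g, zpowers x) = zpowers (g * x * g⁻¹) :=
  MonoidHom.map_zpowers _ _

theorem ba_inv {X : Subgroup G} (h : 2 ∣ Nat.card 𝐂[X]) :
    ∃ T : Subgroup G, IsPGroup 2 T ∧ T ≠ ⊥ ∧ T ≤ 𝐂[X] := by
  have : Fact (Nat.Prime 2) := ⟨Nat.prime_two⟩
  obtain ⟨t, ht⟩ := exists_prime_orderOf_dvd_card' 2 h
  have h1 : orderOf (t : G) = 2 := by rw [Subgroup.orderOf_coe, ht]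
  refine ⟨zpowers (t : G), isPGroup_zpowers ⟨1, by rw [pow_one, ← h1, pow_orderOf_eq_one]⟩,
    fun e => ?_, zpowers_le.2 t.2⟩
  rw [zpowers_eq_bot.1 e, orderOf_one] at h1
  omega

namespace Cf

variable {e z : G} {W B P : Subgroup G}

theorem of_mem (c : Cf e z W B P) {x : G} (xP : x ∈ P) (x3 : x ^ 3 = 1) (x1 : x ≠ 1)
    (bad : ¬ Good x) : Cf x z W B P :=
  { c with eP := xP, e3 := x3, e1 := x1, bad := bad }

/-- conjugate everything (`Good.cj` with `g⁻¹`) -/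
theorem cj (c : Cf e z W B P) (g : G) :
    Cf (g * e * g⁻¹) (g * z * g⁻¹) cj(g, W) cj(g, B) cj(g, P) := by
  refine ⟨by simpa only [cj_top] using c.syl.cj g, conj_mem_cj g c.eP, by rw [conj_pow, c.e3]; simp,
    by simpa using c.e1, fun h => c.bad (by simpa [mul_assoc] using h.cj g⁻¹), ⟨?_, fun a ha => ?_⟩,
    by rw [card_cj, c.cB], cj_mono g c.BP, by rw [normalizer_cj]; exact cj_mono g c.nB,
    cj_mono g c.WB, by rw [card_cj, c.cW], by rw [normalizer_cj]; exact cj_mono g c.nW,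
    conj_mem_cj g c.zW, by simpa using c.z1,
    by rw [centralizer_singleton_conj]; exact cj_mono g c.cz⟩
  · have := c.ea.1
    infer_instance
  · obtain ⟨y, hy, rfl⟩ := mem_cj_iff_exists.1 ha
    rw [conj_pow, c.ea.2 y hy]; simp

variable (h : Hy G) (c : Cf e z W B P)

section
include c

theorem eaW : IsElementaryAbelian 3 W := elemAb_mono c.ea c.WB

theorem WP : W ≤ P := c.WB.trans c.BP

theorem z3 : z ^ 3 = 1 := c.eaW.2 z c.zW

theorem ez : e * z = z * e := mem_centralizer_singleton_iff.1 (c.cz c.eP)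

theorem VP : VV e z ≤ P := sup_le (zpowers_le.2 c.eP) (zpowers_le.2 (c.WP c.zW))

theorem eaV : IsElementaryAbelian 3 (VV e z) := by
  have : Fact (Nat.Prime 3) := ⟨Nat.prime_three⟩
  refine KM.ea_ext (ba_ea c.e3) ?_ c.z3
  rw [Amb.centralizer_zpowers]
  exact mem_centralizer_singleton_iff.2 c.ez.symm

/-- `W / ⟨z⟩` has order 3 and is normalized by the 3-group `P` -/
theorem commW {x w : G} (hx : x ∈ P) (hw : w ∈ W) : ⁅x, w⁆ ∈ zpowers z := by
  have : Fact (Nat.Prime 3) := ⟨Nat.prime_three⟩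
  refine ba_comm_mem c.syl.pgrp (zpowers_le.2 c.zW) c.WP ?_ c.nW ?_ hx hw
  · refine le_trans ?_ (centralizer_le_normalizer' _)
    rw [Amb.centralizer_zpowers]
    exact c.cz
  · rw [c.cW, ba_card c.z3 c.z1]

/-- `B / W` has order 3 and is normalized by the 3-group `P` -/
theorem commB {x b : G} (hx : x ∈ P) (hb : b ∈ B) : ⁅x, b⁆ ∈ W := by
  have : Fact (Nat.Prime 3) := ⟨Nat.prime_three⟩
  exact ba_comm_mem c.syl.pgrp c.WB c.BP c.nW c.nB (by rw [c.cW, c.cB]) hx hb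

/-- by `commW` -/
theorem W_le : W ≤ 𝐍[VV e z] := by
  refine le_normalizer_iff_cj.2 fun g hg => ?_
  rw [cj_sup, ba_cj_zpowers, ba_cj_zpowers]
  refine sup_le (zpowers_le.2 ?_) (zpowers_le.2 ?_)
  · have e1 : g * e * g⁻¹ = ⁅e, g⁆⁻¹ * e := by rw [commutatorElement_def]; group
    rw [e1]
    exact mul_mem (mem_sup_right (inv_mem (c.commW c.eP hg))) (mem_sup_left (mem_zpowers e))
  · rw [elemAb_comm c.eaW hg c.zW, mul_inv_cancel_right]
    exact mem_sup_right (mem_zpowers z)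

end

include h c

theorem gdB : Gd B := h.gd_of_27 c.ea c.cB.ge

theorem gdW : Gd W := (c.gdB h).mono c.WB

theorem goodz : Good z := c.gdW h z c.zW c.z1

/-- `good_of_cent` -/
theorem not_cent : e ∉ 𝐂[W] := fun m => c.bad (h.good_of_cent c.eaW c.cW.ge (c.gdW h) c.e3 m)

theorem e_not : e ∉ W := fun m => c.bad (c.gdW h e m c.e1)

theorem cardV : Nat.card (VV e z) = 9 := by
  have : Fact (Nat.Prime 3) := ⟨Nat.prime_three⟩
  have h1 := KM.card_ext (ba_ea c.z3) (y := e)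
    (by rw [Amb.centralizer_zpowers]; exact c.cz c.eP) c.e3
    fun m => c.e_not h (zpowers_le.2 c.zW m)
  rw [ba_card c.z3 c.z1, sup_comm] at h1
  have h2 : ¬ 27 ≤ Nat.card (VV e z) := fun m =>
    c.bad (h.gd_of_27 c.eaV m e (mem_sup_left (mem_zpowers e)) c.e1)
  obtain ⟨k, hk⟩ := (elemAb_isPGroup c.eaV).exists_card_eq
  rw [hk] at h1 h2 ⊢
  have h3 : k < 3 := by
    by_contra h3
    exact h2 (Nat.pow_le_pow_right (by norm_num) (not_lt.1 h3) : 3 ^ 3 ≤ 3 ^ k)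
  interval_cases k <;> omega

/-- else `V ⊔ ⟨x⟩` is elementary of order `≥ 27` (`KM.ea_ext`, `KM.card_ext`) and `e` is good (`gd_of_27`) -/
theorem mem_V {x : G} (x3 : x ^ 3 = 1) (xe : x * e = e * x) (xz : x * z = z * x) : x ∈ VV e z := by
  have : Fact (Nat.Prime 3) := ⟨Nat.prime_three⟩
  by_contra hn
  have h0 : x ∈ 𝐂[VV e z] := by
    rw [Amb.centralizer_sup, Amb.centralizer_zpowers, Amb.centralizer_zpowers]
    exact ⟨mem_centralizer_singleton_iff.2 xe, mem_centralizer_singleton_iff.2 xz⟩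
  have h1 := KM.card_ext c.eaV h0 x3 hn
  rw [c.cardV h] at h1
  exact c.bad (h.gd_of_27 (KM.ea_ext c.eaV h0 x3) h1 e
    (mem_sup_left (mem_sup_left (mem_zpowers e))) c.e1)

/-- `x = e ^ i z ^ j` by `mem_V`; if `3 ∤ i` then `e ∈ C(W)` -/
theorem mem_z {x : G} (x3 : x ^ 3 = 1) (xW : x ∈ 𝐂[W]) (xe : x * e = e * x) : x ∈ zpowers z := by
  by_contra hn
  have h1 := ba_gen c.eaV (c.cardV h) (mem_sup_right (mem_zpowers z)) c.z1
    (c.mem_V h x3 xe (xW z c.zW).symm) hn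
  have h2 : zpowers z ⊔ zpowers x ≤ 𝐂[W] :=
    sup_le (zpowers_le.2 (elemAb_le_centralizer c.eaW c.zW)) (zpowers_le.2 xW)
  exact c.not_cent h (h2 (h1.ge (mem_sup_left (mem_zpowers e))))

/-- some `w ∈ W` does not commute with `e`, `⁅w, e⁆ = z` or `z⁻¹` (`commW`); replace `w` by `w⁻¹` -/
theorem exists_b : ∃ b ∈ W, b * e * b⁻¹ = z * e := by
  have h0 := c.not_cent h
  rw [mem_centralizer_iff] at h0
  push Not at h0
  obtain ⟨w, hw, hn⟩ := h0
  have h1 : w * e * w⁻¹ = ⁅e, w⁆⁻¹ * e := by rw [commutatorElement_def]; group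
  have h2 : w * z * w⁻¹ = z := by rw [elemAb_comm c.eaW hw c.zW, mul_inv_cancel_right]
  rcases ba_zp c.z3 (inv_mem (c.commW c.eP hw)) with e1 | e1 | e1 <;> rw [e1] at h1
  · exact (hn (by rw [← mul_inv_eq_iff_eq_mul, h1, one_mul])).elim
  · exact ⟨w, hw, h1⟩
  · refine ⟨w * w, mul_mem hw hw, ?_⟩
    calc w * w * e * (w * w)⁻¹ = w * (w * e * w⁻¹) * w⁻¹ := by group
      _ = w * (z * z * e) * w⁻¹ := by rw [h1]
      _ = (w * z * w⁻¹) * (w * z * w⁻¹) * (w * e * w⁻¹) := by group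
      _ = z ^ 3 * z * e := by rw [h1, h2]; simp only [pow_succ, pow_zero, one_mul, mul_assoc]
      _ = z * e := by rw [c.z3, one_mul]

/-- `x ↦ ⁅x, b⁆ ∈ ⟨z⟩` is a homomorphism on `P` with kernel `P ⊓ C(W)` (`W = ⟨b, z⟩`), non-trivial on `e` -/
theorem hyp : Sig.Hyp 3 (P ⊓ 𝐂[W]) P := by
  obtain ⟨b, hb, eb⟩ := c.exists_b h
  have cen : ∀ x ∈ P, ∀ y ∈ zpowers z, x * y = y * x := fun x hx y hy => by
    have h1 := c.cz hx
    rw [← Amb.centralizer_zpowers] at h1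
    exact (h1 y hy).symm
  let φ : P →* G := MonoidHom.mk' (fun x => ⁅(x : G), b⁆) fun x y => by
    have e1 : ⁅(x : G) * y, b⁆ = x * ⁅(y : G), b⁆ * (x : G)⁻¹ * ⁅(x : G), b⁆ := by
      simp only [commutatorElement_def]; group
    rw [coe_mul, e1, cen x x.2 _ (c.commW y.2 hb), mul_inv_cancel_right,
      cen _ (zpowers_le.2 (c.WP c.zW) (c.commW y.2 hb)) _ (c.commW x.2 hb)]
  have ne : ⁅e, b⁆ ≠ 1 := fun e1 => c.z1 (by
    rw [← (commutatorElement_eq_one_iff_mul_comm.1 e1), mul_inv_cancel_right] at eb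
    exact (mul_eq_right.1 eb.symm))
  have bz : b ∉ zpowers z := fun m =>
    ne (commutatorElement_eq_one_iff_mul_comm.2 (cen e c.eP b m))
  have gen := ba_gen c.eaW c.cW c.zW c.z1 hb bz
  have hk : φ.ker = (P ⊓ 𝐂[W]).subgroupOf P := by
    ext x
    rw [MonoidHom.mem_ker, mem_subgroupOf, mem_inf, ← gen, Amb.centralizer_sup,
      Amb.centralizer_zpowers, Amb.centralizer_zpowers, mem_inf, mem_centralizer_singleton_iff,
      mem_centralizer_singleton_iff]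
    exact ⟨fun e1 => ⟨x.2, cen x x.2 z (mem_zpowers z), commutatorElement_eq_one_iff_mul_comm.1 e1⟩,
      fun e1 => commutatorElement_eq_one_iff_mul_comm.2 e1.2.2⟩
  refine ⟨inf_le_left, ?_⟩
  rw [relIndex, ← hk, index_ker]
  have h1 : φ.range ≤ zpowers z := by
    rintro _ ⟨x, rfl⟩
    exact c.commW x.2 hb
  have h2 := card_dvd_of_le h1
  rw [ba_card c.z3 c.z1] at h2
  refine ((Nat.dvd_prime Nat.prime_three).1 h2).resolve_left fun e1 => ne ?_
  have h3 : φ ⟨e, c.eP⟩ ∈ φ.range := ⟨_, rfl⟩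
  rw [card_eq_one.1 e1] at h3
  exact h3

/-- `k ↦ ⁅k, e⁆` maps `B` into `W` (`commB`), fibres are cosets of `C_B(e) = ⟨z⟩` (`mem_z`), so it has `27 / 3 = 9`
values: it is onto `W`. (It is a homomorphism on the abelian group `B`.) -/
theorem exists_conj {w : G} (hw : w ∈ W) : ∃ k ∈ B, k * e * k⁻¹ = w * e := by
  have cm : ∀ k ∈ B, ⁅k, e⁆ ∈ W := fun k hk => by
    rw [← commutatorElement_inv]
    exact inv_mem (c.commB c.eP hk)
  let φ : B →* G := MonoidHom.mk' (fun x => ⁅(x : G), e⁆) fun x y => by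
    have e1 : ⁅(x : G) * y, e⁆ = x * ⁅(y : G), e⁆ * (x : G)⁻¹ * ⁅(x : G), e⁆ := by
      simp only [commutatorElement_def]; group
    rw [coe_mul, e1, elemAb_comm c.ea x.2 (c.WB (cm y y.2)), mul_inv_cancel_right,
      elemAb_comm c.eaW (cm y y.2) (cm x x.2)]
  have h1 : φ.range ≤ W := by
    rintro _ ⟨x, rfl⟩
    exact cm x x.2
  have h2 : φ.ker ≤ (zpowers z).subgroupOf B := fun x hx =>
    c.mem_z h (c.ea.2 x x.2) (centralizer_anti c.WB (elemAb_le_centralizer c.ea x.2))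
      (commutatorElement_eq_one_iff_mul_comm.1 hx)
  have h3 := card_le_of_le h2
  rw [Nat.card_congr (subgroupOfEquivOfLe (zpowers_le.2 (c.WB c.zW))).toEquiv,
    ba_card c.z3 c.z1] at h3
  have h4 := φ.ker.card_mul_index
  rw [index_ker, c.cB] at h4
  have h5 : φ.range = W := eq_of_le_of_card_ge h1 (by rw [c.cW]; nlinarith)
  obtain ⟨k, hk⟩ := h5.ge hw
  exact ⟨k, k.2, by rw [← hk]; exact (inv_mul_cancel_right _ _).symm⟩

/-- `x = w e ^ i`; `w e` is conjugate to `e` (`exists_conj`), and `w e⁻¹ = (w' e)⁻¹`; `Good.cj`, `Good.inv` -/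
theorem mem_W {x : G} (hx : x ∈ zpowers e ⊔ W) (gx : Good x) : x ∈ W := by
  have key : ∀ w ∈ W, ¬ Good (w * e) := fun w hw g => by
    obtain ⟨k, -, hk⟩ := c.exists_conj h hw
    have := g.cj k⁻¹
    rw [← hk] at this
    exact c.bad (by simpa [mul_assoc] using this)
  obtain ⟨a, ha, w, hw, rfl⟩ :=
    (mem_sup_of_le_normalizer_right (zpowers_le.2 (c.nW c.eP))).1 hx
  rcases ba_zp c.e3 ha with e1 | e1 | e1 <;> rw [e1] at gx ⊢
  · rwa [one_mul]
  · exact (key _ (conj_mem_of_mem_normalizer (c.nW c.eP) hw) (by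
      rwa [inv_mul_cancel_right])).elim
  · refine (key _ (inv_mem hw) ?_).elim
    have e2 : e * e = e⁻¹ := by
      rw [eq_inv_iff_mul_eq_one, ← c.e3]; simp only [pow_succ, pow_zero, one_mul]
    have := gx.inv
    rwa [e2, mul_inv_rev, inv_inv] at this

/-- `mem_W`, `mem_z` -/
theorem z_uniq {x : G} (hx : x ∈ VV e z) (gx : Good x) : x ∈ zpowers z := by
  have h1 : x ∈ W := c.mem_W h (sup_le_sup_left (zpowers_le.2 c.zW) _ hx) gx
  exact c.mem_z h (c.eaV.2 x hx) (elemAb_le_centralizer c.eaW h1)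
    (elemAb_comm c.eaV hx (mem_sup_left (mem_zpowers e)))

/-- `g z g⁻¹ ∈ V` is good, `z_uniq` -/
theorem nz : 𝐍[VV e z] ≤ 𝐍[zpowers z] := by
  intro g hg
  refine mem_normalizer_of_cj_le ?_
  rw [ba_cj_zpowers]
  exact zpowers_le.2 (c.z_uniq h (conj_mem_of_mem_normalizer hg (mem_sup_right (mem_zpowers z)))
    ((c.goodz h).cj g))

/-- Thompson-Bender (`TB.le_map_pPrimeCore_of_odd`) in the 3-constrained group `C(x)` (`conC1`) with `A = V`:
elements of order 3 of `C(V)` lie in `V` (`mem_V`). -/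
theorem le_theta {T : Subgroup G} {x : G} (hx : x ∈ VV e z) (x1 : x ≠ 1) (hT : IsPGroup 2 T)
    (hn : VV e z ≤ 𝐍[T]) (hc : T ≤ centralizer {x}) : T ≤ centralizerPPrimeCore 3 x := by
  have : Fact (Nat.Prime 3) := ⟨Nat.prime_three⟩
  have : Fact (Nat.Prime 2) := ⟨Nat.prime_two⟩
  obtain ⟨k, hk⟩ := hT.exists_card_eq
  refine TB.le_map_pPrimeCore_of_odd (p := 3) (by norm_num) (h.conC1 (c.eaV.2 x hx) x1)
    (A := VV e z) (fun y hy => mem_centralizer_singleton_iff.2 (elemAb_comm c.eaV hy hx)) hc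
    (elemAb_isPGroup c.eaV) (by rw [hk]; exact Nat.Coprime.pow_left k (by norm_num)) hn
    fun y _ hy y3 => hn (c.mem_V h y3 (hy e (mem_sup_left (mem_zpowers e))).symm
      (hy z (mem_sup_right (mem_zpowers z))).symm)

/-- `le_theta` with `x = z`, which is good -/
theorem fpf {T : Subgroup G} (hT : IsPGroup 2 T) (hn : VV e z ≤ 𝐍[T]) (hc : T ≤ centralizer {z}) :
    T = ⊥ := by
  have : Fact (Nat.Prime 2) := ⟨Nat.prime_two⟩
  have h1 := c.le_theta h (mem_sup_right (mem_zpowers z)) c.z1 hT hn hc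
  rcases hT.card_eq_or_dvd with e1 | e1
  · exact card_eq_one.1 e1
  · exact (c.goodz h (e1.trans (card_dvd_of_le h1))).elim

/-- `fpf` for `⟨t⟩`, `t` an involution (Cauchy) -/
theorem oddV : ¬ 2 ∣ Nat.card 𝐂[VV e z] := by
  intro h2
  obtain ⟨T, pT, nT, cT⟩ := ba_inv h2
  refine nT (c.fpf h pT ((le_centralizer_iff.1 cT).trans (centralizer_le_normalizer' _)) ?_)
  rw [← Amb.centralizer_zpowers]
  exact cT.trans (centralizer_anti le_sup_right)

/-- `NG` for `W` and `⟨t⟩` -/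
theorem oddW (ng : NG G) : ¬ 2 ∣ Nat.card 𝐂[W] := by
  intro h2
  obtain ⟨T, pT, nT, cT⟩ := ba_inv h2
  exact nT (ng W T c.eaW c.cW.ge (c.gdW h) pT
    ((le_centralizer_iff.1 cT).trans (centralizer_le_normalizer' _)))

end Cf

end Cfsg.Agent.Msn
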