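import Cfsg.Agent.Msn.BA
import Cfsg.Agent.Grp.PChain
import Cfsg.Agent.Grp.CommPow

/-! Mason's theorem: uniqueness of `W` and `B`, unipotent actions. -/

set_option autoImplicit false
set_option linter.unusedSectionVars false

namespace Cfsg.Agent.Msn

open Subgroup Cfsg Cfsg.Agent.PLocal Cfsg.Agent.PLocal.Amb
open Cfsg.Agent.PLocal.CP (IsCharP)
open scoped commutatorElement

variable {G : Type*} [Group G] [Finite G]

namespace BB

local instance : Fact (Nat.Prime 3) := ⟨Nat.prime_three⟩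

/-- a 3-element centralizes an invariant section of order three -/
theorem cent_mod {X Y : Subgroup G} (hy : Sig.Hyp 3 Y X) (hX : IsPGroup 3 X) (n : X ≤ 𝐍[Y]) {g : G}
    {k : ℕ} (g3 : g ^ 3 ^ k = 1) (gX : g ∈ 𝐍[X]) (gY : g ∈ 𝐍[Y]) {x : G} (hx : x ∈ X) :
    ⁅g, x⁆ ∈ Y := by
  have hT : IsPGroup 3 ↥(zpowers g ⊔ X) :=
    isPGroup_sup (isPGroup_zpowers ⟨k, g3⟩) hX (zpowers_le.2 gX)
  have := hT.isNilpotent
  have := normal_subgroupOf' (A := X) (L := zpowers g ⊔ X) (sup_le (zpowers_le.2 gX) le_normalizer)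
  obtain ⟨u, uX, uY, hu⟩ := Grp.PChain.exists_central_mod (X.subgroupOf (zpowers g ⊔ X))
    (Y.subgroupOf (zpowers g ⊔ X)) fun l => by
      obtain ⟨a, h1, h2⟩ := hy.exists_not_mem
      exact h2 (l (show (⟨a, mem_sup_right h1⟩ : ↥(zpowers g ⊔ X)) ∈ _ from h1))
  let K : Subgroup G :=
    { carrier := {x | x ∈ X ∧ ⁅g, x⁆ ∈ Y}
      one_mem' := ⟨one_mem _, by rw [commutatorElement_one_right]; exact one_mem _⟩
      mul_mem' := fun {a b} ha hb => ⟨mul_mem ha.1 hb.1, by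
        have e : ⁅g, a * b⁆ = ⁅g, a⁆ * (a * ⁅g, b⁆ * a⁻¹) := by
          simp only [commutatorElement_def]; group
        rw [e]; exact mul_mem ha.2 (conj_mem_of_mem_normalizer (n ha.1) hb.2)⟩
      inv_mem' := fun {a} ha => ⟨inv_mem ha.1, by
        have e : ⁅g, a⁻¹⁆ = a⁻¹ * ⁅g, a⁆⁻¹ * a := by
          simp only [commutatorElement_def]; group
        rw [e]; exact inv_conj_mem_of_mem_normalizer (n ha.1) (inv_mem ha.2)⟩ }
  have hK : Y ⊔ zpowers (u : G) ≤ K := sup_le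
    (fun y hy' => ⟨hy.1 hy', mul_mem (conj_mem_of_mem_normalizer gY hy') (inv_mem hy')⟩)
    (zpowers_le.2 ⟨uX, by
      rw [← commutatorElement_inv]
      exact inv_mem (hu ⟨g, mem_sup_left (mem_zpowers g)⟩)⟩)
  rw [hy.sup_zpowers (a := u) uX uY] at hK
  exact (hK hx).2

omit [Finite G] in
theorem card3 {z : G} (z1 : z ≠ 1) (z3 : z ^ 3 = 1) : Nat.card (zpowers z) = 3 := by
  rw [Nat.card_zpowers, orderOf_eq_prime z3 z1]

theorem cent_z {z g : G} (z1 : z ≠ 1) (z3 : z ^ 3 = 1) {k : ℕ} (g3 : g ^ 3 ^ k = 1)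
    (gz : g ∈ 𝐍[zpowers z]) : g * z = z * g :=
  commutatorElement_eq_one_iff_mul_comm.1 (mem_bot.1 (cent_mod (Y := ⊥)
    (Sig.hyp_of_card bot_le (by rw [card_bot, card3 z1 z3])) (isPGroup_zpowers ⟨1, by rwa [pow_one]⟩)
    (by rw [normalizer_eq_top]; exact le_top) g3 gz (by rw [normalizer_eq_top]; trivial)
    (mem_zpowers z)))

omit [Finite G] in
theorem comm_of_eq {g k x : G} (h : ⁅g, x⁆ = ⁅k, x⁆) : k⁻¹ * g * x = x * (k⁻¹ * g) := by
  rw [commutatorElement_def, commutatorElement_def, mul_left_inj] at h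
  calc k⁻¹ * g * x = k⁻¹ * (g * x * g⁻¹) * g := by group
    _ = _ := by rw [h]; group

omit [Finite G] in
theorem mem_cent {a b y : G} (h1 : y * a = a * y) (h2 : y * b = b * y) :
    y ∈ 𝐂[zpowers a ⊔ zpowers b] := by
  rw [Amb.centralizer_sup, Amb.centralizer_zpowers, Amb.centralizer_zpowers]
  exact ⟨mem_centralizer_singleton_iff.2 h1, mem_centralizer_singleton_iff.2 h2⟩

theorem hypW {e z : G} {W B P : Subgroup G} (c : Cf e z W B P) : Sig.Hyp 3 (zpowers z) W :=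
  Sig.hyp_of_card (zpowers_le.2 c.zW) (by rw [card3 c.z1 c.z3, c.cW])

end BB

open BB Grp.CommPow

namespace Cf

variable {e z : G} {W B P : Subgroup G} (h : Hy G) (c : Cf e z W B P)
include h c

/-- Suppose `x ∈ B' \ B`. `⁅e, x⁆ ∈ W` (`commB` for the configuration `Cf e z W B' P`), so by `exists_conj` there is
`k ∈ B` with `x e x⁻¹ = k e k⁻¹`; `y = k⁻¹ x` centralizes `e` and `W`, and `y ^ 3 = 1` as `⁅k, x⁆ ∈ W` commutes with `k`
and `x` and has order dividing 3 (`Grp.CommPow`). By `mem_z`, `y ∈ ⟨z⟩ ≤ B`, so `x ∈ B`. -/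
theorem uniqB {B' : Subgroup G} (ea : IsElementaryAbelian 3 B') (cB : Nat.card B' = 27)
    (WB : W ≤ B') (BP : B' ≤ P) (nB : P ≤ 𝐍[B']) : B' = B := by
  have c' : Cf e z W B' P := { c with ea := ea, cB := cB, BP := BP, nB := nB, WB := WB }
  refine eq_of_le_of_card_ge (fun x hx => ?_) (c.cB.trans cB.symm).le
  obtain ⟨k, hk, e1⟩ := c.exists_conj h (inv_mem (c'.commB c.eP hx))
  have e2 : ⁅x, e⁆ = ⁅k, e⁆ := by
    rw [commutatorElement_def k, e1, mul_inv_cancel_right, commutatorElement_inv]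
  have m := c.commB (BP hx) (inv_mem hk)
  have y3 : (k⁻¹ * x) ^ 3 = 1 := by
    rw [mul_pow_eq_of_odd (elemAb_comm c.ea (c.WB m) (inv_mem hk)) (elemAb_comm ea (WB m) hx)
      (by decide) (c.eaW.2 _ m), c.ea.2 _ (inv_mem hk), ea.2 x hx, one_mul]
  have := c.mem_z h y3 (mul_mem (centralizer_anti c.WB (elemAb_le_centralizer c.ea (inv_mem hk)))
    (centralizer_anti WB (elemAb_le_centralizer ea hx))) (comm_of_eq e2)
  exact (mul_mem_cancel_left (inv_mem hk)).1 (c.WB (zpowers_le.2 c.zW this))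

/-- `g e g⁻¹ = z ^ i e = b ^ i e b ^ (-i)` with `b` from `exists_b`, so `b ^ (-i) g` centralizes `e` and `z` -/
theorem unipV {g : G} (gz : g * z = z * g) (ge : ⁅g, e⁆ ∈ zpowers z) : g ∈ W ⊔ 𝐂[VV e z] := by
  obtain ⟨b, hb, e1⟩ := c.exists_b h
  obtain ⟨i, hi⟩ := mem_zpowers_iff.1 ge
  have e2 : ⁅b, e⁆ = z := by rw [commutatorElement_def, e1, mul_inv_cancel_right]
  have cb : Commute z b := elemAb_comm c.eaW c.zW hb
  have e3 : ⁅g, e⁆ = ⁅b ^ i, e⁆ := by rw [commutator_zpow_left (e2 ▸ cb), e2, hi]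
  rw [← mul_inv_cancel_left (b ^ i) g]
  exact mul_mem (mem_sup_left (zpow_mem hb i)) (mem_sup_right (mem_cent (comm_of_eq e3)
    ((cb.symm.zpow_left i).inv_left.mul_left gz).eq))

/-- `W = ⟨b, z⟩`, `g b g⁻¹ = z ^ i b = e ^ j b e ^ (-j)` for some `j`, so `e ^ (-j) g` centralizes `b` and `z` -/
theorem unipW {g : G} (gz : g * z = z * g) (gW : ∀ w ∈ W, ⁅g, w⁆ ∈ zpowers z) :
    g ∈ zpowers e ⊔ 𝐂[W] := by
  have : Fact (Nat.Prime 3) := ⟨Nat.prime_three⟩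
  obtain ⟨b, hb, e1⟩ := c.exists_b h
  obtain ⟨i, hi⟩ := mem_zpowers_iff.1 (gW b hb)
  have e2 : ⁅e, b⁆ = z⁻¹ := by
    rw [← commutatorElement_inv, commutatorElement_def, e1, mul_inv_cancel_right]
  have ce : Commute e z := c.ez
  have e3 : ⁅g, b⁆ = ⁅e ^ (-i), b⁆ := by
    rw [commutator_zpow_left (e2 ▸ ce.symm.inv_left), e2, inv_zpow', neg_neg, hi]
  have bz : b ∉ zpowers z := by
    rintro ⟨j, rfl⟩
    exact c.z1 (inv_eq_one.1 (e2.symm.trans (ce.zpow_right j).commutator_eq))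
  rw [← mul_inv_cancel_left (e ^ (-i)) g, ← (hypW c).sup_zpowers hb bz]
  exact mul_mem (mem_sup_left (zpow_mem (mem_zpowers e) _)) (mem_sup_right
    (mem_cent ((ce.zpow_left _).inv_left.mul_left gz).eq (comm_of_eq e3)))

/-- A 3-element normalizing `V` normalizes `⟨z⟩` (`nz`), so centralizes `⟨z⟩` and `V / ⟨z⟩` (order 3); `unipV`. -/
theorem unipV' {g : G} {k : ℕ} (g3 : g ^ 3 ^ k = 1) (hg : g ∈ 𝐍[VV e z]) : g ∈ W ⊔ 𝐂[VV e z] := by
  exact c.unipV h (cent_z c.z1 c.z3 g3 (c.nz h hg)) (cent_mod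
    (Sig.hyp_of_card le_sup_right (by rw [card3 c.z1 c.z3, c.cardV h])) (elemAb_isPGroup c.eaV)
    (le_normalizer.trans (c.nz h)) g3 hg (c.nz h hg) (mem_sup_left (mem_zpowers e)))

/-- as `unipV'` -/
theorem unipW' {g : G} {k : ℕ} (g3 : g ^ 3 ^ k = 1) (hg : g ∈ 𝐍[W]) (gz : g ∈ 𝐍[zpowers z]) :
    g ∈ zpowers e ⊔ 𝐂[W] := by
  exact c.unipW h (cent_z c.z1 c.z3 g3 gz) fun w hw => cent_mod (hypW c) (elemAb_isPGroup c.eaW)
    (c.W_le.trans (c.nz h)) g3 hg gz hw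

/-- By `unipV'`, `x = w y` with `w ∈ W`, `y ∈ P ⊓ C(V)`; by `hyp` (`Hyp.sup_zpowers`, `not_cent`) `y = e ^ i u` with
`u ∈ P ⊓ C(W)` centralizing `e`. `F = ⟨e⟩ W` has class two and exponent 3 (`commW`, `Grp.CommPow`), `u` centralizes `F`, so
`u ^ 3 = 1` and `u ∈ ⟨z⟩` (`mem_z`). -/
theorem omega {x : G} (xP : x ∈ P) (xV : x ∈ 𝐍[VV e z]) (x3 : x ^ 3 = 1) : x ∈ zpowers e ⊔ W := by
  have : Fact (Nat.Prime 3) := ⟨Nat.prime_three⟩
  obtain ⟨w, hw, y, hy, rfl⟩ := (mem_sup_of_le_normalizer_right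
    (le_normalizer_centralizer c.W_le)).1 (c.unipV' h (k := 1) (by rwa [pow_one]) xV)
  have yP : y ∈ P := (mul_mem_cancel_left (c.WP hw)).1 xP
  rw [← (c.hyp h).sup_zpowers c.eP fun m => c.not_cent h m.2] at yP
  obtain ⟨u, hu, f, hf, rfl⟩ := (mem_sup_of_le_normalizer_left (zpowers_le.2
    (le_normalizer_inf le_normalizer (le_normalizer_centralizer c.nW) c.eP))).1 yP
  obtain ⟨i, rfl⟩ := mem_zpowers_iff.1 hf
  have ue : Commute u e := by
    have := (show Commute (u * e ^ i) e from (hy e (mem_sup_left (mem_zpowers e))).symm).mul_left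
      ((Commute.refl e).zpow_left i).inv_left
    rwa [mul_inv_cancel_right] at this
  have uw : Commute u w := (hu.2 w hw).symm
  obtain ⟨j, hj⟩ := mem_zpowers_iff.1 (c.commW (zpow_mem c.eP i) hw)
  have f3 : (w * e ^ i) ^ 3 = 1 := by
    rw [mul_pow_eq_of_odd (hj ▸ (show Commute z w from elemAb_comm c.eaW c.zW hw).zpow_left j)
      (hj ▸ (show Commute z e from c.ez.symm).zpow_zpow j i) (by decide)
      (hj ▸ c.eaW.2 _ (zpow_mem c.zW j)), c.eaW.2 w hw, c.eaV.2 _ (mem_sup_left hf), one_mul]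
  rw [← mul_assoc, ← uw.eq, mul_assoc] at x3 ⊢
  rw [(uw.mul_right (ue.zpow_right i)).mul_pow, f3, mul_one] at x3
  exact mul_mem (mem_sup_right (zpowers_le.2 c.zW (c.mem_z h x3 hu.2 ue)))
    (mul_mem (mem_sup_right hw) (mem_sup_left hf))

/-- `omega`, `mem_W`, orders -/
theorem uniqW {W' : Subgroup G} (ea : IsElementaryAbelian 3 W') (h9 : 9 ≤ Nat.card W') (gd : Gd W')
    (WP : W' ≤ P) (WV : W' ≤ 𝐍[VV e z]) : W' = W := by
  refine eq_of_le_of_card_ge (fun x hx => ?_) (c.cW.trans_le h9)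
  by_cases x1 : x = 1
  · rw [x1]; exact one_mem _
  · exact c.mem_W h (c.omega h (WP hx) (WV hx) (ea.2 x hx)) (gd x hx x1)

/-- If `z'` lies in `P` and commutes with `e` then it lies in `V` (`mem_V`) and is good, `z_uniq`; both have order 3. -/
theorem z_eq {z' : G} (z1 : z' ≠ 1) (z3 : z' ^ 3 = 1) (gz : Good z') (zP : z' ∈ P)
    (ze : z' * e = e * z') : zpowers z' = zpowers z := by
  exact eq_of_le_of_card_ge (zpowers_le.2 (c.z_uniq h
    (c.mem_V h z3 ze (mem_centralizer_singleton_iff.1 (c.cz zP))) gz))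
    ((card3 c.z1 c.z3).trans (card3 z1 z3).symm).le

/-- second step of `fuse` -/
theorem fuse2 {z' : G} {W' B' P' : Subgroup G} (c' : Cf e z' W' B' P') (hz : zpowers z = zpowers z') :
    ∃ k ∈ 𝐂[VV e z'], cj(k, W) = W' := by
  have : Fact (Nat.Prime 3) := ⟨Nat.prime_three⟩
  have nW : W ≤ 𝐍[VV e z'] := by
    have := c.W_le
    rwa [VV, hz] at this
  have hM : W ≤ W' ⊔ 𝐂[VV e z'] := fun w hw =>
    c'.unipV' h (k := 1) (by rw [pow_one]; exact c.eaW.2 w hw) (nW hw)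
  obtain ⟨S, hS, le⟩ := exists_isSyl_ge (c'.syl.pgrp.to_le (sup_le c'.WP c'.VP))
    (sup_le_sup_left (elemAb_le_centralizer c'.eaV) W')
  obtain ⟨m, hm, l⟩ := hS.exists_cj_le (elemAb_isPGroup c.eaW) hM
  obtain ⟨w, hw, k, hk, rfl⟩ :=
    (mem_sup_of_le_normalizer_right (le_normalizer_centralizer c'.W_le)).1 hm
  rw [cj_mul, cj_le_iff, cj_of_mem (inv_mem (le (mem_sup_left hw)))] at l
  obtain ⟨Q, hQ, SQ⟩ := exists_isSyl_ge hS.pgrp (le_top : S ≤ ⊤)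
  have VQ : VV e z' ≤ Q := (le_sup_right.trans le).trans SQ
  obtain ⟨z₄, W₄, B₄, c₄⟩ := h.exists_cf hQ (VQ (mem_sup_left (mem_zpowers e))) c.e3 c.e1 c.bad
  have e4 := c₄.z_eq h c'.z1 c'.z3 (c'.goodz h) (VQ (mem_sup_right (mem_zpowers z'))) c'.ez.symm
  have e5 : VV e z₄ = VV e z' := by rw [VV, ← e4]
  refine ⟨k, hk, (c₄.uniqW h (c.cj k).eaW (c.cj k).cW.ge ((c.cj k).gdW h) (l.trans SQ) ?_).trans
    (c₄.uniqW h c'.eaW c'.cW.ge (c'.gdW h) ((le_sup_left.trans le).trans SQ) ?_).symm⟩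
  · rw [e5]; exact cj_le_of_mem nW (centralizer_le_normalizer' _ hk)
  · rw [e5]; exact c'.W_le

/-- (1) `V₁ = ⟨e, z⟩`, `V₂ = ⟨e, z'⟩` are 3-subgroups of `C(e)`: for some `k₁ ∈ C(e)`, `k₁ V₁` and `V₂` lie in a Sylow
subgroup `S` of `C(e)`; `S ≤ P₃` Sylow in `G`, `exists_cf` for `e, P₃` and `z_eq` twice give `⟨k₁ z k₁⁻¹⟩ = ⟨z'⟩`.
Replace the first configuration by its conjugate (`cj`), so `V₁ = V₂ = V`.
(2) `W ≤ W' ⊔ C(V) =: M` (`unipV'` for the second configuration, `W_le`). Let `S' ≥ V ⊔ W'` be Sylow in `M`; some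
`m = w' k` (`w' ∈ W'`, `k ∈ C(V)`; `W'` normalizes `C(V)`) conjugates `W` into `S'`, so `k W ≤ S'`. `S' ≤ P₄` Sylow in `G`,
`exists_cf` for `e, P₄` with `⟨z₄⟩ = ⟨z'⟩` (`z_eq`), and `uniqW` twice: `k W = W₄ = W'`. -/
theorem fuse {z' : G} {W' B' P' : Subgroup G} (c' : Cf e z' W' B' P') :
    ∃ k, k * e = e * k ∧ cj(k, zpowers z) = zpowers z' ∧ cj(k, W) = W' := by
  have : Fact (Nat.Prime 3) := ⟨Nat.prime_three⟩
  have le : ∀ {z : G}, e * z = z * e → VV e z ≤ centralizer {e} := fun ez =>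
    sup_le (zpowers_le.2 (mem_centralizer_singleton_iff.2 rfl))
      (zpowers_le.2 (mem_centralizer_singleton_iff.2 ez.symm))
  obtain ⟨S, hS, VS⟩ := exists_isSyl_ge (elemAb_isPGroup c'.eaV) (le c'.ez)
  obtain ⟨k, hk, l⟩ := hS.exists_cj_le (elemAb_isPGroup c.eaV) (le c.ez)
  replace hk := mem_centralizer_singleton_iff.1 hk
  obtain ⟨Q, hQ, SQ⟩ := exists_isSyl_ge hS.pgrp (le_top : S ≤ ⊤)
  obtain ⟨z₃, W₃, B₃, c₃⟩ := h.exists_cf hQ (SQ (VS (mem_sup_left (mem_zpowers e)))) c.e3 c.e1 c.bad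
  have c₁ := c.cj k
  rw [hk, mul_inv_cancel_right] at c₁
  have e1 := (c₃.z_eq h c₁.z1 c₁.z3 (c₁.goodz h)
    (SQ (l (conj_mem_cj k (mem_sup_right (mem_zpowers z))))) c₁.ez.symm).trans
    (c₃.z_eq h c'.z1 c'.z3 (c'.goodz h) (SQ (VS (mem_sup_right (mem_zpowers z')))) c'.ez.symm).symm
  obtain ⟨k', hk', e2⟩ := c₁.fuse2 h c' e1
  refine ⟨k' * k, ?_, ?_, by rw [cj_mul, e2]⟩
  · rw [mul_assoc, hk, ← mul_assoc, ← hk' e (mem_sup_left (mem_zpowers e)), mul_assoc]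
  · rw [cj_mul, show cj(k, zpowers z) = zpowers (k * z * k⁻¹) from MonoidHom.map_zpowers _ _, e1]
    exact cj_of_mem_normalizer (centralizer_le_normalizer' _ (centralizer_anti le_sup_right hk'))

end Cf

end Cfsg.Agent.Msn
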