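import Cfsg.Agent.Msn.BL
import Cfsg.Agent.FT.BG7Base

/-! Mason's theorem: transitivity, and the end of the case `NG`. -/

set_option autoImplicit false
set_option linter.unusedSectionVars false

namespace Cfsg.Agent.Msn

open Subgroup Cfsg Cfsg.Agent.PLocal Cfsg.Agent.PLocal.Amb
open Cfsg.Agent.PLocal.CP (IsCharP)
open scoped commutatorElement

variable {G : Type*} [Group G] [Finite G]

theorem bf_relIndex {M C : Subgroup G} (h : M ≤ 𝐍[C]) : M.relIndex (M ⊔ C) = M.relIndex C := by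
  have h1 := Grp.card_mul_card_eq_of_le_normalizer h
  have h2 := Grp.card_mul_relIndex (le_sup_left : M ≤ M ⊔ C)
  have h3 := Grp.card_mul_relIndex (inf_le_right : M ⊓ C ≤ C)
  rw [inf_relIndex_right] at h3
  have p1 : 0 < Nat.card M := Nat.card_pos
  have p2 : 0 < Nat.card (M ⊓ C : Subgroup G) := Nat.card_pos
  apply Nat.eq_of_mul_eq_mul_left (Nat.mul_pos p1 p2)
  calc Nat.card M * Nat.card (M ⊓ C : Subgroup G) * M.relIndex (M ⊔ C)
      = Nat.card (M ⊓ C : Subgroup G) * (Nat.card M * M.relIndex (M ⊔ C)) := by ring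
    _ = Nat.card M * Nat.card C := by rw [h2, h1]
    _ = _ := by rw [← h3]; ring

omit [Finite G] in
theorem bf_sq {a : G} : centralizer ({a} : Set G) ≤ centralizer {a * a} := fun x hx =>
  mem_centralizer_singleton_iff.2 (by
    have := mem_centralizer_singleton_iff.1 hx
    rw [← mul_assoc, this, mul_assoc, this, mul_assoc])

namespace Cf

variable {e z : G} {W B P : Subgroup G} (h : Hy G) (ng : NG G) (c : Cf e z W B P)
  (hs : IsSyl 3 (P ⊓ centralizer {e}) (centralizer {e}))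

include c in
theorem bf_V : VV e z ≤ P ⊓ centralizer {e} :=
  le_inf c.VP (sup_le (zpowers_le.2 (mem_centralizer_singleton_iff.2 rfl))
    (zpowers_le.2 (mem_centralizer_singleton_iff.2 c.ez.symm)))

omit [Finite G] in
theorem bf_x (j : ℕ) : e * z ^ j ∈ VV e z :=
  mul_mem (mem_sup_left (mem_zpowers e)) (mem_sup_right (pow_mem (mem_zpowers z) j))

include h c in
theorem bf_x1 (j : ℕ) : e * z ^ j ≠ 1 := fun r =>
  c.e_not h (eq_inv_of_mul_eq_one_left r ▸ inv_mem (pow_mem c.zW j))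

include c in
theorem bf_C (j : ℕ) : P ⊓ centralizer {e} ≤ centralizer {e * z ^ j} := fun y hy =>
  mem_centralizer_singleton_iff.2
    ((Commute.mul_right (mem_centralizer_singleton_iff.1 hy.2)
      (Commute.pow_right (mem_centralizer_singleton_iff.1 (c.cz hy.1)) j)).eq)

include h c in
/-- `R ≠ ⊥` maximal: `P₀ ≤ N(R)` normalizes `O₂(N(R)) ≥ R`, so `O₂(N(R)) = R`, and `N(R)` has characteristic 2 (`ch2`), so
no `1 ≠ x ∈ V` centralizes `R` (`IsCharP.eq_one`). `R` is generated by the `C_R(v)`, `1 ≠ v ∈ V` (`Sig.le_of_cent1_le`), `C_R(z) = 1`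
(`fpf`), and every `v ∈ V \ ⟨z⟩` has `⟨v⟩ = ⟨e z ^ i⟩`, `i = 0, 1, 2`. If only `i` had `C_R(e z ^ i) ≠ 1` then
`R ≤ C(e z ^ i)`. -/
theorem support {R : Subgroup G} (hR : R ∈ maxInvSubgroups ⊤ (P ⊓ centralizer {e}) {2}) (R1 : R ≠ ⊥)
    (i : Fin 3) : ∃ j : Fin 3, j ≠ i ∧ R ⊓ centralizer {e * z ^ (j : ℕ)} ≠ ⊥ := by
  by_contra hc
  have hb : ∀ j : Fin 3, j ≠ i → R ⊓ centralizer {e * z ^ (j : ℕ)} = ⊥ := fun j hj => by
    by_contra ne
    exact hc ⟨j, hj, ne⟩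
  have pR : IsPGroup 2 R := (FT.B7.isPGroup_iff_primes Nat.prime_two).2 hR.1.2.1
  have VR : VV e z ≤ 𝐍[R] := c.bf_V.trans hR.1.2.2
  have eO : pCoreOf 2 𝐍[R] = R := hR.2 _ ⟨le_top,
    (FT.B7.isPGroup_iff_primes Nat.prime_two).1 (isPGroup_pCoreOf 2 _),
    hR.1.2.2.trans (le_normalizer_pCoreOf 2 _)⟩ (le_pCoreOf pR le_normalizer le_rfl)
  have A1 : ∀ n : ℕ, R ⊓ centralizer {e * z ^ n} ≤ centralizer {e * z ^ (i : ℕ)} := fun n => by
    rw [pow_eq_pow_mod n c.z3]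
    by_cases r : (⟨n % 3, Nat.mod_lt _ (by norm_num)⟩ : Fin 3) = i
    · rw [← r]; exact inf_le_right
    · exact (hb _ r).le.trans bot_le
  have cm : Commute e z := c.ez
  have le : R ≤ centralizer {e * z ^ (i : ℕ)} := by
    refine Sig.le_of_cent1_le c.eaV (c.cardV h).ge VR
      (Sig.not_dvd_of_isPGroup (by norm_num) pR) fun a ha a1 => ?_
    have Va : VV e z ≤ centralizer {a} := Sig.ea_le_cent1 c.eaV ha
    obtain ⟨x, hx, y, hy, rfl⟩ := (mem_sup_of_le_normalizer_right (zpowers_le.2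
      (centralizer_le_normalizer' _ (by
        rw [Amb.centralizer_zpowers]; exact mem_centralizer_singleton_iff.2 c.ez)))).1 ha
    obtain ⟨m, rfl⟩ := mem_powers_iff_mem_zpowers.2 hx
    obtain ⟨n, rfl⟩ := mem_powers_iff_mem_zpowers.2 hy
    simp only at a1 Va ⊢
    rw [pow_eq_pow_mod m c.e3] at a1 Va ⊢
    have := Nat.mod_lt m (show 0 < 3 by norm_num)
    generalize m % 3 = k at *
    interval_cases k
    · rw [pow_zero, one_mul] at a1 Va ⊢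
      refine (c.fpf h (pR.to_le inf_le_left) (le_normalizer_inf VR (Va.trans le_normalizer))
        (inf_le_right.trans ?_)).le.trans bot_le
      rw [pow_eq_pow_mod n c.z3] at a1 ⊢
      have := Nat.mod_lt n (show 0 < 3 by norm_num)
      generalize n % 3 = l at *
      interval_cases l
      · exact absurd (pow_zero z) a1
      · rw [pow_one]
      · refine bf_sq.trans ?_
        rw [← pow_add, show 2 + 2 = 3 + 1 from rfl, pow_succ, c.z3, one_mul]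
    · rw [pow_one]; exact A1 n
    · refine (inf_le_inf_left _ bf_sq).trans ?_
      rw [← sq, (cm.pow_pow 2 n).mul_pow, ← pow_mul, ← pow_mul, show 2 * 2 = 3 + 1 from rfl,
        pow_succ, c.e3, one_mul]
      exact A1 _
  refine c.bf_x1 h i ((h.ch2 R pR R1).eq_one (VR (bf_x i)) ?_ ?_)
  · exact Nat.Coprime.coprime_dvd_left (orderOf_dvd_of_pow_eq_one (c.eaV.2 _ (bf_x i)))
      (by norm_num)
  · rw [eO]
    exact fun r hr => mem_centralizer_singleton_iff.1 (le hr)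

include h ng c hs in
/-- As in `S1480` (copy its last 70 lines): induction on `|G| - |R₁ ⊓ R₂|`. Let `D = R₁ ⊓ R₂ < R₁, R₂`. It suffices to find a
`P₀`-invariant `3'`-group `Y` and `P₀`-invariant `Uᵢ ≤ Rᵢ ⊓ Y` with `D < Uᵢ` (`exists_maxInv_ge`, `maxInv_conj_of_coprime`).
If `D ≠ ⊥`: `Y = O_{3'}(N(D))`, `Uᵢ = Rᵢ ⊓ N(D)` (`le_core`). If `D = ⊥`: by `support` (two subsets of `Fin 3` with at least two
elements meet) some `x = e z ^ j` has `Uᵢ = Rᵢ ⊓ C(x) ≠ ⊥`, `Y = O_{3'}(C(x))` (`le_theta`; `P₀ ≤ C(x)`). -/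
theorem trans {R₁ R₂ : Subgroup G} (h₁ : R₁ ∈ maxInvSubgroups ⊤ (P ⊓ centralizer {e}) {2})
    (h₂ : R₂ ∈ maxInvSubgroups ⊤ (P ⊓ centralizer {e}) {2}) (n₁ : R₁ ≠ ⊥) (n₂ : R₂ ≠ ⊥) :
    ∃ k ∈ 𝐂[(P ⊓ centralizer {e} : Subgroup G)], cj(k, R₁) = R₂ := by
  have pE : IsPGroup 3 (P ⊓ centralizer {e} : Subgroup G) := hs.pgrp
  have pp : ∀ {H Q : Subgroup G}, Q ∈ maxInvSubgroups H (P ⊓ centralizer {e}) {2} → IsPGroup 2 Q :=
    fun hQ => (FT.B7.isPGroup_iff_primes Nat.prime_two).2 hQ.1.2.1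
  induction' hn : Nat.card G - Nat.card ↥(R₁ ⊓ R₂) using Nat.strong_induction_on with n ih
    generalizing R₁ R₂
  by_cases heq : R₁ = R₂
  · exact ⟨1, one_mem _, by rw [heq, cj_one]⟩
  have hlt₁ : R₁ ⊓ R₂ < R₁ := lt_of_le_of_ne inf_le_left fun r =>
    heq (h₁.2 R₂ h₂.1 (inf_eq_left.mp r)).symm
  have hlt₂ : R₁ ⊓ R₂ < R₂ := lt_of_le_of_ne inf_le_right fun r =>
    heq (h₂.2 R₁ h₁.1 (inf_eq_right.mp r))
  have hED : P ⊓ centralizer {e} ≤ 𝐍[(R₁ ⊓ R₂ : Subgroup G)] := le_normalizer_inf h₁.1.2.2 h₂.1.2.2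
  obtain ⟨X, hX, u₁, u₂⟩ : ∃ X : Subgroup G, P ⊓ centralizer {e} ≤ X ∧
      (R₁ ⊓ X ≤ (pPrimeCore 3 X).map X.subtype ∧ R₁ ⊓ R₂ < R₁ ⊓ X) ∧
      (R₂ ⊓ X ≤ (pPrimeCore 3 X).map X.subtype ∧ R₁ ⊓ R₂ < R₂ ⊓ X) := by
    by_cases D1 : R₁ ⊓ R₂ = ⊥
    · obtain ⟨a, -, ha⟩ := c.support h h₁ n₁ 0
      obtain ⟨b, ba, hb⟩ := c.support h h₁ n₁ a
      obtain ⟨k, hk⟩ := (by decide : ∀ a b : Fin 3, b ≠ a → ∃ k, ∀ j, j ≠ k → j = a ∨ j = b) a b ba
      obtain ⟨j, jk, hj⟩ := c.support h h₂ n₂ k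
      have hj' : R₁ ⊓ centralizer {e * z ^ (j : ℕ)} ≠ ⊥ := by
        rcases hk j jk with rfl | rfl
        exacts [ha, hb]
      have th : ∀ Q ∈ maxInvSubgroups ⊤ (P ⊓ centralizer {e}) {2},
          Q ⊓ centralizer {e * z ^ (j : ℕ)} ≤ centralizerPPrimeCore 3 (e * z ^ (j : ℕ)) :=
        fun Q hQ => c.le_theta h (bf_x j) (c.bf_x1 h j) ((pp hQ).to_le inf_le_left)
          (c.bf_V.trans (le_normalizer_inf hQ.1.2.2 ((c.bf_C j).trans le_normalizer))) inf_le_right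
      rw [D1]
      exact ⟨_, c.bf_C j, ⟨th _ h₁, bot_lt_iff_ne_bot.2 hj'⟩, th _ h₂, bot_lt_iff_ne_bot.2 hj⟩
    · have th : ∀ Q ∈ maxInvSubgroups ⊤ (P ⊓ centralizer {e}) {2},
          Q ⊓ 𝐍[(R₁ ⊓ R₂ : Subgroup G)] ≤ _ := fun Q hQ =>
        c.le_core h ng hs ((pp h₁).to_le inf_le_left) D1 hED ((pp hQ).to_le inf_le_left)
          inf_le_right (le_normalizer_inf hQ.1.2.2 (hED.trans le_normalizer))
      exact ⟨_, hED, ⟨th _ h₁, lt_inf_normalizer (pp h₁) hlt₁⟩, th _ h₂,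
        lt_inf_normalizer (pp h₂) hlt₂⟩
  have hEY : P ⊓ centralizer {e} ≤ 𝐍[(pPrimeCore 3 X).map X.subtype] :=
    hX.trans (le_normalizer_map_subtype _)
  have hcop := (Solv.coprime_card_of_isPGroup pE (Grp.map_pPrimeCore_coprime 3 X.subtype)).symm
  generalize (pPrimeCore 3 X).map X.subtype = Y at u₁ u₂ hEY hcop
  have key : ∀ Q ∈ maxInvSubgroups ⊤ (P ⊓ centralizer {e}) {2}, Q ⊓ X ≤ Y → R₁ ⊓ R₂ < Q ⊓ X →
      ∃ R ∈ maxInvSubgroups Y (P ⊓ centralizer {e}) {2}, R₁ ⊓ R₂ < Q ⊓ R := by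
    intro Q hQ h1 h2
    obtain ⟨R, hR, hUR⟩ := FT.B7.exists_maxInv_ge (H := Y) (A := P ⊓ centralizer {e})
      (Y := Q ⊓ X) (π := {2}) ⟨h1,
        (FT.B7.isPGroup_iff_primes Nat.prime_two).1 ((pp hQ).to_le inf_le_left),
        le_normalizer_inf hQ.1.2.2 (hX.trans le_normalizer)⟩
    exact ⟨R, hR, h2.trans_le (le_inf inf_le_left hUR)⟩
  obtain ⟨S₁, hS₁, hl₁⟩ := key R₁ h₁ u₁.1 u₁.2
  obtain ⟨S₂, hS₂, hl₂⟩ := key R₂ h₂ u₂.1 u₂.2
  obtain ⟨g, hg, hR⟩ := FT.B7.maxInv_conj_of_coprime hEY hcop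
    (Or.inl (Solv.isSolvable_of_isPGroup pE)) hS₁ hS₂
  obtain ⟨Q₃, h₃, hle₃⟩ := FT.B7.exists_maxInv_ge (H := ⊤) ⟨le_top, hS₂.1.2.1, hS₂.1.2.2⟩
  have h₁' : cj(g, R₁) ∈ _ := FT.B7.conj_mem_maxInv_top h₁ (centralizer_le_normalizer' _ hg.2)
  have e1 : cj(g, R₁ ⊓ S₁) ≤ cj(g, R₁) ⊓ Q₃ :=
    le_inf (cj_mono g inf_le_left) ((cj_mono g inf_le_right).trans (hR.ge.trans hle₃))
  have e2 : R₂ ⊓ S₂ ≤ Q₃ ⊓ R₂ := le_inf (inf_le_right.trans hle₃) inf_le_left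
  have c1 : Nat.card ↥(R₁ ⊓ R₂) < Nat.card ↥cj(g, R₁ ⊓ S₁) := by
    rw [card_cj]; exact Grp.card_lt_of_lt hl₁
  have c2 : Nat.card ↥(R₁ ⊓ R₂) < Nat.card ↥(R₂ ⊓ S₂) := Grp.card_lt_of_lt hl₂
  have n₃ : Q₃ ≠ ⊥ := ne_bot_of_gt (hl₂.trans_le (inf_le_right.trans hle₃))
  have hle : ∀ X : Subgroup G, Nat.card X ≤ Nat.card G := fun X => card_le_card_group X
  obtain ⟨k, hk, hk'⟩ := ih _ (by
      have := card_le_of_le e1
      have := hle (cj(g, R₁) ⊓ Q₃)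
      omega) h₁' h₃ (fun r => n₁ (cj_eq_bot.1 r)) n₃ rfl
  obtain ⟨f, hf, hf'⟩ := ih _ (by
      have := card_le_of_le e2
      have := hle (Q₃ ⊓ R₂)
      omega) h₃ h₂ n₃ n₂ rfl
  exact ⟨f * (k * g), mul_mem hf (mul_mem hk hg.2), by rw [cj_mul, cj_mul, hk', hf']⟩

include h ng c hs in
/-- A `P₀`-invariant Sylow 2-subgroup of `O_{3'}(C(e))` is non-trivial (`bad`, `Sig.exists_invSyl`); let `R` be a maximal
`P₀`-invariant 2-subgroup above it. `H = W ⊔ C(P₀)` normalizes `P₀` (`W_norm`), so by `trans` `H = C(P₀) (H ⊓ N(R))` and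
`[H : H ⊓ N(R)] = [C(P₀) : C(P₀) ⊓ N(R)]` is prime to 3 (`P₀ ≤ N(R)` is Sylow in `C(P₀) ≤ C(e)`, `abelian`). So a conjugate of
`W` normalizes `R` (`IsSyl.exists_cj_le`, `isSyl_of_not_dvd_relIndex`), against `NG` (`Gd.cj`). -/
theorem false : False := by
  have hθ : P ⊓ centralizer {e} ≤ 𝐍[centralizerPPrimeCore 3 e] :=
    inf_le_right.trans (le_normalizer_map_subtype _)
  obtain ⟨S, hS, nS⟩ := Sig.exists_invSyl hθ
    (Solv.coprime_card_of_isPGroup hs.pgrp (Grp.map_pPrimeCore_coprime 3 _)).symm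
    (Or.inl (Solv.isSolvable_of_isPGroup hs.pgrp)) 2
  obtain ⟨R, hR, SR⟩ := FT.B7.exists_maxInv_ge (H := ⊤) (π := {2})
    ⟨le_top, (FT.B7.isPGroup_iff_primes Nat.prime_two).1 hS.pgrp, nS⟩
  have R1 : R ≠ ⊥ := fun r => c.bad (hS.eq_bot_iff.1 (le_bot_iff.1 (r ▸ SR)))
  have pR : IsPGroup 2 R := (FT.B7.isPGroup_iff_primes Nat.prime_two).2 hR.1.2.1
  have ab := c.abelian h
  have Ce : 𝐂[(P ⊓ centralizer {e} : Subgroup G)] ≤ centralizer {e} := fun x hx =>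
    mem_centralizer_singleton_iff.2
      (hx e ⟨c.eP, mem_centralizer_singleton_iff.2 rfl⟩).symm
  have HN : W ⊔ 𝐂[(P ⊓ centralizer {e} : Subgroup G)] ≤ 𝐍[(P ⊓ centralizer {e} : Subgroup G)] :=
    sup_le (c.W_norm h) (centralizer_le_normalizer' _)
  have tr := fun g hg => c.trans h ng hs hR (FT.B7.conj_mem_maxInv_top hR (g := g) hg) R1
    fun r => R1 (cj_eq_bot.1 r)
  have sy := hs.mono ab Ce
  have nC := HN.trans (normalizer_le_normalizer_centralizer _)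
  have nR := hR.1.2.2
  generalize 𝐂[(P ⊓ centralizer {e} : Subgroup G)] = C at *
  have eH : (W ⊔ C) ⊓ 𝐍[R] ⊔ C = W ⊔ C := by
    refine le_antisymm (sup_le inf_le_left le_sup_right) fun g hg => ?_
    obtain ⟨k, hk, ek⟩ := tr g (HN hg)
    have m : k⁻¹ * g ∈ 𝐍[R] := cj_eq_iff.1 (by
      rw [cj_mul]
      exact (congrArg (fun Q => cj(k⁻¹, Q)) ek.symm).trans (cj_inv_cj k R))
    have := mul_mem (mem_sup_right hk : k ∈ (W ⊔ C) ⊓ 𝐍[R] ⊔ C)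
      (mem_sup_left ⟨(W ⊔ C).mul_mem ((W ⊔ C).inv_mem (mem_sup_right hk)) hg, m⟩)
    rwa [mul_inv_cancel_left] at this
  obtain ⟨T, hT⟩ := exists_isSyl 3 ((W ⊔ C) ⊓ 𝐍[R])
  have hT' : IsSyl 3 T (W ⊔ C) := by
    refine isSyl_of_not_dvd_relIndex hT.pgrp (hT.le.trans inf_le_left) fun d => ?_
    rw [← relIndex_mul_relIndex T _ _ hT.le inf_le_left] at d
    rcases (Nat.Prime.dvd_mul Nat.prime_three).1 d with d | d
    · exact hT.not_dvd_relIndex d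
    · have r := bf_relIndex (M := (W ⊔ C) ⊓ 𝐍[R]) (inf_le_left.trans nC)
      rw [eH] at r
      rw [r] at d
      exact sy.not_dvd_relIndex (d.trans
        (relIndex_dvd_of_le_left _ (le_inf (ab.trans le_sup_right) nR)))
  obtain ⟨g, -, hg⟩ := hT'.exists_cj_le (elemAb_isPGroup c.eaW) le_sup_left
  exact R1 (ng cj(g, W) R (isEA_map c.eaW _) (by rw [card_cj, c.cW]) ((c.gdW h).cj g) pR
    (hg.trans (hT.le.trans inf_le_right)))

end Cf

/-- `P₀` Sylow in `C(e)`, `P₀ ≤ P` Sylow in `G`, `P ⊓ C(e) = P₀`, `exists_cf`, `Cf.false` -/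
theorem Hy.good_of_NG (h : Hy G) (ng : NG G) {e : G} (e3 : e ^ 3 = 1) (e1 : e ≠ 1) : Good e := by
  by_contra bad
  have p : IsPGroup 3 (zpowers e) := isPGroup_zpowers ⟨1, by rwa [pow_one]⟩
  obtain ⟨S, hS, eS⟩ := exists_isSyl_ge p
    (zpowers_le.2 (mem_centralizer_singleton_iff.2 rfl) : zpowers e ≤ centralizer {e})
  obtain ⟨P, hP, SP⟩ := exists_isSyl_ge hS.pgrp (le_top : S ≤ ⊤)
  obtain ⟨z, W, B, c⟩ := h.exists_cf hP (SP (eS (mem_zpowers e))) e3 e1 bad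
  refine c.false h ng ?_
  rw [hS.eq (hP.pgrp.to_le inf_le_left) (le_inf SP hS.le) inf_le_right]
  exact hS

end Cfsg.Agent.Msn
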