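import Cfsg.Agent.Msn.BM
import Cfsg.Agent.S3347
import Cfsg.Agent.S0075
import Cfsg.Agent.FT.PRank
import Cfsg.Agent.PLocal.UpperP

/-! Mason's theorem: 2-local subgroups containing `C_P(e)`. -/

set_option autoImplicit false
set_option linter.unusedSectionVars false

namespace Cfsg.Agent.Msn

open Subgroup Cfsg Cfsg.Agent.PLocal Cfsg.Agent.PLocal.Amb
open Cfsg.Agent.PLocal.CP (IsCharP)
open scoped commutatorElement

variable {G : Type*} [Group G] [Finite G]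

theorem bl_eq_one {y : G} (h : ∀ n : ℕ, (y ^ n) ^ 3 = 1 → y ^ n = 1) :
    ∀ k : ℕ, y ^ 3 ^ k = 1 → y = 1
  | 0, e => by simpa using e
  | k + 1, e => bl_eq_one h k (h _ (by rw [← pow_mul, ← pow_succ, e]))

/-- An abelian non-cyclic Sylow 3-subgroup centralized or inverted by each element of its normalizer
lies in `O_{3',3}`. -/
theorem bl_le (Q : Sylow 3 G) (ab : IsMulCommutative (Q : Subgroup G))
    (nc : ¬ IsCyclic (Q : Subgroup G))
    (hn : ∀ n ∈ 𝐍[(Q : Subgroup G)], (∀ x ∈ (Q : Subgroup G), n * x * n⁻¹ = x) ∨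
      ∀ x ∈ (Q : Subgroup G), n * x * n⁻¹ = x⁻¹) : (Q : Subgroup G) ≤ pPrimePCore 3 G := by
  have hl : PLengthLE 3 1 G := by
    by_cases ex : ∃ t ∈ 𝐍[(Q : Subgroup G)], ∀ x ∈ (Q : Subgroup G), t * x * t⁻¹ = x⁻¹
    · exact Block.InvHyp.pLength (P := Q) ⟨ab, nc, hn, ex⟩ (by norm_num)
    · have hc : 𝐍[(Q : Subgroup G)] ≤ 𝐂[(Q : Subgroup G)] := fun n m =>
        Block.mem_centralizer_iff_conj.2 ((hn n m).resolve_right fun k => ex ⟨n, m, k⟩)
      exact PLengthLE.of_ker_coprime (pLengthLE_one_of_isPGroup Q.isPGroup')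
        (MonoidHom.transferSylow Q hc) ((Nat.Prime.coprime_iff_not_dvd Nat.prime_three).2
          (MonoidHom.not_dvd_card_ker_transferSylow Q hc)).symm
  rw [pLengthLE_succ_iff, pLengthLE_zero_iff] at hl
  intro x hx
  rw [← QuotientGroup.eq_one_iff]
  exact eq_one_of_isPGroup_of_coprime (Q.isPGroup'.map (QuotientGroup.mk' (pPrimePCore 3 G)))
    (mem_map_of_mem _ hx) (Nat.Coprime.coprime_dvd_left (orderOf_dvd_natCard _) hl)

/-- a 2-group normalized without fixed points by an element of `O_{3',3}` lies in `O_{3'}` -/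
theorem bl_core {T : Subgroup G} (hT : IsPGroup 2 T) {z : G} (hz : z ∈ pPrimePCore 3 G)
    (hn : z ∈ 𝐍[T]) (hf : ∀ x ∈ T, x * z = z * x → x = 1) : T ≤ pPrimeCore 3 G := by
  let f : T → T := fun x => ⟨x * (z * (x : G)⁻¹ * z⁻¹),
    mul_mem x.2 (conj_mem_of_mem_normalizer hn (inv_mem x.2))⟩
  have hi : Function.Injective f := by
    intro x y e
    have e' : (x : G) * (z * (x : G)⁻¹ * z⁻¹) = y * (z * (y : G)⁻¹ * z⁻¹) := congrArg Subtype.val e
    have h1 := hf ((y : G)⁻¹ * x) (mul_mem (inv_mem y.2) x.2) (by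
      calc (y : G)⁻¹ * x * z = (y : G)⁻¹ * (x * (z * (x : G)⁻¹ * z⁻¹)) * (z * x) := by group
        _ = z * ((y : G)⁻¹ * x) := by rw [e']; group)
    exact Subtype.ext (inv_mul_eq_one.1 h1).symm
  intro t ht
  obtain ⟨x, hx⟩ := Finite.injective_iff_surjective.1 hi ⟨t, ht⟩
  have e : t = (x : G) * z * (x : G)⁻¹ * z⁻¹ := by
    rw [← show (x : G) * (z * (x : G)⁻¹ * z⁻¹) = t from congrArg Subtype.val hx]; group
  have hN : (pPrimePCore 3 G).Normal := by unfold pPrimePCore; infer_instance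
  have h1 : t ∈ pPrimePCore 3 G := e ▸ mul_mem (hN.conj_mem z hz x) (inv_mem hz)
  rw [← QuotientGroup.eq_one_iff]
  refine eq_one_of_isPGroup_of_coprime (isPGroup_pCore' 3 _) h1 ?_
  obtain ⟨k, hk⟩ := isPGroup_iff.1 hT t ht
  have h2 : orderOf (t : G ⧸ pPrimeCore 3 G) ∣ 2 ^ k :=
    orderOf_dvd_of_pow_eq_one (by rw [← QuotientGroup.mk_pow, hk, QuotientGroup.mk_one])
  exact Nat.Coprime.coprime_dvd_left h2 (Nat.Coprime.pow_left k (by norm_num))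

namespace Cf

variable {e z : G} {W B P : Subgroup G} (h : Hy G) (ng : NG G) (c : Cf e z W B P)

include h c in
theorem bl_dec {x : G} (hx : x ∈ P ⊓ centralizer {e}) :
    ∃ u ∈ (P ⊓ centralizer {e}) ⊓ 𝐂[W], ∃ a ∈ zpowers e, x = u * a := by
  have h1 := (c.hyp h).sup_zpowers c.eP fun m => c.not_cent h m.2
  have h2 : zpowers e ≤ 𝐍[(P ⊓ 𝐂[W] : Subgroup G)] := (zpowers_le.2 c.eP).trans
    (le_normalizer_inf le_normalizer (le_normalizer_centralizer c.nW))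
  obtain ⟨u, hu, a, ha, rfl⟩ := (mem_sup_of_le_normalizer_left h2).1 (h1 ▸ hx.1)
  have h3 : a ∈ centralizer ({e} : Set G) :=
    zpowers_le.2 (mem_centralizer_singleton_iff.2 rfl) ha
  exact ⟨u, ⟨⟨hu.1, (mul_mem_cancel_right h3).1 hx.2⟩, hu.2⟩, a, ha, rfl⟩

include c in
theorem bl_V : VV e z ≤ P ⊓ centralizer {e} :=
  le_inf c.VP (sup_le (zpowers_le.2 (mem_centralizer_singleton_iff.2 rfl))
    (zpowers_le.2 (mem_centralizer_singleton_iff.2 c.ez.symm)))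

include h c in
theorem bl_mem {x : G} (hx : x ∈ P ⊓ centralizer {e}) (x3 : x ^ 3 = 1) : x ∈ VV e z :=
  c.mem_V h x3 (mem_centralizer_singleton_iff.1 hx.2) (mem_centralizer_singleton_iff.1 (c.cz hx.1))

include h c in
theorem bl_nV : 𝐍[(P ⊓ centralizer {e} : Subgroup G)] ≤ 𝐍[VV e z] := fun g hg =>
  mem_normalizer_of_cj_le (cj_le_iff_forall.2 fun v hv =>
    c.bl_mem h (conj_mem_of_mem_normalizer hg (c.bl_V hv))
      (by rw [conj_pow, c.eaV.2 v hv, mul_one, mul_inv_cancel]))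

include h c in
/-- `P₀ = ⟨e⟩ Y` with `Y = P₀ ⊓ C(W)` (`hyp`); every element of order 3 of `Y` lies in `⟨z⟩` (`mem_z`), so the 3-group
`Y` is cyclic (a `p`-group, `p` odd, with at most one subgroup of order `p`; library), and `e` is central. -/
theorem abelian : P ⊓ centralizer {e} ≤ 𝐂[(P ⊓ centralizer {e} : Subgroup G)] := by
  have hc : IsCyclic ↥((P ⊓ centralizer {e}) ⊓ 𝐂[W]) :=
    FT.R2.isCyclic_of_pow_eq_one_mem (p := 3) (by norm_num)
      (c.syl.pgrp.to_le (inf_le_left.trans inf_le_left))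
      (Sig.ea_card_zpowers c.eaW c.zW c.z1).le
      fun x hx x3 => c.mem_z h x3 hx.2 (mem_centralizer_singleton_iff.1 hx.1.2)
  have he : ∀ a ∈ zpowers e, ∀ y ∈ P ⊓ centralizer {e}, Commute a y := fun a ha y hy => by
    obtain ⟨n, rfl⟩ := mem_zpowers_iff.1 ha
    exact Commute.zpow_left (mem_centralizer_singleton_iff.1 hy.2).symm n
  intro x hx y hy
  obtain ⟨u, hu, a, ha, rfl⟩ := c.bl_dec h hx
  obtain ⟨u', hu', a', ha', e'⟩ := c.bl_dec h hy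
  have h1 : Commute u u' := by
    have := hc.isMulCommutative
    exact setLike_mul_comm hu hu'
  have h2 : Commute u y := e' ▸ h1.mul_right (he a' ha' u hu.1).symm
  exact (h2.mul_left (he a ha y hy)).symm

include h c in
/-- `W` normalizes `P₀ = ⟨e⟩ Y`: it centralizes `Y` and `⁅w, e⁆ ∈ ⟨z⟩ ≤ P₀` -/
theorem W_norm : W ≤ 𝐍[(P ⊓ centralizer {e} : Subgroup G)] := by
  intro w hw
  refine mem_normalizer_of_cj_le (cj_le_iff_forall.2 fun x hx => ?_)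
  obtain ⟨u, hu, a, ha, rfl⟩ := c.bl_dec h hx
  have h1 : w * u = u * w := hu.2 w hw
  have h2 : w * a * w⁻¹ ∈ VV e z := conj_mem_of_mem_normalizer (c.W_le hw) (mem_sup_left ha)
  have h3 : w * (u * a) * w⁻¹ = u * (w * a * w⁻¹) := by
    rw [← mul_assoc w, h1]; group
  rw [h3]
  exact mul_mem hu.1 (c.bl_V h2)

include h ng c in
/-- Let `P₀ ≤ S` Sylow in `L = N(I)`, `S ≤ P₁` Sylow in `G`, `Cf e z₁ W₁ B₁ P₁`; `P₁ ⊓ C(e) = P₀` (`hs`), `⟨z₁⟩ = ⟨z⟩`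
(`z_eq`). If `P₀ < S` pick `x ∈ N_S(P₀) \ P₀`. `x` normalizes `V` (the elements of order 3 of `P₀`, `mem_V`), so `x = w y` with
`w ∈ W₁`, `y ∈ P₁ ⊓ C(V) ≤ P₀` (`unipV'`); `w ∈ S`, `w ∉ ⟨z⟩`, so `W₁ = ⟨w, z⟩ ≤ S ≤ N(I)`, against `NG`. -/
theorem syl_local (hs : IsSyl 3 (P ⊓ centralizer {e}) (centralizer {e})) {I : Subgroup G}
    (hI : IsPGroup 2 I) (I1 : I ≠ ⊥) (hn : P ⊓ centralizer {e} ≤ 𝐍[I]) :
    IsSyl 3 (P ⊓ centralizer {e}) 𝐍[I] := by
  refine isSyl_of_isSyl_normalizer ⟨le_inf hn le_normalizer, hs.pgrp, fun R hR h1 h2 x hx => ?_⟩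
  obtain ⟨P₁, hP₁, RP⟩ := exists_isSyl_ge hR (le_top : R ≤ ⊤)
  have eP0 : e ∈ P ⊓ centralizer {e} := ⟨c.eP, mem_centralizer_singleton_iff.2 rfl⟩
  obtain ⟨z₁, W₁, B₁, c₁⟩ := h.exists_cf hP₁ (RP (h1 eP0)) c.e3 c.e1 c.bad
  have e0 : P₁ ⊓ centralizer {e} = P ⊓ centralizer {e} :=
    hs.eq (hP₁.pgrp.to_le inf_le_left) (le_inf (h1.trans RP) inf_le_right) inf_le_right
  have xV : x ∈ 𝐍[VV e z₁] := c₁.bl_nV h (by rw [e0]; exact (h2 hx).2)
  obtain ⟨k, hk⟩ := isPGroup_iff.1 hR x hx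
  obtain ⟨w, hw, y, hy, rfl⟩ := (mem_sup_of_le_normalizer_right
    (le_normalizer_centralizer c₁.W_le)).1 (c₁.unipV' h hk xV)
  have y0 : y ∈ P ⊓ centralizer {e} := e0 ▸ ⟨(mul_mem_cancel_left (c₁.WP hw)).1 (RP hx),
    mem_centralizer_singleton_iff.2 (hy e (mem_sup_left (mem_zpowers e))).symm⟩
  have z0 : zpowers z₁ ≤ P ⊓ centralizer {e} := e0 ▸ le_sup_right.trans c₁.bl_V
  have wR : w ∈ R := (mul_mem_cancel_right (h1 y0)).1 hx
  by_cases hz : w ∈ zpowers z₁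
  · exact mul_mem (z0 hz) y0
  have zW : zpowers z₁ ≤ W₁ := zpowers_le.2 c₁.zW
  have AW : zpowers z₁ ⊔ zpowers w ≤ W₁ := sup_le zW (zpowers_le.2 hw)
  have h9 := KM.card_ext (elemAb_mono c₁.eaW zW) (Sig.ea_le_cent c₁.eaW zW hw) (c₁.eaW.2 w hw) hz
  rw [Sig.ea_card_zpowers c₁.eaW c₁.zW c₁.z1] at h9
  exact absurd (ng _ I (elemAb_mono c₁.eaW AW) h9 ((c₁.gdW h).mono AW) hI
    ((sup_le (z0.trans h1) (zpowers_le.2 wR)).trans (h2.trans inf_le_left))) I1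

include h ng c in
/-- `L = N(I)`, `P₀` is an abelian non-cyclic (`≥ V`) Sylow 3-subgroup of `L` (`syl_local`, `abelian`). Every `g ∈ N_L(P₀)`
is a product of an element of `P₀` and a `3'`-element `g'` (a power of `g`), which centralizes or inverts `V = Ω₁(P₀)`
(`aut`); if it centralizes `V` it centralizes `P₀` (`Grp.CritExp.mem_centralizer_of_fix`). So `[N_L(P₀) : C_L(P₀)] ≤ 2`.
Index 1: Burnside (`MonoidHom.ker_transferSylow_isComplement'`), the normal complement is a `3'`-group containing `T`.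
Index 2: `g'` inverts `V`, so `C_{P₀}(g') = 1` and `x ↦ ⁅x, g'⁆` is injective on `P₀`: `⁅P₀, N⁆ = P₀`, so `P₀ ≤ O^3(L)`
(`S0075`) and `O^3(L) = L` (`IsSyl.pRes_sup`). By `S3347` `L = O_{3',3,3'}(L)`, so `z ∈ P₀ ≤ O_{3',3}(L)`.
`C_T(z) = 1` (`fpf`), so `x ↦ ⁅x, z⁆` is a bijection of `T`, `T ≤ O_{3',3}(L)`, and the 2-group `T` lies in `O_{3'}(L)`. -/
theorem le_core (hs : IsSyl 3 (P ⊓ centralizer {e}) (centralizer {e})) {I T : Subgroup G}
    (hI : IsPGroup 2 I) (I1 : I ≠ ⊥) (hn : P ⊓ centralizer {e} ≤ 𝐍[I]) (hT : IsPGroup 2 T)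
    (TI : T ≤ 𝐍[I]) (nT : P ⊓ centralizer {e} ≤ 𝐍[T]) :
    T ≤ (pPrimeCore 3 𝐍[I]).map (𝐍[I]).subtype := by
  have syl := c.syl_local h ng hs hI I1 hn
  have ab := c.abelian h
  have cen : ∀ g ∈ 𝐍[(P ⊓ centralizer {e} : Subgroup G)], (orderOf g).Coprime 3 → g ∈ 𝐂[VV e z] →
      g ∈ 𝐂[(P ⊓ centralizer {e} : Subgroup G)] := fun g hg ho hc =>
    Grp.CritExp.mem_centralizer_of_fix hs.pgrp hg ho fun x hx x3 => hc x (c.bl_mem h hx x3)
  have cop : ∀ g ∈ 𝐍[(P ⊓ centralizer {e} : Subgroup G)], (orderOf g).Coprime 3 →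
      (∀ x ∈ P ⊓ centralizer {e}, g * x * g⁻¹ = x) ∨
        ∀ x ∈ P ⊓ centralizer {e}, g * x * g⁻¹ = x⁻¹ := by
    intro g hg ho
    refine (c.aut h ng (c.bl_nV h hg) ho).imp
      (fun k => Block.mem_centralizer_iff_conj.1 (cen g hg ho k)) fun k x hx => ?_
    have h2 := Block.mem_centralizer_iff_conj.1 (cen (g ^ 2) (pow_mem hg 2)
      (Nat.Coprime.coprime_dvd_left (orderOf_pow_dvd 2) ho)
      (Block.mem_centralizer_iff_conj.2 fun v hv => by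
        calc g ^ 2 * v * (g ^ 2)⁻¹ = g * (g * v * g⁻¹) * g⁻¹ := by rw [sq]; group
          _ = v := by rw [k v hv, k _ (inv_mem hv), inv_inv])) x hx
    have hy := conj_mem_of_mem_normalizer hg hx
    have hf : g * (x * (g * x * g⁻¹)) * g⁻¹ = x * (g * x * g⁻¹) := by
      calc g * (x * (g * x * g⁻¹)) * g⁻¹ = (g * x * g⁻¹) * (g ^ 2 * x * (g ^ 2)⁻¹) := by
            rw [sq]; group
        _ = x * (g * x * g⁻¹) := by rw [h2]; exact ab hx _ hy
    obtain ⟨n, hn⟩ := isPGroup_iff.1 hs.pgrp _ (mul_mem hx hy)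
    refine eq_inv_of_mul_eq_one_right (bl_eq_one (fun m hm => ?_) n hn)
    have h3 := k _ (c.bl_mem h (pow_mem (mul_mem hx hy) m) hm)
    rw [← conj_pow, hf] at h3
    exact KM.eq_one_of_inv (p := 3) (k := 1) (by norm_num) (by rw [pow_one, hm]) h3
  have act : ∀ g ∈ 𝐍[I], g ∈ 𝐍[(P ⊓ centralizer {e} : Subgroup G)] →
      (∀ x ∈ P ⊓ centralizer {e}, g * x * g⁻¹ = x) ∨
        ∀ x ∈ P ⊓ centralizer {e}, g * x * g⁻¹ = x⁻¹ := by
    intro g gI hg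
    obtain ⟨k, hk⟩ := exists_pow_coprime (p := 3) g
    obtain ⟨i, j, hij⟩ := Nat.isCoprime_iff_coprime.2 (Nat.Coprime.pow_right k hk)
    have ha : g ^ orderOf (g ^ 3 ^ k) ∈ P ⊓ centralizer {e} :=
      syl.le_of_normalizes (isPGroup_zpowers ⟨k, by
        rw [← pow_mul, mul_comm, pow_mul, pow_orderOf_eq_one]⟩) (zpowers_le.2 (pow_mem gI _))
        (zpowers_le.2 (pow_mem hg _)) (mem_zpowers _)
    have e1 : g = (g ^ 3 ^ k) ^ j * (g ^ orderOf (g ^ 3 ^ k)) ^ i := by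
      generalize orderOf (g ^ 3 ^ k) = m at hij
      rw [← zpow_natCast g (3 ^ k), ← zpow_natCast g m, ← zpow_mul, ← zpow_mul, ← zpow_add,
        mul_comm _ j, mul_comm _ i, add_comm, hij, zpow_one]
    have h2 := Block.mem_centralizer_iff_conj.1 (ab (zpow_mem ha i))
    have h3 : ∀ x ∈ P ⊓ centralizer {e},
        g * x * g⁻¹ = (g ^ 3 ^ k) ^ j * x * ((g ^ 3 ^ k) ^ j)⁻¹ := fun x hx => by
      generalize (g ^ 3 ^ k) ^ j = b at e1
      generalize (g ^ orderOf (g ^ 3 ^ k)) ^ i = a at e1 h2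
      calc g * x * g⁻¹ = b * (a * x * a⁻¹) * b⁻¹ := by rw [e1]; group
        _ = b * x * b⁻¹ := by rw [h2 x hx]
    exact (cop _ (zpow_mem (pow_mem hg _) j) (Nat.Coprime.coprime_dvd_left
      (orderOf_dvd_of_mem_zpowers (zpow_mem_zpowers _ j)) hk)).imp
      (fun m x hx => (h3 x hx).trans (m x hx)) fun m x hx => (h3 x hx).trans (m x hx)
  obtain ⟨Q, hQ⟩ := syl.exists_sylow
  have hQm : (Q : Subgroup 𝐍[I]).map (𝐍[I]).subtype = P ⊓ centralizer {e} := by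
    rw [hQ, map_subgroupOf_of_le hn]
  have mQ : ∀ x : 𝐍[I], x ∈ (Q : Subgroup 𝐍[I]) ↔ (x : G) ∈ P ⊓ centralizer {e} := fun x => by
    rw [hQ, mem_subgroupOf]
  have hle : (Q : Subgroup 𝐍[I]) ≤ pPrimePCore 3 𝐍[I] := by
    refine bl_le Q ⟨⟨fun x y => Subtype.ext (Subtype.ext (ab ((mQ _).1 y.2) _ ((mQ _).1 x.2)))⟩⟩
      (fun hc => ?_) fun n hn => ?_
    · refine FT.R2.not_isCyclic_of_elem c.eaV (by rw [c.cardV h]; norm_num) c.bl_V ?_
      rw [← hQm]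
      exact isCyclic_of_surjective _ ((𝐍[I]).subtype.subgroupMap_surjective _)
    · rw [normalizer_eq_subgroupOf, hQm, mem_subgroupOf] at hn
      exact (act n n.2 hn).imp (fun m x hx => Subtype.ext (m x ((mQ x).1 hx)))
        fun m x hx => Subtype.ext (m x ((mQ x).1 hx))
  have z0 : z ∈ P ⊓ centralizer {e} := c.bl_V (mem_sup_right (mem_zpowers z))
  have h0 : T ⊓ centralizer {z} = ⊥ := c.fpf h (hT.to_le inf_le_left)
    (le_normalizer_inf (c.bl_V.trans nT) ((c.VP.trans c.cz).trans le_normalizer)) inf_le_right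
  have h1 := bl_core (Amb.isPGroup_subgroupOf hT 𝐍[I]) (hle ((mQ ⟨z, hn z0⟩).2 z0))
    (by rw [normalizer_eq_subgroupOf, map_subgroupOf_of_le TI, mem_subgroupOf]; exact nT z0)
    fun x hx e1 => Subtype.ext (mem_bot.1 (h0 ▸ (⟨hx, mem_centralizer_singleton_iff.2
      (congrArg Subtype.val e1)⟩ : (x : G) ∈ T ⊓ centralizer {z})))
  rwa [subgroupOf_le_iff, inf_eq_left.2 TI] at h1

end Cf

end Cfsg.Agent.Msn
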