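import Cfsg.Agent.Msn.BB
import Cfsg.Agent.Transfer.ThompsonTransfer

/-! Mason's theorem: transfer. -/

set_option autoImplicit false
set_option linter.unusedSectionVars false

namespace Cfsg.Agent.Msn

open Subgroup Cfsg Cfsg.Agent.PLocal Cfsg.Agent.PLocal.Amb
open Cfsg.Agent.PLocal.CP (IsCharP)
open scoped commutatorElement

variable {G : Type*} [Group G] [Finite G]

omit [Finite G] in
theorem exists_hom3 {P H : Subgroup G} (hH : Sig.Hyp 3 H P) (hn : P ≤ 𝐍[H]) :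
    ∃ φ : P →* Multiplicative (ZMod 3), ∀ x, φ x = 1 ↔ (x : G) ∈ H := by
  have := (normal_subgroupOf_iff_le_normalizer hH.1).2 hn
  have : Fact (Nat.Prime 3) := ⟨Nat.prime_three⟩
  let f : P ⧸ H.subgroupOf P ≃* Multiplicative (ZMod 3) := mulEquivOfPrimeCardEq (p := 3) hH.2 (by simp)
  exact ⟨f.toMonoidHom.comp (QuotientGroup.mk' _), fun x => f.map_eq_one_iff.trans (QuotientGroup.eq_one_iff x)⟩

/-- Transfer `G → P / H` (order 3; Mathlib `MonoidHom.transfer`,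
`MonoidHom.transfer_eq_prod_quotient_orbitRel_zpowers_quot`): the orbits of `⟨e⟩` on `G ⧸ P` have length 1 or 3; an
orbit of length 3 contributes a conjugate of `e ^ 3 = 1`, a fixed point contributes `g⁻¹ e g ≡ e` mod `H`. More
uniformly each orbit of length `n` contributes `φ(e) ^ n`, so the transfer of `e` is `φ(e) ^ [G : P] ≠ 1`. The kernel
has index 3. -/
theorem transfer3 {P H : Subgroup G} (hP : IsSyl 3 P ⊤) (hH : Sig.Hyp 3 H P) (hn : P ≤ 𝐍[H]) {e : G}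
    (eP : e ∈ P) (eH : e ∉ H) (e3 : e ^ 3 = 1)
    (hf : ∀ g : G, g * e * g⁻¹ ∈ P → g * e * g⁻¹ * e⁻¹ ∈ H) :
    ∃ N : Subgroup G, N.Normal ∧ N.index = 3 := by
  have t3 : ∀ t : Multiplicative (ZMod 3), t ^ 3 = 1 := by decide
  have : Fact (Nat.Prime 3) := ⟨Nat.prime_three⟩
  obtain ⟨φ, hφ⟩ := exists_hom3 hH hn
  have k := Transfer.transfer_eq_pow_of_forall φ e (φ ⟨e, eP⟩) fun g k hk => by
    by_cases h3 : k % 3 = 0
    · rw [pow_eq_pow_mod k (t3 _), h3, pow_zero, ← map_one φ]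
      congr 1
      exact Subtype.ext (by simp [pow_eq_pow_mod k e3, h3])
    have e1 : (g⁻¹ * e * g) ^ k = g⁻¹ * e ^ k * g := by simpa using conj_pow (a := g⁻¹) (b := e) (i := k)
    have m : g⁻¹ * e * g ∈ P := by
      have := pow_mem hk k
      rw [← e1, ← pow_mul, pow_eq_pow_mod (n := 3) _ (by simpa [e3] using conj_pow (a := g⁻¹) (b := e) (i := 3)),
        show k * k % 3 = 1 by
          rw [Nat.mul_mod]
          have : k % 3 = 1 ∨ k % 3 = 2 := by omega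
          rcases this with e | e <;> rw [e], pow_one] at this
      exact this
    have e2 : φ ⟨_, m⟩ = φ ⟨e, eP⟩ := by
      rw [← mul_inv_eq_one, ← map_inv, ← map_mul, hφ]
      simpa using hf g⁻¹ (by simpa using m)
    rw [← e2, ← map_pow]
    exact congrArg φ (Subtype.ext e1.symm)
  have n : MonoidHom.transfer φ e ≠ 1 := fun h => hP.not_dvd_relIndex (by
    rw [relIndex_top_right, ← orderOf_eq_prime (t3 _) fun h => eH ((hφ ⟨e, eP⟩).1 h)]
    exact orderOf_dvd_of_pow_eq_one (k.symm.trans h))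
  refine ⟨(MonoidHom.transfer φ).ker, inferInstance, ?_⟩
  rw [index_ker, ((MonoidHom.transfer φ).range.eq_bot_or_eq_top_of_prime_card (hp := ⟨by simpa using Nat.prime_three⟩)).resolve_left
    fun h => n (mem_bot.1 (h.le ⟨e, rfl⟩))]
  simp

/-- By `transfer3` (`H = P ⊓ C(W)`, `hyp`, `perf`) some `e' = g e g⁻¹ ∈ P` has `e' e⁻¹ ∉ H`; `e'` is bad, so `e' ∉ H`
(`of_mem`, `not_cent`), hence `e' e ∈ H` (`P / H` has order 3). `fuse` for `c.cj g` and `c.of_mem` (both for `e'`) gives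
`k` centralizing `e'` with `k g ∈ N(W) ⊓ N(⟨z⟩)`. -/
theorem Cf.exists_g {e z : G} {W B P : Subgroup G} (h : Hy G) (c : Cf e z W B P) :
    ∃ g ∈ 𝐍[W], g ∈ 𝐍[zpowers z] ∧ g * e * g⁻¹ * e ∈ 𝐂[W] := by
  have hn : P ≤ 𝐍[P ⊓ 𝐂[W]] := le_normalizer_inf le_normalizer (c.nW.trans (normalizer_le_normalizer_centralizer W))
  obtain ⟨g, m, hg⟩ : ∃ g : G, g * e * g⁻¹ ∈ P ∧ g * e * g⁻¹ * e⁻¹ ∉ P ⊓ 𝐂[W] := by
    by_contra! k
    obtain ⟨N, h1, h2⟩ := transfer3 c.syl (c.hyp h) hn c.eP (fun m => c.not_cent h m.2) c.e3 k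
    exact h.perf N h1 h2
  have c' := c.of_mem m (by rw [conj_pow, c.e3]; simp) (by simpa using c.e1) fun k => c.bad (by
    simpa [mul_assoc] using k.cj g⁻¹)
  obtain ⟨φ, hφ⟩ := exists_hom3 (c.hyp h) hn
  have k : ∀ a b : Multiplicative (ZMod 3), a ≠ 1 → b ≠ 1 → a * b⁻¹ ≠ 1 → a * b = 1 := by decide
  have k1 := k (φ ⟨_, m⟩) (φ ⟨e, c.eP⟩) (fun e => c'.not_cent h ((hφ _).1 e).2)
    (fun e => c.not_cent h ((hφ _).1 e).2) fun e => hg ((hφ (⟨_, m⟩ * ⟨_, c.eP⟩⁻¹)).1 (by rwa [map_mul, map_inv]))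
  rw [← map_mul, hφ] at k1
  obtain ⟨k, a1, a2, a3⟩ := (c.cj g).fuse h c'
  refine ⟨k * g, cj_eq_iff.1 (by rw [cj_mul, a3]), cj_eq_iff.1 ?_, ?_⟩
  · rw [cj_mul, MonoidHom.map_zpowers]
    exact a2
  · rw [show k * g * e * (k * g)⁻¹ = k * (g * e * g⁻¹) * k⁻¹ by group, a1, mul_inv_cancel_right]
    exact k1.2

end Cfsg.Agent.Msn
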