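import Cfsg.Agent.Msn.BS
import Cfsg.Agent.Msn.BT

/-! Mason's theorem: the automizer of `V`. -/

set_option autoImplicit false
set_option linter.unusedSectionVars false

namespace Cfsg.Agent.Msn

open Subgroup Cfsg Cfsg.Agent.PLocal Cfsg.Agent.PLocal.Amb
open Cfsg.Agent.PLocal.CP (IsCharP)
open scoped commutatorElement

variable {G : Type*} [Group G] [Finite G]

theorem bm_zp3 {x y : G} (x3 : x ^ 3 = 1) (hy : y ∈ zpowers x) : y = 1 ∨ y = x ∨ y = x⁻¹ := by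
  obtain ⟨i, rfl⟩ := hy
  have e : ∀ j r : ℤ, x ^ (3 * j + r) = x ^ r := fun j r => by
    rw [zpow_add, zpow_mul, show x ^ (3 : ℤ) = 1 from (zpow_natCast x 3).trans x3, one_zpow, one_mul]
  obtain ⟨j, rfl | rfl | rfl⟩ : ∃ j, i = 3 * j + 0 ∨ i = 3 * j + 1 ∨ i = 3 * j + -1 := ⟨(i + 1) / 3, by omega⟩ <;>
    simp only [e] <;> simp

theorem bm_sq_inv {x : G} (x3 : x ^ 3 = 1) : (x * x)⁻¹ = x :=
  inv_eq_of_mul_eq_one_right (by rw [← x3, pow_succ, sq])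

theorem bm_one_of_inv {x : G} (x3 : x ^ 3 = 1) (e : x = x⁻¹) : x = 1 := by
  rw [← bm_sq_inv x3, inv_eq_one, ← eq_inv_iff_mul_eq_one]; exact e

theorem bm_dich {Z : Subgroup G} {x u : G} (x3 : x ^ 3 = 1) (xZ : x ∈ 𝐍[Z]) (xn : x ∉ Z) (uZ : u ∈ 𝐍[Z])
    (m : u * x * u⁻¹ ∈ Z ⊔ zpowers x) : u * x * u⁻¹ * x⁻¹ ∈ Z ∨ u * x * u⁻¹ * x ∈ Z := by
  obtain ⟨a, ha, b, hb, r⟩ := (mem_sup_of_le_normalizer_left (zpowers_le.2 xZ)).1 m
  rcases bm_zp3 x3 hb with rfl | rfl | rfl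
  · rw [mul_one] at r
    exact (xn (by simpa [mul_assoc] using inv_conj_mem_of_mem_normalizer uZ (r ▸ ha :))).elim
  · exact .inl (by rwa [r, mul_inv_cancel_right])
  · exact .inr (by rwa [r, inv_mul_cancel_right])

theorem bm_mul_plus {Z : Subgroup G} {x u g : G} (uZ : u ∈ 𝐍[Z]) (h1 : u * x * u⁻¹ * x⁻¹ ∈ Z)
    (h2 : g * x * g⁻¹ * x⁻¹ ∈ Z) : u * g * x * (u * g)⁻¹ * x⁻¹ ∈ Z := by
  convert mul_mem (conj_mem_of_mem_normalizer uZ h2) h1 using 1; group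

theorem bm_mul_minus {Z : Subgroup G} {x u g : G} (xZ : x ∈ 𝐍[Z]) (uZ : u ∈ 𝐍[Z]) (h1 : u * x * u⁻¹ * x ∈ Z)
    (h2 : g * x * g⁻¹ * x ∈ Z) : u * g * x * (u * g)⁻¹ * x⁻¹ ∈ Z := by
  convert mul_mem (conj_mem_of_mem_normalizer uZ h2) (inv_mem (conj_mem_of_mem_normalizer xZ h1)) using 1; group

theorem bm_pm_z {z u : G} (z3 : z ^ 3 = 1) (z1 : z ≠ 1) (uz : u ∈ 𝐍[zpowers z]) :
    u * z * u⁻¹ = z ∨ u * z * u⁻¹ = z⁻¹ :=
  (bm_zp3 z3 (conj_mem_of_mem_normalizer uz (mem_zpowers z))).resolve_left (mt conj_eq_one_iff.1 z1)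

theorem bm_inv_zp {z u y : G} (r : u * z * u⁻¹ = z⁻¹) (hy : y ∈ zpowers z) : u * y * u⁻¹ = y⁻¹ := by
  obtain ⟨i, rfl⟩ := hy
  rw [← conj_zpow, r, inv_zpow]

theorem bm_sq_cent {A : Subgroup G} {z u : G} (ea : IsElementaryAbelian 3 A) (c9 : Nat.card A = 9) (zA : z ∈ A)
    (z1 : z ≠ 1) (uA : u ∈ 𝐍[A]) (uz : u ∈ 𝐍[zpowers z]) (ho : (orderOf u).Coprime 3) : u * u ∈ 𝐂[A] := by
  have zl := zpowers_le.2 zA
  refine CP.mem_centralizer_of_commutator_mem (elemAb_isPGroup (elemAb_mono ea zl))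
    (ho.coprime_dvd_left (sq u ▸ orderOf_pow_dvd 2)) ?_ fun x hx => ?_
  · rw [Amb.centralizer_zpowers, mem_centralizer_singleton_iff, ← mul_inv_eq_iff_eq_mul, mul_inv_rev, ← mul_assoc,
      mul_assoc u, mul_assoc u]
    rcases bm_pm_z (ea.2 z zA) z1 uz with r | r
    · rw [r, r]
    · rw [r, ← conj_inv, r, inv_inv]
  by_cases n : x ∈ zpowers z
  · exact mul_mem (conj_mem_of_mem_normalizer (mul_mem uz uz) n) (inv_mem n)
  have xZ := Sig.ea_norm ea zl hx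
  exact (bm_dich (ea.2 x hx) xZ n uz (((Sig.hyp_of_card (p := 3) zl (by rw [Sig.ea_card_zpowers ea zA z1, c9])).sup_zpowers hx
    n).symm ▸ conj_mem_of_mem_normalizer uA hx)).elim (fun r => bm_mul_plus uz r r) fun r => bm_mul_minus xZ uz r r

theorem NG.bm_small (ng : NG G) {B : Subgroup G} (ea : IsElementaryAbelian 3 B) (cB : Nat.card B = 27) (gd : Gd B)
    {t : G} (tt : t * t = 1) (t1 : t ≠ 1) : Nat.card ↥(B ⊓ centralizer {t}) ≤ 3 := by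
  have h1 : ¬ 9 ≤ Nat.card ↥(B ⊓ centralizer {t}) := fun r => t1 (zpowers_eq_bot.1 (ng _ _
    (elemAb_mono ea inf_le_left) r (gd.mono inf_le_left) (isPGroup_zpowers ⟨1, by rw [pow_one, sq, tt]⟩)
    ((inf_le_right.trans (Amb.centralizer_zpowers t).ge).trans (centralizer_le_normalizer' _))))
  have h2 := cB ▸ card_dvd_of_le (inf_le_left : B ⊓ centralizer {t} ≤ B)
  generalize Nat.card ↥(B ⊓ centralizer {t}) = n at h1 h2
  by_contra h3
  obtain rfl | rfl | rfl | rfl | rfl : n = 4 ∨ n = 5 ∨ n = 6 ∨ n = 7 ∨ n = 8 := by omega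
  all_goals omega

namespace Cf

variable {e z : G} {W B P : Subgroup G} (h : Hy G) (ng : NG G) (c : Cf e z W B P)
include h ng c

/-- `t ≠ 1`. By `NG` (for `B ⊓ C(t)` and `⟨t⟩`) `C_B(t)` has order `< 9`, so equals `⟨z⟩`; hence for `x ∈ B`,
`x · t x t⁻¹ ∈ ⟨z⟩`: `t` inverts `B / ⟨z⟩`. For `x ∈ B` let `d = ⁅x, e⁆ ∈ W`; `t d t⁻¹ = ⁅x⁻¹ z', e⁻¹⁆ = ⁅x⁻¹, e⁻¹⁆` is
conjugate to `d` in `P`, so `≡ d` mod `⟨z⟩` (`commW`), while `t d t⁻¹ ≡ d⁻¹`. So `d ∈ ⟨z⟩` for all `x ∈ B`, contradicting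
`exists_conj` (`W ≠ ⟨z⟩`). -/
theorem not_mp {t : G} (tt : t * t = 1) (tB : t ∈ 𝐍[B]) (te : t * e * t⁻¹ = e⁻¹)
    (tz : t * z = z * t) : False := by
  have t1 : t ≠ 1 := fun r => c.e1 (bm_one_of_inv c.e3 (by simpa [r] using te))
  have zB := c.WB c.zW
  have k1 : zpowers z = B ⊓ centralizer {t} := eq_of_le_of_card_ge
    (zpowers_le.2 ⟨zB, mem_centralizer_singleton_iff.2 tz.symm⟩)
    ((ng.bm_small c.ea c.cB (c.gdB h) tt t1).trans (Sig.ea_card_zpowers c.ea zB c.z1).ge)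
  have k2 : ∀ x ∈ B, x * (t * x * t⁻¹) ∈ zpowers z := fun x hx => by
    have m := conj_mem_of_mem_normalizer tB hx
    refine k1 ▸ ⟨mul_mem hx m, mem_centralizer_singleton_iff.2 ?_⟩
    nth_rw 2 [elemAb_comm c.ea hx m]
    simp only [← mul_assoc, tt, one_mul, inv_eq_of_mul_eq_one_left tt]
    rw [mul_assoc _ t t, tt, mul_one]
  refine c.not_cent h fun w hw => ?_
  obtain ⟨k, hk, r⟩ := c.exists_conj h hw
  have wB := c.WB hw
  have cz : ∀ y ∈ zpowers z, ∀ x ∈ P, Commute x y := by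
    rintro _ ⟨i, rfl⟩ x hx
    exact Commute.zpow_right (mem_centralizer_singleton_iff.1 (c.cz hx)) i
  have r1 : k⁻¹ * e * k = w⁻¹ * e := by
    rw [eq_inv_mul_iff_mul_eq, ← mul_assoc, ← mul_assoc, elemAb_comm c.ea wB (inv_mem hk), mul_assoc _ w, ← r]
    group
  have r2 : t * k * t⁻¹ * e⁻¹ * (t * k * t⁻¹)⁻¹ = t * w * t⁻¹ * e⁻¹ := by
    rw [← te, conj_mul, conj_mul, ← r]; group
  rw [← inv_mul_cancel_left k (t * k * t⁻¹), mul_assoc _ _ e⁻¹, ← (cz _ (k2 k hk) _ (inv_mem c.eP)).eq, mul_inv_rev,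
    ← mul_assoc, ← mul_assoc, mul_inv_cancel_right, ← conj_inv, inv_inv, r1, mul_inv_rev, inv_inv] at r2
  have m := mul_mem (k2 w wB) (inv_mem (c.commW (inv_mem c.eP) hw))
  rw [commutatorElement_def, r2, inv_inv, inv_mul_cancel_right, mul_inv_rev, inv_inv,
    elemAb_comm c.ea wB (inv_mem (conj_mem_of_mem_normalizer tB wB)), mul_assoc, mul_inv_cancel_left] at m
  exact (cz w (bm_sq_inv (c.ea.2 w wB) ▸ inv_mem m) e c.eP).symm

/-- (1) `C_B(t) = 1`: it is `e`-invariant, so if non-trivial it meets `C(e)` (`Amb.inf_centralizer_ne_bot`) in a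
non-trivial element of `⟨z⟩` (`mem_z`), inverted by `t`.
(2) `N = N(W) ⊓ N(⟨z⟩)`, `N₀ = {g ∈ N | g e g⁻¹ e⁻¹ ∈ C(W)}` is a subgroup containing `t`; for `g ∈ N`,
`g e g⁻¹ ∈ e C(W) ∪ e⁻¹ C(W)` (`unipW'`, `not_cent`), so `N₀` has index `≤ 2`, and `= 2` by `exists_g`. So a Sylow
2-subgroup `U ∋ t` of `N` contains `s ∉ N₀`; `s ≠ 1, t`. For `u ∈ U`, `u ^ 2` centralizes `z` and `W / ⟨z⟩`, so centralizes `W`
(coprime action, `CP.commute_of_commutator_mem`), so `u ^ 2 = 1` (`oddW`): `U` is elementary abelian.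
(3) `invar` with `F = ⊥` gives a `U`-invariant `P' = cj(k, P)`, `B' = cj(k, B)`; `P, P'` are `t`-invariant Sylow
subgroups of `M = P ⊔ C(W)`, so `P' = cj(k', P)` with `k' ∈ C_M(t)` (`Sig.invSyl_conj`), and `cj(k', B) = B'` (`uniqB` for
`c.cj k`; `k'` normalizes `W`). So `C_{B'}(t) = 1`. The four-group `⟨s, t⟩` (`KM.four`) acts on `B'` (order 27), so
`B' = C_{B'}(s) C_{B'}(s t)` (`Sig.le_of_cent1_le`) and one factor has order `≥ 9`, against `NG`. -/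
theorem not_pm {t : G} (tt : t * t = 1) (tW : t ∈ 𝐍[W]) (tB : t ∈ 𝐍[B]) (tP : t ∈ 𝐍[P])
    (te : t * e = e * t) (tz : t * z * t⁻¹ = z⁻¹) : False := by
  have pt : IsPGroup 2 (zpowers t) := isPGroup_zpowers ⟨1, by rw [pow_one, sq, tt]⟩
  have k1 : B ⊓ centralizer {t} = ⊥ := by
    by_contra n
    obtain ⟨x, ⟨⟨xB, xt⟩, xe⟩, x1⟩ := (bot_or_exists_ne_one _).resolve_left (Amb.inf_centralizer_ne_bot
      (isPGroup_zpowers ⟨1, by rw [pow_one, c.e3]⟩) ((elemAb_isPGroup c.ea).to_le inf_le_left)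
      (Amb.le_normalizer_inf (zpowers_le.2 (c.nB c.eP))
        (zpowers_le.2 (le_normalizer (mem_centralizer_singleton_iff.2 te.symm)))) n)
    have := bm_inv_zp tz (c.mem_z h (c.ea.2 x xB) (Sig.ea_le_cent c.ea c.WB xB) (xe e (mem_zpowers e)).symm)
    rw [← mem_centralizer_singleton_iff.1 xt, mul_inv_cancel_right] at this
    exact x1 (bm_one_of_inv (c.ea.2 x xB) this)
  have tz' : t ∈ 𝐍[zpowers z] := cj_eq_iff.1 ((MonoidHom.map_zpowers _ _).trans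
    (show zpowers (t * z * t⁻¹) = _ by rw [tz, zpowers_inv]))
  have eC := Amb.normalizer_le_normalizer_centralizer W (c.nW c.eP)
  have ez : e ∈ 𝐍[zpowers z] := centralizer_le_normalizer' _ ((Amb.centralizer_zpowers z).ge (c.cz c.eP))
  let N₀ : Subgroup G :=
    { carrier := {g | g ∈ 𝐍[𝐂[W]] ∧ g * e * g⁻¹ * e⁻¹ ∈ 𝐂[W]}
      one_mem' := ⟨one_mem _, by simp⟩
      mul_mem' := fun ha hb => ⟨mul_mem ha.1 hb.1, bm_mul_plus ha.1 ha.2 hb.2⟩
      inv_mem' := fun {a} ha => ⟨inv_mem ha.1, by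
        convert inv_conj_mem_of_mem_normalizer ha.1 (inv_mem ha.2) using 1; group⟩ }
  obtain ⟨U, hU, tU⟩ := exists_isSyl_ge pt (zpowers_le.2 (mem_inf.2 ⟨tW, tz'⟩))
  obtain ⟨s, sU, sn⟩ : ∃ s ∈ U, s ∉ N₀ := by
    by_contra! n
    obtain ⟨g, gW, gz, r⟩ := c.exists_g h
    have nC := Amb.normalizer_le_normalizer_centralizer W
    rcases (Nat.dvd_prime Nat.prime_two).1 ((relIndex_dvd_two_iff (H := N₀) (K := 𝐍[W] ⊓ 𝐍[zpowers z])).2
      ⟨g, ⟨gW, gz⟩, fun b hb => (bm_dich c.e3 eC (c.not_cent h) (nC hb.1) (sup_comm (zpowers e) _ ▸ c.unipW' h (k := 1)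
        (by rw [pow_one, conj_pow, c.e3, mul_one, mul_inv_cancel])
        (mul_mem (mul_mem hb.1 (c.nW c.eP)) (inv_mem hb.1)) (mul_mem (mul_mem hb.2 ez) (inv_mem hb.2)))).elim
        (fun r' => .inr ⟨nC hb.1, r'⟩) fun r' => .inl ⟨nC (mul_mem hb.1 gW), bm_mul_minus eC (nC hb.1) r' r⟩⟩)
      with r' | r'
    · have := mul_mem (inv_mem (relIndex_eq_one.1 r' ⟨gW, gz⟩).2) r
      rw [mul_inv_rev, mul_assoc, inv_mul_cancel_left, inv_inv] at this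
      exact c.not_cent h (bm_sq_inv c.e3 ▸ inv_mem this)
    · exact hU.not_dvd_relIndex (r' ▸ relIndex_dvd_of_le_left _ n)
  have uu : ∀ u ∈ U, u * u = 1 := fun u hu => by
    obtain ⟨n, r⟩ := isPGroup_iff.1 hU.pgrp u hu
    exact mem_bot.1 (Sig.inf_eq_bot_of_not_dvd hU.pgrp (c.oddW h ng) ▸ mem_inf.2 ⟨mul_mem hu hu,
      bm_sq_cent c.eaW c.cW c.zW c.z1 (hU.le hu).1 (hU.le hu).2
        (Nat.Coprime.coprime_dvd_left (orderOf_dvd_of_pow_eq_one r) (Nat.Coprime.pow_left n (by norm_num)))⟩)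
  replace tU := zpowers_le.1 tU
  have ss := uu s sU
  have st2 := uu _ (mul_mem sU tU)
  have st : s * t = t * s := by
    rwa [mul_eq_one_iff_eq_inv, mul_inv_rev, inv_eq_of_mul_eq_one_left ss, inv_eq_of_mul_eq_one_left tt] at st2
  have s1 : s ≠ 1 := fun r => sn (r ▸ one_mem _)
  have s2 : s ≠ t := fun r => sn (r ▸ ⟨Amb.normalizer_le_normalizer_centralizer W tW, by simp [te]⟩)
  have t1 : t ≠ 1 := fun r => c.z1 (bm_one_of_inv c.z3 (by simpa [r] using tz))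
  obtain ⟨k, hk, -, uP, uB⟩ := c.invar h ng hU.pgrp (hU.le.trans inf_le_left) (hU.le.trans inf_le_right)
    IsPGroup.of_bot bot_le (le_top.trans (normalizer_eq_top (⊥ : Subgroup G)).ge)
  have sP : IsSyl 3 P (P ⊔ 𝐂[W]) := c.syl.mono le_sup_left le_top
  obtain ⟨l, ⟨lM, lt⟩, r⟩ := Sig.invSyl_conj (zpowers_le.2 (c.normM h ⟨tW, tz'⟩))
    (Sig.cop_of_isPGroup pt (c.oddM h ng)) (.inl (Solv.isSolvable_of_isPGroup pt)) sP
    (sP.cj_of_mem (mem_sup_right hk)) (zpowers_le.2 tP) (zpowers_le.2 (uP tU))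
  replace r : cj(l, P) = cj(k, P) := r
  have c1 := c.cj l
  have c2 := c.cj k
  have r1 : cj(l, B) = cj(k, B) := c2.uniqB h c1.ea c1.cB (by
    rw [cj_of_mem_normalizer (centralizer_le_normalizer' _ hk),
      ← cj_of_mem_normalizer (sup_le c.nW (centralizer_le_normalizer' _) lM)]
    exact c1.WB) (r ▸ c1.BP) (r ▸ c1.nB)
  have k2 : cj(k, B) ⊓ centralizer {t} = ⊥ := by
    rw [← r1, ← mul_inv_eq_iff_eq_mul.2 (lt t (mem_zpowers t)).symm, centralizer_singleton_conj, ← cj_inf, k1, cj_bot]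
  have k3 := card_le_of_le (Sig.le_of_cent1_le (L := cj(k, B) ⊓ centralizer {s} ⊔ cj(k, B) ⊓ centralizer {s * t})
    (KM.four_ea ss tt st) (KM.four_card ss tt st s1 t1 s2) ((KM.four_le ss tt st sU tU).trans uB)
    (by rw [c2.cB]; norm_num) (by
      rintro a (rfl | rfl | rfl | rfl) a1
      exacts [(a1 rfl).elim, le_sup_left, k2.le.trans bot_le, le_sup_right]))
  have k4 := Nat.le_of_dvd (Nat.mul_pos Nat.card_pos Nat.card_pos) (Grp.card_sup_dvd_of_le_normalizer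
    ((inf_le_left : cj(k, B) ⊓ centralizer {s} ≤ _).trans
      (Sig.ea_norm c2.ea (inf_le_left : cj(k, B) ⊓ centralizer {s * t} ≤ _))))
  have := Nat.mul_le_mul (ng.bm_small c2.ea c2.cB (c2.gdB h) ss s1) (ng.bm_small c2.ea c2.cB (c2.gdB h) st2
    fun r => s2 (mul_right_cancel (r.trans tt.symm)))
  rw [c2.cB] at k3
  omega

/-- `g` normalizes `⟨z⟩` (`nz`), `g ^ 2` centralizes `z` and `V / ⟨z⟩`, so centralizes `V` (coprime). With `m` the odd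
order of `C(V)` (`oddV`), `t = g ^ m` has `t t = 1` and acts on `V` as `g`. `t z t⁻¹ = z ^ (±1)`,
`t e t⁻¹ = e ^ (±1) z ^ j`. If the signs differ then `e' = e z ^ i` is inverted (resp. centralized) by `t` for a suitable `i`
(`e' = (e · t e⁻¹ t⁻¹) ^ 2` resp. `(e · t e t⁻¹) ^ 2`); `e'` is bad (`z_uniq`), `c.of_mem`, `VV e' z = VV e z`, `setup`,
`not_mp` / `not_pm` (`⟨z'⟩ = ⟨z⟩`). If they agree then `t t = 1` forces `j = 0`. -/
theorem aut {g : G} (hg : g ∈ 𝐍[VV e z]) (ho : (orderOf g).Coprime 3) :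
    g ∈ 𝐂[VV e z] ∨ ∀ v ∈ VV e z, g * v * g⁻¹ = v⁻¹ := by
  have eV : e ∈ VV e z := mem_sup_left (mem_zpowers e)
  have zV : z ∈ VV e z := mem_sup_right (mem_zpowers z)
  have zl := zpowers_le.2 zV
  have gz := c.nz h hg
  have gg := bm_sq_cent c.eaV (c.cardV h) zV c.z1 hg gz ho
  obtain ⟨j, hj⟩ := Nat.odd_iff.2 (Nat.two_dvd_ne_zero.1 (c.oddV h))
  obtain ⟨t, tt, ht, tg⟩ : ∃ t, t * t = 1 ∧ t ∈ 𝐍[VV e z] ∧ ∀ v ∈ VV e z, g * v * g⁻¹ = t * v * t⁻¹ := by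
    refine ⟨g ^ (2 * j + 1), ?_, pow_mem hg _, fun v hv => ?_⟩
    · rw [← (Commute.refl g).mul_pow, ← hj]
      exact orderOf_dvd_iff_pow_eq_one.1 (orderOf_dvd_natCard _ gg)
    · rw [pow_succ', pow_mul, sq, mul_assoc g _ v, ← pow_mem gg j v hv]; group
  have en : e * e ∉ zpowers z := fun m => c.e_not h (zpowers_le.2 c.zW (bm_sq_inv c.e3 ▸ inv_mem m))
  have eZ := Sig.ea_norm c.eaV zl eV
  have tV := conj_mem_of_mem_normalizer ht eV
  have t2 : t * (t * e * t⁻¹) * t⁻¹ = e := by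
    rw [← mul_assoc, ← mul_assoc, tt, one_mul, mul_assoc, ← mul_inv_rev, tt, inv_one, mul_one]
  have new : ∀ x ∈ VV e z, x ∉ zpowers z → ∃ z' W' B' P', Cf x z' W' B' P' ∧
      zpowers z' = zpowers z ∧ t ∈ 𝐍[W'] ∧ t ∈ 𝐍[B'] ∧ t ∈ 𝐍[P'] := fun x hx n => by
    have c' := c.of_mem (c.VP hx) (c.eaV.2 x hx) (fun r => n (r ▸ one_mem _)) fun r => n (c.z_uniq h hx r)
    have r : VV x z = VV e z := eq_of_le_of_card_ge (sup_le (zpowers_le.2 hx) zl)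
      ((c.cardV h).trans (c'.cardV h).symm).le
    exact c'.setup h ng tt (r ▸ ht)
  rcases bm_pm_z c.z3 c.z1 (c.nz h ht) with r | r <;> rcases bm_dich c.e3 eZ (fun m => en (mul_mem m m)) (c.nz h ht)
    (sup_comm (zpowers e) _ ▸ tV) with r' | r'
  · rw [← tg z zV, mul_inv_eq_iff_eq_mul] at r
    rw [← tg e eV] at r'
    have m := (Amb.centralizer_zpowers z).ge (mem_centralizer_singleton_iff.2 r)
    exact .inl ((Amb.centralizer_sup _ _).ge ⟨(Amb.centralizer_zpowers e).ge (mem_centralizer_singleton_iff.2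
      (CP.commute_of_commutator_mem (elemAb_isPGroup (elemAb_mono c.eaV zl)) ho m r')), m⟩)
  · obtain ⟨z', W', B', P', c', r1, -, tB, -⟩ := new _ (mul_mem eV (inv_mem tV)) fun m => en (by
      simpa [mul_assoc] using mul_mem m r')
    obtain ⟨i, rfl⟩ : z' ∈ zpowers z := r1 ▸ mem_zpowers z'
    exact (c'.not_mp h ng tt tB (by rw [← conj_mul, ← conj_inv, t2, mul_inv_rev, inv_inv])
      (Commute.zpow_right (mul_inv_eq_iff_eq_mul.1 r) i)).elim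
  · obtain ⟨z', W', B', P', c', r1, tW, tB, tP⟩ := new _ (mul_mem eV tV) fun m => en (by
      have := mul_mem (inv_mem r') m
      rwa [mul_inv_rev, inv_inv, elemAb_comm c.eaV eV tV, mul_assoc, inv_mul_cancel_left] at this)
    exact (c'.not_pm h ng tt tW tB tP
      (mul_inv_eq_iff_eq_mul.1 (by rw [← conj_mul, t2, elemAb_comm c.eaV eV tV])) (bm_inv_zp r (r1 ▸ mem_zpowers z'))).elim
  · have r1 := bm_inv_zp r r'
    rw [← conj_mul, t2, elemAb_comm c.eaV eV tV] at r1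
    have r2 := eq_inv_of_mul_eq_one_left (bm_one_of_inv (c.eaV.2 _ (mul_mem tV eV)) r1)
    refine .inr fun v hv => ?_
    obtain ⟨a, ha, b, hb, rfl⟩ := (mem_sup_of_le_normalizer_right (zpowers_le.2 eZ)).1 hv
    rw [tg _ hv, ← conj_mul, bm_inv_zp r2 ha, bm_inv_zp r hb, ← mul_inv_rev, elemAb_comm c.eaV (zl hb) (mem_sup_left ha)]

end Cf

end Cfsg.Agent.Msn
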