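import Cfsg.Agent.Msn.BB

/-! Mason's theorem: configurations invariant under a 2-group. -/

set_option autoImplicit false
set_option linter.unusedSectionVars false

namespace Cfsg.Agent.Msn

open Subgroup Cfsg Cfsg.Agent.PLocal Cfsg.Agent.PLocal.Amb
open Cfsg.Agent.PLocal.CP (IsCharP)
open scoped commutatorElement

variable {G : Type*} [Group G] [Finite G]

namespace Cf

variable {e z : G} {W B P : Subgroup G} (h : Hy G) (ng : NG G) (c : Cf e z W B P)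
include h ng c

/-- `M = P ⊔ C(W)` has odd order (`oddW`, `Sig.not_dvd_sup`; `P` normalizes `C(W)`) -/
theorem oddM : ¬ 2 ∣ Nat.card (P ⊔ 𝐂[W] : Subgroup G) := by
  haveI : Fact (Nat.Prime 2) := ⟨Nat.prime_two⟩
  haveI : Fact (Nat.Prime 3) := ⟨Nat.prime_three⟩
  exact Sig.not_dvd_sup (le_normalizer_centralizer c.nW)
    (Sig.not_dvd_of_isPGroup (q := 3) (by decide) c.syl.pgrp) (c.oddW h ng)

omit ng in
/-- `M = ⟨e⟩ ⊔ C(W)` by `hyp`; `g e g⁻¹ ∈ M` by `unipW'` -/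
theorem normM : 𝐍[W] ⊓ 𝐍[zpowers z] ≤ 𝐍[(P ⊔ 𝐂[W] : Subgroup G)] := by
  haveI : Fact (Nat.Prime 3) := ⟨Nat.prime_three⟩
  have e1 : P ⊔ 𝐂[W] = zpowers e ⊔ 𝐂[W] := by
    refine le_antisymm (sup_le ?_ le_sup_right) (sup_le_sup_right (zpowers_le.2 c.eP) _)
    rw [← (c.hyp h).sup_zpowers c.eP fun m => c.not_cent h m.2]
    exact sup_le (inf_le_right.trans le_sup_right) le_sup_left
  intro g hg
  refine mem_normalizer_of_cj_le ?_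
  rw [e1, cj_sup, cj_of_mem_normalizer (normalizer_le_normalizer_centralizer W hg.1)]
  refine sup_le ?_ le_sup_right
  rw [MonoidHom.map_zpowers, zpowers_le]
  have ez : e ∈ 𝐍[zpowers z] := centralizer_le_normalizer' _ (by rw [Amb.centralizer_zpowers]; exact c.cz c.eP)
  refine c.unipW' h (k := 1) ?_ (mul_mem (mul_mem hg.1 (c.nW c.eP)) (inv_mem hg.1))
    (mul_mem (mul_mem hg.2 ez) (inv_mem hg.2))
  rw [pow_one, ← map_pow, c.e3, map_one]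

/-- `U` acts coprimely on `M` (`oddM`, `normM`): there is a `U`-invariant Sylow 3-subgroup `P' ≥ F` of `M`
(`Sig.exists_invSyl_ge`), `P' = cj(m, P)` with `m ∈ M = C(W) P`, so `= cj(k, P)` with `k ∈ C(W)`. `c.cj k` is a
configuration with the same `z, W`; for `u ∈ U`, `cj(u, cj(k, B))` is elementary of order 27, contains `W` and is normal
in `P'`: `uniqB`. -/
theorem invar {U F : Subgroup G} (hU : IsPGroup 2 U) (uW : U ≤ 𝐍[W]) (uz : U ≤ 𝐍[zpowers z])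
    (hF : IsPGroup 3 F) (FM : F ≤ P ⊔ 𝐂[W]) (uF : U ≤ 𝐍[F]) :
    ∃ k ∈ 𝐂[W], F ≤ cj(k, P) ∧ U ≤ 𝐍[cj(k, P)] ∧ U ≤ 𝐍[cj(k, B)] := by
  haveI : Fact (Nat.Prime 2) := ⟨Nat.prime_two⟩
  haveI : Fact (Nat.Prime 3) := ⟨Nat.prime_three⟩
  haveI := hU.isNilpotent
  obtain ⟨P', sP, FP, uP⟩ := Sig.exists_invSyl_ge ((le_inf uW uz).trans (c.normM h))
    (Sig.cop_of_isPGroup hU (c.oddM h ng)) (Or.inl inferInstance) 3 FM hF uF
  obtain ⟨g, hg, eg⟩ := sP.exists_cj_eq (c.syl.mono le_sup_left le_top)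
  rw [sup_comm] at hg
  obtain ⟨k, hk, p, hp, rfl⟩ := (mem_sup_of_le_normalizer_left (le_normalizer_centralizer c.nW)).1 hg
  rw [cj_mul, cj_of_mem hp] at eg
  subst eg
  refine ⟨k, hk, FP, uP, fun u hu => cj_eq_iff.1 ?_⟩
  have c1 := c.cj k
  have c2 := c1.cj u
  have eW : cj(k, W) = W := cj_of_mem_normalizer (centralizer_le_normalizer' W hk)
  rw [cj_of_mem_normalizer (uP hu), eW, cj_of_mem_normalizer (uW hu)] at c2
  rw [eW] at c1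
  exact c1.uniqB h c2.ea c2.cB c2.WB c2.BP c2.nB

/-- `M₀ = W ⊔ C(V)` has odd order (`oddV`) and is normalized by `t` (`unipV'`); let `S ≥ V` be a `t`-invariant Sylow
3-subgroup of `M₀`, `S ≤ P₁` Sylow in `G`, `Cf e z₁ W₁ B₁ P₁` (`exists_cf`), `⟨z₁⟩ = ⟨z⟩` (`z_eq`), so the two `V`
agree. `W₁ ≤ M₀` (`W_le`, `unipV'`), so `W₁ ≤ P₁ ⊓ M₀ = S` and `cj(t, W₁) ≤ S ≤ P₁ ⊓ N(V)`; `uniqW` gives `t ∈ N(W₁)`.
Now `invar` with `U = ⟨t⟩`, `F = V ⊔ W₁`; the new configuration is `(c₁.cj k).of_mem` for `e ∈ F ≤ cj(k, P₁)`. -/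
theorem setup {t : G} (tt : t * t = 1) (ht : t ∈ 𝐍[VV e z]) : ∃ z' W' B' P', Cf e z' W' B' P' ∧
    zpowers z' = zpowers z ∧ t ∈ 𝐍[W'] ∧ t ∈ 𝐍[B'] ∧ t ∈ 𝐍[P'] := by
  haveI : Fact (Nat.Prime 2) := ⟨Nat.prime_two⟩
  haveI : Fact (Nat.Prime 3) := ⟨Nat.prime_three⟩
  have hU : IsPGroup 2 (zpowers t) := isPGroup_zpowers ⟨1, by rw [pow_one, sq, tt]⟩
  haveI := hU.isNilpotent
  have odd : ¬ 2 ∣ Nat.card (W ⊔ 𝐂[VV e z] : Subgroup G) :=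
    Sig.not_dvd_sup (le_normalizer_centralizer c.W_le)
      (Sig.not_dvd_of_isPGroup (q := 3) (by decide) (elemAb_isPGroup c.eaW)) (c.oddV h)
  have key : ∀ X : Subgroup G, IsElementaryAbelian 3 X → X ≤ 𝐍[VV e z] → X ≤ W ⊔ 𝐂[VV e z] :=
    fun X hX hn x hx => c.unipV' h (k := 1) (by rw [pow_one]; exact hX.2 x hx) (hn hx)
  have tM : t ∈ 𝐍[(W ⊔ 𝐂[VV e z] : Subgroup G)] := by
    refine mem_normalizer_of_cj_le ?_
    rw [cj_sup, cj_of_mem_normalizer (normalizer_le_normalizer_centralizer _ ht)]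
    exact sup_le (key _ (c.cj t).eaW (cj_le_of_mem c.W_le ht)) le_sup_right
  obtain ⟨S, hS, VS, tS⟩ := Sig.exists_invSyl_ge (zpowers_le.2 tM) (Sig.cop_of_isPGroup hU odd)
    (Or.inl inferInstance) 3 ((elemAb_le_centralizer c.eaV).trans le_sup_right) (elemAb_isPGroup c.eaV)
    (zpowers_le.2 ht)
  obtain ⟨P₁, hP, SP⟩ := exists_isSyl_ge hS.pgrp (le_top : S ≤ ⊤)
  have eV : e ∈ VV e z := mem_sup_left (mem_zpowers e)
  obtain ⟨z₁, W₁, B₁, c₁⟩ := h.exists_cf hP (SP (VS eV)) c.e3 c.e1 c.bad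
  have ez : zpowers z = zpowers z₁ :=
    c₁.z_eq h c.z1 c.z3 (c.goodz h) (SP (VS (mem_sup_right (mem_zpowers z)))) c.ez.symm
  have eVV : VV e z₁ = VV e z := by rw [VV, VV, ez]
  have n₁ : W₁ ≤ 𝐍[VV e z] := eVV ▸ c₁.W_le
  have WS : W₁ ≤ S := (le_inf c₁.WP (key _ c₁.eaW n₁)).trans
    (hS.max _ (hP.pgrp.to_le inf_le_left) (le_inf SP hS.le) inf_le_right)
  have tW : t ∈ 𝐍[W₁] := cj_eq_iff.1 (c₁.uniqW h (c₁.cj t).eaW (c₁.cj t).cW.ge ((c₁.gdW h).cj t)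
    ((cj_le_of_mem_normalizer WS (tS (mem_zpowers t))).trans SP) (eVV ▸ cj_le_of_mem n₁ ht))
  have ht₁ : t ∈ 𝐍[VV e z₁] := eVV ▸ ht
  obtain ⟨k, hk, h1, h2, h3⟩ := c₁.invar h ng (F := VV e z₁) hU (zpowers_le.2 tW)
    (zpowers_le.2 (c₁.nz h ht₁)) (elemAb_isPGroup c₁.eaV) (c₁.VP.trans le_sup_left) (zpowers_le.2 ht₁)
  refine ⟨_, _, _, _, (c₁.cj k).of_mem (h1 (mem_sup_left (mem_zpowers e))) c.e3 c.e1 c.bad, ?_, ?_,
    h3 (mem_zpowers t), h2 (mem_zpowers t)⟩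
  · rw [← mem_centralizer_iff.1 hk z₁ c₁.zW, mul_inv_cancel_right, ez]
  · rwa [cj_of_mem_normalizer (centralizer_le_normalizer' W₁ hk)]

end Cf

end Cfsg.Agent.Msn
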