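import Cfsg.Agent.KM.Basic
import Cfsg.Agent.PLocal.PrimeCoreAmb
import Cfsg.Agent.PLocal.ThompsonBender
import Cfsg.Agent.TT.O2C
import Cfsg.Agent.TT.LX

/-! Mason's theorem (S3248): definitions. -/

set_option autoImplicit false
set_option linter.unusedSectionVars false

namespace Cfsg.Agent.Msn

open Subgroup Cfsg Cfsg.Agent.PLocal Cfsg.Agent.PLocal.Amb
open Cfsg.Agent.PLocal.CP (IsCharP)
open scoped commutatorElement

variable {G : Type*} [Group G]

/-- `O_{3'}(C(x))` has odd order. -/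
def Good (x : G) : Prop := ¬ 2 ∣ Nat.card (centralizerPPrimeCore 3 x)

/-- all non-trivial elements are good -/
def Gd (A : Subgroup G) : Prop := ∀ a ∈ A, a ≠ 1 → Good a

theorem Gd.mono {A B : Subgroup G} (h : Gd A) (hB : B ≤ A) : Gd B := fun a ha => h a (hB ha)

variable (G) in
/-- The standing hypotheses. -/
structure Hy : Prop where
  ch2 : ∀ T : Subgroup G, IsPGroup 2 T → T ≠ ⊥ → IsCharP 2 𝐍[T]
  con : ∀ R : Subgroup G, IsPGroup 3 R → R ≠ ⊥ → IsPConstrained 3 𝐍[R]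
  flag : ∃ P B : Subgroup G, IsSyl 3 P ⊤ ∧ B ≤ P ∧ P ≤ 𝐍[B] ∧ IsElementaryAbelian 3 B ∧
    Nat.card B = 27 ∧ Gd B
  perf : ∀ N : Subgroup G, N.Normal → N.index ≠ 3

variable (G) in
/-- No good elementary abelian group of order at least 9 normalizes a non-trivial 2-group. -/
def NG : Prop := ∀ A T : Subgroup G, IsElementaryAbelian 3 A → 9 ≤ Nat.card A → Gd A →
  IsPGroup 2 T → A ≤ 𝐍[T] → T = ⊥

/-- An `L`-invariant subgroup of exponent `p` and class at most two of `C(B)` on which the involutions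
of `L` act non-trivially. -/
structure Om (p : ℕ) (B L Ω : Subgroup G) : Prop where
  le : Ω ≤ 𝐂[B]
  nrm : L ≤ 𝐍[Ω]
  pow : ∀ x ∈ Ω, x ^ p = 1
  cls : ∀ x ∈ Ω, ∀ y ∈ Ω, ⁅x, y⁆ ∈ 𝐂[Ω]
  faith : ∀ g ∈ L, g * g = 1 → g ∈ 𝐂[Ω] → g = 1

/-- A bad element `e` of order three in the Sylow subgroup `P` with a normal flag `⟨z⟩ < W < B`. -/
structure Cf (e z : G) (W B P : Subgroup G) : Prop where
  syl : IsSyl 3 P ⊤
  eP : e ∈ P
  e3 : e ^ 3 = 1
  e1 : e ≠ 1
  bad : ¬ Good e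
  ea : IsElementaryAbelian 3 B
  cB : Nat.card B = 27
  BP : B ≤ P
  nB : P ≤ 𝐍[B]
  WB : W ≤ B
  cW : Nat.card W = 9
  nW : P ≤ 𝐍[W]
  zW : z ∈ W
  z1 : z ≠ 1
  cz : P ≤ centralizer {z}

/-- An involution centralizing a good elementary abelian group of order at least nine. -/
structure Pair (z : G) (A : Subgroup G) : Prop where
  z1 : z ≠ 1
  zz : z * z = 1
  ea : IsElementaryAbelian 3 A
  nine : 9 ≤ Nat.card A
  gd : Gd A
  ct : z ∈ 𝐂[A]

/-- `O₂(C(z))` is large extraspecial, `C(z)` contains an elementary abelian group of order at least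
nine whose centralizer in `O₂(C(z))` has the only involution `z`, and elements of order three of `C(z)`
centralize no elementary abelian group of order eight. -/
structure XE (z : G) (A : Subgroup G) : Prop where
  lx : TT.LX (TT.O2C z) z
  ea : IsElementaryAbelian 3 A
  nine : 9 ≤ Nat.card A
  ct : z ∈ 𝐂[A]
  fix : ∀ x ∈ TT.O2C z, x * x = 1 → x ∈ 𝐂[A] → x = 1 ∨ x = z
  four : ∀ a : G, a * z = z * a → a ^ 3 = 1 → a ≠ 1 → ∀ K : Subgroup G, IsElementaryAbelian 2 K →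
    K ≤ centralizer {a} → Nat.card K ≤ 4

end Cfsg.Agent.Msn
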