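import Cfsg.Agent.Msn.Defs
import Cfsg.Agent.S0631
import Cfsg.Agent.PLocal.Balance
import Cfsg.Agent.PLocal.JCompBase

/-! Mason's theorem: good elements. -/

set_option autoImplicit false
set_option linter.unusedSectionVars false

namespace Cfsg.Agent.Msn

open Subgroup Cfsg Cfsg.Agent.PLocal Cfsg.Agent.PLocal.Amb
open Cfsg.Agent.PLocal.CP (IsCharP)
open scoped commutatorElement

variable {G : Type*} [Group G] [Finite G]

theorem good_congr {x y : G} (e : centralizer ({x} : Set G) = centralizer {y}) (h : Good x) :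
    Good y := by
  unfold Good centralizerPPrimeCore at h ⊢
  rwa [← e]

theorem Good.inv {x : G} (h : Good x) : Good x⁻¹ :=
  good_congr (by rw [← Amb.centralizer_zpowers, ← Amb.centralizer_zpowers, zpowers_inv]) h

/-- `PLocal.cj_map_pPrimeCore` (PLocal/ExtLayer) or `Grp` conjugation lemmas. -/
theorem Good.cj {x : G} (h : Good x) (g : G) : Good (g * x * g⁻¹) := by
  unfold Good at h ⊢
  rwa [show centralizerPPrimeCore 3 (g * x * g⁻¹) = cj(g, centralizerPPrimeCore 3 x) from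
    (map_centralizerPPrimeCore_equiv (MulAut.conj g) x).symm, card_cj]

theorem Gd.cj {A : Subgroup G} (h : Gd A) (g : G) : Gd cj(g, A) := by
  intro a ha a1
  obtain ⟨y, hy, rfl⟩ := mem_cj_iff_exists.1 ha
  exact (h y hy fun e => a1 (by rw [e]; group)).cj g

/-- `S0631` in `N(R)`; the centralizer of `R.subgroupOf N(R)` is `C(R).subgroupOf N(R)`, isomorphic to
`C(R)` (transport through `PCA.isPConstrained_iff` or an existing `IsPConstrained` congruence lemma). -/
theorem Hy.conC (h : Hy G) {R : Subgroup G} (hR : IsPGroup 3 R) (h1 : R ≠ ⊥) :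
    IsPConstrained 3 𝐂[R] := by
  have := (S0631.result (h.con R hR h1) _ (Amb.isPGroup_subgroupOf hR _)).2
  rw [centralizer_subgroupOf le_normalizer] at this
  exact IsPConstrained.of_mulEquiv this (subgroupOfEquivOfLe (centralizer_le_normalizer' R))

/-- `conC` for `zpowers x`. -/
theorem Hy.conC1 (h : Hy G) {x : G} (x3 : x ^ 3 = 1) (x1 : x ≠ 1) :
    IsPConstrained 3 (centralizer ({x} : Set G)) := by
  exact Amb.centralizer_zpowers x ▸ h.conC (isPGroup_zpowers ⟨1, by simpa using x3⟩) (zpowers_ne_bot.2 x1)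

/-- `N(⟨t⟩) = C(t)` (or `CP.isCharP_normalizer_iff`). -/
theorem Hy.ch2c (h : Hy G) {t : G} (t1 : t ≠ 1) (tt : t * t = 1) :
    IsCharP 2 (centralizer ({t} : Set G)) := by
  have p : IsPGroup 2 (zpowers t) := isPGroup_zpowers ⟨1, by rw [pow_one, pow_two, tt]⟩
  exact Amb.centralizer_zpowers t ▸ (CP.isCharP_normalizer_iff p).1 (h.ch2 _ p (zpowers_ne_bot.2 t1))

/-- (G1) `θ = O_{3'}(C(x))` is normalized by `A ≤ C(x)`; let `R` be an `A`-invariant Sylow 2-subgroup of `θ`
(`Sig.exists_invSyl`). For `1 ≠ a ∈ A`, `θ ⊓ C(a)` is a `3'`-group normal in `C(a) ⊓ C(⟨x⟩)`, so lies in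
`O_{3'}(C(a))` (`PCA.le_pPrimeCore_of_normal_in_centralizer`, `conC1`), which has odd order; so
`R ⊓ C(a) = ⊥`, and `R = ⊥` by `Sig.le_of_cent1_le`; `IsSyl.eq_bot_iff`. -/
theorem Hy.good_of_cent (h : Hy G) {A : Subgroup G} {x : G} (hA : IsElementaryAbelian 3 A)
    (h9 : 9 ≤ Nat.card A) (gd : Gd A) (x3 : x ^ 3 = 1) (hx : x ∈ 𝐂[A]) : Good x := by
  have c := centralizerPPrimeCore_coprime (p := 3) x
  have n : centralizer {x} ≤ 𝐍[centralizerPPrimeCore 3 x] := le_normalizer_map_subtype _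
  have l : centralizerPPrimeCore 3 x ≤ centralizer {x} := map_subtype_le _
  have hAx : A ≤ centralizer {x} := fun a ha => mem_centralizer_singleton_iff.2 (hx a ha)
  have nd : ∀ {X : Subgroup G}, X ≤ centralizerPPrimeCore 3 x → ¬ 3 ∣ Nat.card X := fun hX e =>
    absurd (Nat.eq_one_of_dvd_coprimes c (e.trans (card_dvd_of_le hX)) dvd_rfl) (by decide)
  have := hA.1
  obtain ⟨R, hR, hAR⟩ := Sig.exists_invSyl (hAx.trans n) (Sig.ea_cop hA (nd le_rfl))
    (Or.inl (Group.isSolvable_of_comm fun a b => Subtype.ext (isEA_comm hA a.2 b.2))) 2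
  refine hR.eq_bot_iff.1 (le_bot_iff.1 (Sig.le_of_cent1_le hA h9 hAR (nd hR.le) fun a ha a1 => ?_))
  have k : centralizerPPrimeCore 3 x ⊓ centralizer {a} ≤ centralizerPPrimeCore 3 a :=
    PCA.le_pPrimeCore_of_normal_in_centralizer (P := zpowers x) (h.conC1 (hA.2 a ha) a1)
      (zpowers_le.2 (mem_centralizer_singleton_iff.2 (hx a ha).symm)) (isPGroup_zpowers ⟨1, by simpa using x3⟩)
      (c.coprime_dvd_left (card_dvd_of_le inf_le_left))
      (by rw [Amb.centralizer_zpowers]; exact le_inf inf_le_right (inf_le_left.trans l))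
      (by rw [Amb.centralizer_zpowers]
          exact le_normalizer_inf (inf_le_right.trans n) (inf_le_left.trans le_normalizer))
  exact (card_eq_one.1 ((hR.pgrp.to_le (inf_le_left (b := centralizer {a}))).card_eq_or_dvd.resolve_right fun e =>
    gd a ha a1 (e.trans (card_dvd_of_le ((inf_le_inf_right _ hR.le).trans k))))).le

/-- Every Sylow 3-subgroup has a normal good flag: conjugate `h.flag` (`IsSyl.exists_cj_eq`, `Gd.cj`); in the
3-group `P` the normal subgroup `B` of order 27 contains normal subgroups of `P` of order 9 and 3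
(`Grp/PChain` or Mathlib; `W ⊓ Z(P) ≠ ⊥` by `Amb.inf_centralizer_ne_bot`). -/
theorem Hy.exists_flag (h : Hy G) {P : Subgroup G} (hP : IsSyl 3 P ⊤) : ∃ (z : G) (W B : Subgroup G),
    IsElementaryAbelian 3 B ∧ Nat.card B = 27 ∧ B ≤ P ∧ P ≤ 𝐍[B] ∧ W ≤ B ∧ Nat.card W = 9 ∧
      P ≤ 𝐍[W] ∧ z ∈ W ∧ z ≠ 1 ∧ P ≤ centralizer {z} ∧ Gd B := by
  obtain ⟨P₀, B, h1, h2, h3, h4, h5, h6⟩ := h.flag
  obtain ⟨g, -, rfl⟩ := hP.exists_cj_eq h1
  have e1 := cj_mono g h2
  have e2 : cj(g, P₀) ≤ 𝐍[cj(g, B)] := normalizer_cj g B ▸ cj_mono g h3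
  have e3 : IsElementaryAbelian 3 cj(g, B) := by
    have := h4.1
    refine ⟨inferInstance, fun a ha => ?_⟩
    obtain ⟨y, hy, rfl⟩ := mem_cj_iff_exists.1 ha
    rw [conj_pow, h4.2 y hy]; group
  have e4 := (card_cj g B).trans h5
  have := normal_subgroupOf' e2
  obtain ⟨C, c1, c2, c3⟩ := Grp.PChain.exists_normal_le_card hP.pgrp (cj(g, B).subgroupOf cj(g, P₀)) 2
    (by rw [Nat.card_congr (subgroupOfEquivOfLe e1).toEquiv, e4]; decide)
  have c4 : Nat.card (C.map cj(g, P₀).subtype) = 9 := by rw [Subgroup.card_map_of_injective (subtype_injective _), c3]; rfl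
  obtain ⟨⟨z, z1, z2⟩, z3⟩ := ne_bot_iff_exists_ne_one.1 (inf_centralizer_ne_bot hP.pgrp (hP.pgrp.to_le (map_subtype_le C))
    (le_normalizer_map_subtype C) fun e => by rw [e, card_bot] at c4; omega)
  exact ⟨z, _, _, e3, e4, e1, e2, map_le_iff_le_comap.2 c2, c4, le_normalizer_map_subtype C, z1,
    fun e => z3 (Subtype.ext e), fun a ha => mem_centralizer_singleton_iff.2 (z2 a ha), h6.cj g⟩

/-- (G2) `D ≤ P` Sylow, `W` from `exists_flag`. `D` acts on `W` (order 9) as a 3-group, so `D₀ = D ⊓ C(W)` has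
index `≤ 3` (for `b ∈ W \ ⟨z⟩`, `d ↦ ⁅d, b⁆ ∈ ⟨z⟩`; or `|Aut W|_3 = 3`), `|D₀| ≥ 9`. Elements of `D₀` are good by
`good_of_cent` (with `W`), then elements of `D` by `good_of_cent` (with `D₀`). -/
theorem Hy.gd_of_27 (h : Hy G) {D : Subgroup G} (hD : IsElementaryAbelian 3 D)
    (h27 : 27 ≤ Nat.card D) : Gd D := by
  obtain ⟨P, hP, hDP⟩ := exists_isSyl_ge (isEA_isPGroup hD) le_top
  obtain ⟨z, W, B, h1, -, -, -, h2, h3, h4, h5, h6, h7, h8⟩ := h.exists_flag hP
  have z3 := h1.2 z (h2 h5)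
  have cz : Nat.card (zpowers z) = 3 := by rw [Nat.card_zpowers, orderOf_eq_prime z3 h6]
  obtain ⟨b, hb, nb⟩ : ∃ b ∈ W, b ∉ zpowers z := by
    by_contra! e
    have := card_le_of_le e
    omega
  have le : zpowers z ⊔ zpowers b ≤ B := sup_le (zpowers_le.2 (h2 h5)) (zpowers_le.2 (h2 hb))
  have n9 := KM.card_ext (isEA_zpowers z3) (y := b)
    (centralizer_anti (zpowers_le.2 (h2 h5)) (isEA_le_centralizer h1 (h2 hb))) (h1.2 b (h2 hb)) nb
  rw [cz] at n9
  have i1 := JC.relIndex_centralizer_le D b ((W : Set G) \ {1}) fun g hg =>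
    ⟨conj_mem_of_mem_normalizer (h4 (hDP hg)) hb, fun e => nb (by
      rw [conj_eq_one_iff.1 e]; exact one_mem _)⟩
  rw [Set.ncard_sdiff_singleton_of_mem (one_mem W), ← Nat.card_coe_set_eq, SetLike.coe_sort_coe, h3] at i1
  have i2 := card_mul_index ((centralizer {b}).subgroupOf D)
  obtain ⟨k, hk⟩ := (isEA_isPGroup hD).index ((centralizer {b}).subgroupOf D)
  rw [relIndex, hk] at i1
  have k1 : k ≤ 1 := by
    by_contra e
    have := Nat.pow_le_pow_right (show 0 < 3 by decide) (show 2 ≤ k by omega)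
    omega
  have i3 := Nat.pow_le_pow_right (show 0 < 3 by decide) k1
  rw [hk, ← inf_subgroupOf_right, Nat.card_congr (subgroupOfEquivOfLe inf_le_right).toEquiv] at i2
  have n0 : 9 ≤ Nat.card ↥(centralizer {b} ⊓ D) := by nlinarith
  have g0 : Gd (centralizer {b} ⊓ D) := fun x hx _ =>
    h.good_of_cent (isEA_mono h1 le) n9 (h8.mono le) (hD.2 x hx.2) (by
      rw [Amb.centralizer_sup, Amb.centralizer_zpowers, Amb.centralizer_zpowers]
      exact ⟨h7 (hDP hx.2), hx.1⟩)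
  exact fun x hx _ => h.good_of_cent (isEA_mono hD inf_le_right) n0 g0 (hD.2 x hx)
    (centralizer_anti inf_le_right (isEA_le_centralizer hD hx))

end Cfsg.Agent.Msn
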