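import Cfsg.Agent.Msn.GdA

/-! Mason's theorem: the invariant critical subgroup. -/

set_option autoImplicit false
set_option linter.unusedSectionVars false

namespace Cfsg.Agent.Msn

open Subgroup Cfsg Cfsg.Agent.PLocal Cfsg.Agent.PLocal.Amb
open Cfsg.Agent.PLocal.CP (IsCharP)
open scoped commutatorElement

variable {G : Type*} [Group G] [Finite G]

/-- a solvable subgroup of order prime to `O_{p'}(G)` normalizes a Sylow subgroup of `O_{p',p}(G)` -/
theorem gdb_syl {p : ℕ} [Fact p.Prime] {M : Subgroup G}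
    (hc : (Nat.card M).Coprime (Nat.card (pPrimeCore p G))) (hs : Group.IsSolvable M) :
    ∃ X, IsSyl p X (pPrimePCore p G) ∧ M ≤ 𝐍[X] := by
  have hn : (pPrimePCore p G).Normal := by unfold pPrimePCore; infer_instance
  obtain ⟨X, hX⟩ := exists_isSyl p (pPrimePCore p G)
  have e := PCA.pPrimePCore_eq_sup_of_isSyl hX
  obtain ⟨k, hk, h⟩ := Solv.exists_conj_mem_of_coprime M (pPrimeCore p G) 𝐍[X]
    le_normalizer_of_normal hc (Or.inl hs) fun a _ => by
      obtain ⟨n, hn, x, hx, rfl⟩ := hX.frattini (g := a) (le_normalizer_of_normal (mem_top a))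
      rw [e, sup_comm] at hn
      obtain ⟨t, ht, y, hy, rfl⟩ := (mem_sup_of_le_normalizer_left le_normalizer_of_normal).1 hn
      exact ⟨t, ht, by simpa [mul_assoc] using mul_mem (le_normalizer hy) hx⟩
  refine ⟨cj(k, X), hX.cj_of_mem_normalizer (le_normalizer_of_normal (mem_top k)), fun a ha => ?_⟩
  rw [normalizer_cj, mem_cj]
  exact h a ha

theorem gdb_aux (hG : IsPConstrained 3 G) (h2 : ¬ 2 ∣ Nat.card (pPrimeCore 3 G)) {M : Subgroup G}
    (hc : (Nat.card M).Coprime (Nat.card (pPrimeCore 3 G))) (hs : Group.IsSolvable M) :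
    ∃ Ω : Subgroup G, M ≤ 𝐍[Ω] ∧ (∀ x ∈ Ω, x ^ 3 = 1) ∧ (∀ x ∈ Ω, ∀ y ∈ Ω, ⁅x, y⁆ ∈ 𝐂[Ω]) ∧
      ∀ g ∈ M, g * g = 1 → g ∈ 𝐂[Ω] → g = 1 := by
  have : Fact (Nat.Prime 3) := ⟨Nat.prime_three⟩
  have : Fact (Nat.Prime 2) := ⟨Nat.prime_two⟩
  obtain ⟨X, hX, hn⟩ := gdb_syl hc hs
  obtain ⟨D, h1, h3, h4, h5, h6⟩ := Grp.CritExp.exists_char_amb hX.pgrp
  refine ⟨D, hn.trans h3, fun x hx => ?_, fun x hx y hy => ?_, fun g hg hg2 hgD => ?_⟩
  · rw [← h4 x hx, Grp.CritExp.expQ_of_ne (by norm_num)]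
  · exact (h5 (commutator_mem_commutator hx (h1 hy))).2
  · have h7 := PCA.IsPConstrained.centralizer_le hG hX
      (h6 g (hn hg) (KM.coprime_of_sq (by norm_num) hg2) hgD)
    have h8 : ¬ 2 ∣ Nat.card (pPrimePCore 3 G) := by
      rw [PCA.pPrimePCore_eq_sup_of_isSyl hX]
      exact Sig.not_dvd_sup le_normalizer_of_normal
        (Sig.not_dvd_of_isPGroup (by norm_num) hX.pgrp) h2
    by_contra h9
    exact h8 (orderOf_eq_prime (by rwa [pow_two]) h9 ▸ Subgroup.orderOf_dvd_natCard _ h7)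

/-- `L = C(B)` is 3-constrained (`conC`), `θ = O_{3'}(L)` (ambient), `H = O_{3',3}(L)` (ambient,
`(pPrimePCore 3 L).map L.subtype`). `θ` has odd order: for `1 ≠ b ∈ B`, `θ` is normal in `C(b) ⊓ C(B) = L`, so
`θ ≤ O_{3'}(C(b))` (`PCA.le_pPrimeCore_of_normal_in_centralizer`); hence `H` has odd order. `M = K ⊔ A` is a
solvable `{2,3}`-group (`Sig.isSolvable_sup`), of order coprime to `θ`. There is an `M`-invariant Sylow
3-subgroup `X` of `H`: e.g. take any Sylow `X₀` of `H`, `H = θ X₀`; by Frattini `θ M ≤ θ N(X₀)`, so with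
`N₁ = N(X₀) ⊓ θ M`, `θ M = θ N₁`; a Schur-Zassenhaus complement `J` of `θ ⊓ N₁` in `N₁` is a complement of `θ` in
`θ M`, conjugate to `M` (conjugacy of complements, `M` solvable; or Glauberman's fixed point lemma, or
Hall's D-property in `Solv`). Take `Ω` from `Grp.CritExp.exists_char_amb` for `X` (as in `KM.exists_om`).
An involution `g ∈ M` centralizing `Ω` centralizes `X`, so lies in `H` (`PCA.IsPConstrained.centralizer_le`),
which has odd order. -/
theorem Hy.exists_om (h : Hy G) {B K A : Subgroup G} (hB : IsElementaryAbelian 3 B) (h1 : B ≠ ⊥)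
    (gd : Gd B) (hK : IsPGroup 2 K) (hA : IsPGroup 3 A) (kB : K ≤ 𝐂[B]) (aB : A ≤ 𝐂[B])
    (aK : A ≤ 𝐍[K]) : ∃ Ω, Om 3 B (K ⊔ A) Ω := by
  have : Fact (Nat.Prime 3) := ⟨Nat.prime_three⟩
  have : Fact (Nat.Prime 2) := ⟨Nat.prime_two⟩
  have pB := elemAb_isPGroup hB
  have hM : K ⊔ A ≤ 𝐂[B] := sup_le kB aB
  have eM := subgroupOfEquivOfLe hM
  have h2 : ¬ 2 ∣ Nat.card (pPrimeCore 3 𝐂[B]) := by
    obtain ⟨⟨b, hb⟩, b1⟩ := (Subgroup.ne_bot_iff_exists_ne_one).1 h1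
    have b1' : b ≠ 1 := fun e => b1 (Subtype.ext e)
    have hle : 𝐂[B] ≤ centralizer {b} := centralizer_le (Set.singleton_subset_iff.2 hb)
    have := PCA.le_pPrimeCore_of_normal_in_centralizer (h.conC1 (hB.2 b hb) b1')
      ((elemAb_le_centralizer hB).trans hle) pB (Grp.map_pPrimeCore_coprime 3 (𝐂[B]).subtype)
      (le_inf ((map_subtype_le _).trans hle) (map_subtype_le _))
      (inf_le_right.trans (le_normalizer_map_subtype _))
    rw [← card_subtype]
    exact Sig.not_dvd_of_le this (gd b hb b1')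
  have hc : (Nat.card ((K ⊔ A).subgroupOf 𝐂[B])).Coprime (Nat.card (pPrimeCore 3 𝐂[B])) := by
    rw [Nat.card_congr eM.toEquiv]
    refine Nat.Coprime.symm (Nat.coprime_of_dvd fun r hr hd => ?_)
    have : Fact r.Prime := ⟨hr⟩
    refine Sig.not_dvd_sup' aK (Sig.not_dvd_of_isPGroup ?_ hK) (Sig.not_dvd_of_isPGroup ?_ hA)
    · rintro rfl; exact h2 hd
    · rintro rfl; exact Grp.not_dvd_card_pPrimeCore 3 _ hd
  have hs : Group.IsSolvable ((K ⊔ A).subgroupOf 𝐂[B]) := by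
    have := hK.isNilpotent
    have := hA.isNilpotent
    have := Sig.isSolvable_sup aK inferInstance inferInstance
    exact Group.isSolvable_of_surjective (f := eM.symm.toMonoidHom) eM.symm.surjective
  obtain ⟨Ω, o1, o2, o3, o4⟩ := gdb_aux (h.conC pB h1) h2 hc hs
  rw [normalizer_eq_subgroupOf] at o1
  rw [centralizer_eq_subgroupOf] at o3 o4
  refine ⟨Ω.map (𝐂[B]).subtype, map_subtype_le _, fun g hg => o1 (x := ⟨g, hM hg⟩) hg, ?_, ?_,
    fun g hg hg2 hgc => congrArg Subtype.val (o4 ⟨g, hM hg⟩ hg (Subtype.ext hg2) hgc)⟩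
  · rintro _ ⟨x, hx, rfl⟩
    exact congrArg Subtype.val (o2 x hx)
  · rintro _ ⟨x, hx, rfl⟩ _ ⟨y, hy, rfl⟩
    exact o3 x hx y hy

end Cfsg.Agent.Msn
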