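import Cfsg.Agent.Msn.K3
import Cfsg.Agent.Msn.GdA
import Cfsg.Agent.Msn.GdB

/-! Mason's theorem: rank bounds and the existence of a pair. -/

set_option autoImplicit false
set_option linter.unusedSectionVars false

namespace Cfsg.Agent.Msn

open Subgroup Cfsg Cfsg.Agent.PLocal Cfsg.Agent.PLocal.Amb
open Cfsg.Agent.PLocal.CP (IsCharP)
open Cfsg.Agent.PLocal.Sig (Hyp)
open Cfsg.Agent.KM hiding Om Ctx MP rank_le_two
open scoped commutatorElement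

variable {G : Type*} [Group G] [Finite G]


theorem Hy.ctx0 (h : Hy G) : Ctx0 (Gd (G := G)) 3 :=
  ⟨by norm_num, fun _ _ hB h1 g hK hA a b c => h.exists_om hB h1 g hK hA a b c, Gd.mono,
    fun hA h3 => h.gd_of_27 hA h3, fun _ t1 tt => h.ch2c t1 tt⟩

theorem Hy.le_nine (h : Hy G) {Q E : Subgroup G} (hQ : IsPGroup 2 Q) (Q1 : Q ≠ ⊥)
    (hE : IsElementaryAbelian 3 E) (hn : E ≤ 𝐍[Q]) : Nat.card E ≤ 9 :=
  h.ctx0.rank_le_two hQ Q1 hE hn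

theorem Hy.le_nine' (h : Hy G) {E : Subgroup G} (hE : IsElementaryAbelian 3 E) {s : G} (s1 : s ≠ 1)
    (ss : s * s = 1) (hs : s ∈ 𝐂[E]) : Nat.card E ≤ 9 :=
  h.le_nine (isPGroup_zpowers ⟨1, by rw [pow_one, pow_two, ss]⟩) (zpowers_ne_bot.2 s1) hE
    ((le_centralizer_iff.1 (zpowers_le.2 hs)).trans (centralizer_le_normalizer' _))

theorem Hy.ctx (h : Hy G) : Ctx (Gd (G := G)) 3 9 :=
  ⟨h.ctx0, fun _ _ hA _ s1 ss hs => h.le_nine' hA s1 ss hs⟩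

theorem Pair.mp (h : Hy G) {z : G} {A : Subgroup G} (x : Pair z A) : ∃ T C, MP Gd 3 9 A z T C := by
  obtain ⟨T, C, cr⟩ := exists_cr x.zz (h.ch2c x.z1 x.zz)
  exact ⟨T, C, h.ctx, x.ea, x.gd, x.nine, x.nine, x.z1, x.zz, x.ct, cr⟩

theorem Pair.card (h : Hy G) {z : G} {A : Subgroup G} (x : Pair z A) : Nat.card A = 9 :=
  le_antisymm (h.le_nine' x.ea x.z1 x.zz x.ct) x.nine

theorem Om.two' {B L Ω : Subgroup G} (h : Om 3 B L Ω) (hB : IsElementaryAbelian 3 B) {y z k₁ k₃ : G}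
    (hy : y ∈ Ω) (hz : z ∈ Ω) (hy1 : y ≠ 1) (hz1 : z ≠ 1) (h1 : k₁ ∈ 𝐂[B]) (h3 : k₃ ∈ 𝐂[B])
    (e1 : k₁ * y * k₁⁻¹ = y⁻¹) (e3 : y * k₃ = k₃ * y) (e3' : k₃ * z * k₃⁻¹ = z⁻¹) :
    ∃ A, IsElementaryAbelian 3 A ∧ Nat.card B * 9 ≤ Nat.card A ∧ B ⊔ zpowers y ≤ A := by
  have a1 := ea_ext hB (h.le hy) (h.pow y hy)
  have c1 := card_ext hB (h.le hy) (h.pow y hy) (not_mem_of_inv (by norm_num) h1 (h.pow y hy) hy1 e1)
  have key : ∀ w ∈ Ω, w ≠ 1 → y * w = w * y → k₃ * w * k₃⁻¹ = w⁻¹ →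
      ∃ A, IsElementaryAbelian 3 A ∧ Nat.card B * 9 ≤ Nat.card A ∧ B ⊔ zpowers y ≤ A := by
    intro w hw w1 c e
    have hw' := mem_cent_sup (h.le hw) c
    have c2 := card_ext a1 hw' (h.pow w hw)
      (not_mem_of_inv (by norm_num) (mem_cent_sup h3 e3) (h.pow w hw) w1 e)
    exact ⟨_, ea_ext a1 hw' (h.pow w hw), by omega, le_sup_left⟩
  by_cases hc : ⁅y, z⁆ = 1
  · exact key z hz hz1 (commutatorElement_eq_one_iff_mul_comm.1 hc) e3'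
  · have hc' := h.cls y hy z hz
    refine key ⁅y, z⁆ ?_ hc (hc' y hy) ?_
    · rw [commutatorElement_def]
      exact mul_mem (mul_mem (mul_mem hy hz) (inv_mem hy)) (inv_mem hz)
    · rw [conjugate_commutatorElement, e3', ← e3, mul_inv_cancel_right]
      have := Grp.CommPow.commutator_zpow_right (Commute.symm (hc' z hz)) (-1)
      simpa using this

/-- a hyperplane of `K` centralizing an element of `Ω` inverted by a given involution -/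
theorem Om.hyp {B K Ω : Subgroup G} (o : Om 3 B K Ω) (hK : IsElementaryAbelian 2 K) {k : G}
    (hk : k ∈ K) (k1 : k ≠ 1) :
    ∃ K1 y, Hyp 2 K1 K ∧ y ∈ Ω ∧ y ∈ 𝐂[K1] ∧ y ≠ 1 ∧ k * y * k⁻¹ = y⁻¹ := by
  have sq : k * k = 1 := by rw [← pow_two]; exact hK.2 k hk
  have kn : ¬ Ω ≤ centralizer {k} := fun e =>
    k1 (o.faith k hk sq fun x hx => mem_centralizer_singleton_iff.1 (e hx))
  obtain ⟨K1, hK1, hK1'⟩ := Sig.exists_hyp_not_le hK (fun e => k1 (by rwa [e] at hk))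
    o.nrm (o.not_two_dvd (by norm_num) le_rfl) kn
  obtain ⟨y, hy, y1, hyk⟩ := exists_inverted (X := Ω ⊓ 𝐂[K1]) sq
    (Amb.le_normalizer_inf o.nrm (Sig.ea_norm_cent hK hK1.1) hk)
    fun e => hK1' fun x hx => mem_centralizer_singleton_iff.2 (e x hx)
  exact ⟨K1, y, hK1, hy.1, hy.2, y1, hyk⟩

theorem ga_ea {a : G} (a3 : a ^ 3 = 1) : IsElementaryAbelian 3 (zpowers a) := by
  have := ea_ext (p := 3) (B := (⊥ : Subgroup G)) ⟨inferInstance, by simp⟩ (y := a) (by simp) a3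
  rwa [bot_sup_eq] at this

theorem ga_gd {a : G} (a3 : a ^ 3 = 1) (g : Good a) : Gd (zpowers a) := by
  intro x hx x1
  refine good_congr ?_ g
  rw [← Amb.centralizer_zpowers, ← Amb.centralizer_zpowers]
  congr 2
  have a1 : a ≠ 1 := fun e => x1 (by simpa [e] using hx)
  refine (eq_of_le_of_card_ge (zpowers_le.2 hx) ?_).symm
  rw [Sig.ea_card_zpowers (ga_ea a3) hx x1, Sig.ea_card_zpowers (ga_ea a3) (mem_zpowers a) a1]

theorem Hy.le_four (h : Hy G) {a : G} (a3 : a ^ 3 = 1) (a1 : a ≠ 1) (g : Good a) {K : Subgroup G}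
    (hK : IsElementaryAbelian 2 K) (c : K ≤ centralizer {a}) : Nat.card K ≤ 4 := by
  by_contra hlt
  have h8 : 2 ^ 3 ≤ Nat.card K := by
    obtain ⟨k, hk⟩ := IsPGroup.iff_card.1 (elemAb_isPGroup hK)
    rw [hk] at hlt ⊢
    exact Nat.pow_le_pow_right (by norm_num)
      ((Nat.pow_lt_pow_iff_right (a := 2) (n := 2) (by norm_num)).1 (not_le.1 hlt))
  rw [← Amb.centralizer_zpowers] at c
  obtain ⟨Ω, o⟩ := h.ctx0.om' (ga_ea a3) (zpowers_ne_bot.2 a1) (ga_gd a3 g) (elemAb_isPGroup hK) c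
  obtain ⟨k, hk, k1⟩ := Sig.exists_ne_one_of_le_card (p := 2) (B := K) (by omega)
  obtain ⟨K1, y, h1, y1, y2, y3, y4⟩ := o.hyp hK hk k1
  obtain ⟨l, hl, l1⟩ := Sig.exists_ne_one_of_le_card (p := 2) (B := K1)
    (le_trans (by norm_num) (h1.pow_le h8))
  obtain ⟨K2, w, h2, w1, w2, w3, w4⟩ := o.hyp hK (h1.1 hl) l1
  obtain ⟨s, s1, s2, s3⟩ := h1.exists_mem_inf h2 h8
  obtain ⟨D, d1, d2, d3⟩ := o.two (by norm_num) (ga_ea a3) y1 w1 y3 w3 (c hk) (c (h1.1 hl))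
    (c (h1.1 s1)) y4 (y2 l hl).symm w4 (y2 s s1).symm (w2 s s2).symm
  have := h.le_nine' d1 s3 (by rw [← pow_two]; exact hK.2 s (h1.1 s1)) d3
  rw [Sig.ea_card_zpowers (ga_ea a3) (mem_zpowers a) a1] at d2
  omega

theorem Hy.pair_of_four (h : Hy G) {B K : Subgroup G} (hB : IsElementaryAbelian 3 B) (B1 : B ≠ ⊥)
    (g : Gd B) (hK : IsElementaryAbelian 2 K) (c : K ≤ 𝐂[B]) (h4 : 2 ^ 2 ≤ Nat.card K) :
    ∃ (z : G) (A : Subgroup G), Pair z A := by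
  obtain ⟨Ω, o⟩ := h.ctx0.om' hB B1 g (elemAb_isPGroup hK) c
  obtain ⟨k, hk, k1⟩ := Sig.exists_ne_one_of_le_card (p := 2) (B := K) (by omega)
  obtain ⟨K1, y, h1, y1, y2, y3, y4⟩ := o.hyp hK hk k1
  obtain ⟨l, hl, l1⟩ := Sig.exists_ne_one_of_le_card (p := 2) (B := K1)
    (le_trans (by norm_num) (h1.pow_le h4))
  obtain ⟨K2, w, h2, w1, w2, w3, w4⟩ := o.hyp hK (h1.1 hl) l1
  obtain ⟨D, d1, d2, d3⟩ := o.two' hB y1 w1 y3 w3 (c hk) (c (h1.1 hl)) y4 (y2 l hl).symm w4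
  have b3 : 3 ≤ Nat.card B := by
    simpa using card_mul_le_of_lt (elemAb_isPGroup hB) (bot_lt_iff_ne_bot.2 B1)
  have c1 := card_ext hB (o.le y1) (o.pow y y1)
    (not_mem_of_inv (by norm_num) (c hk) (o.pow y y1) y3 y4)
  exact ⟨l, B ⊔ zpowers y, l1, by rw [← pow_two]; exact hK.2 l (h1.1 hl),
    ea_ext hB (o.le y1) (o.pow y y1), by omega, (h.gd_of_27 d1 (by omega)).mono d3,
    mem_cent_sup (c (h1.1 hl)) (y2 l hl).symm⟩

theorem Hy.exists_pair (h : Hy G) (ng : ¬ NG G) : ∃ (z : G) (A : Subgroup G), Pair z A := by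
  unfold NG at ng
  push Not at ng
  obtain ⟨A, T, hA, h9, g, hT, hn, T1⟩ := ng
  obtain ⟨B, hB, hB'⟩ := Sig.exists_hyp_not_le (L := ⊥) hA (Sig.ne_bot_of_pow_le (p := 3) (k := 1) h9)
    hn (Sig.not_dvd_of_isPGroup (by norm_num) hT) fun e => T1 (le_bot_iff.1 e)
  set Q := T ⊓ 𝐂[B] with hQ
  have pQ : IsPGroup 2 Q := hT.to_le inf_le_left
  have nQ : A ≤ 𝐍[Q] := Amb.le_normalizer_inf hn (Sig.ea_norm_cent hA hB.1)
  obtain ⟨⟨w, hw⟩, w1⟩ := Subgroup.ne_bot_iff_exists_ne_one.1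
    (Amb.inf_centralizer_ne_bot pQ pQ le_normalizer fun e => hB' e.le)
  obtain ⟨k, hk⟩ := Amb.isPGroup_iff.1 pQ w hw.1
  obtain ⟨j, z1, zz⟩ := exists_inv_pow (fun e => w1 (Subtype.ext e)) hk
  have hz := pow_mem hw j
  set z := w ^ j
  by_cases hc : z ∈ 𝐂[A]
  · exact ⟨z, A, z1, zz, hA, h9, g, hc⟩
  rw [mem_centralizer_iff] at hc
  push Not at hc
  obtain ⟨a, ha, hne⟩ := hc
  have h1 := conj_mem_of_mem_normalizer (nQ ha) hz.1
  have vv : a * z * a⁻¹ * (a * z * a⁻¹) = 1 := by rw [conj_mul, zz, mul_one, mul_inv_cancel]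
  exact h.pair_of_four (elemAb_mono hA hB.1)
    (Sig.ne_bot_of_pow_le (p := 3) (k := 0) (hB.pow_le (k := 1) h9)) (g.mono hB.1)
    (four_ea vv zz (hz.2 _ h1)) (four_le _ _ _ h1.2 hz.1.2)
    (four_card _ _ _ (by simpa using z1) z1 fun e => hne (mul_inv_eq_iff_eq_mul.1 e))

end Cfsg.Agent.Msn
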