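import Cfsg.Agent.Msn.GA
import Cfsg.Agent.Grp.UniqueOrderP
import Cfsg.Agent.LES.Setting
import Cfsg.Agent.S0028

/-! Mason's theorem: the centralizer of the involution of a pair. -/

set_option autoImplicit false
set_option linter.unusedSectionVars false

namespace Cfsg.Agent.Msn

open Subgroup Cfsg Cfsg.Agent.PLocal Cfsg.Agent.PLocal.Amb
open Cfsg.Agent.PLocal.CP (IsCharP)
open Cfsg.Agent.PLocal.Sig (Hyp)
open Cfsg.Agent.KM hiding Om Ctx MP rank_le_two
open scoped commutatorElement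

variable {G : Type*} [Group G] [Finite G] {z : G} {A : Subgroup G}

namespace Pair

theorem A_le (x : Pair z A) : A ≤ centralizer {z} :=
  fun a ha => mem_centralizer_singleton_iff.2 (x.ct a ha)

theorem ord (x : Pair z A) : orderOf z = 2 := orderOf_eq_prime (by rw [pow_two, x.zz]) x.z1

theorem cj (x : Pair z A) {g : G} (hg : g ∈ centralizer {z}) : Pair z cj(g, A) := by
  refine ⟨x.z1, x.zz, isEA_map x.ea _, by rw [card_cj]; exact x.nine, x.gd.cj g, ?_⟩
  intro a ha
  obtain ⟨y, hy, rfl⟩ := mem_cj_iff_exists.1 ha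
  exact mem_centralizer_singleton_iff.1 (mul_mem (mul_mem hg (x.A_le hy)) (inv_mem hg))

theorem fix (h : Hy G) (x : Pair z A) {v : G} (vz : v * z = z * v) (vv : v * v = 1)
    (hv : v ∈ 𝐂[A]) : v = 1 ∨ v = z := by
  by_cases e : v = 1
  · exact Or.inl e
  · exact Or.inr (h.ctx.eq_inv x.ea x.gd x.nine x.nine vv x.zz e x.z1 vz hv x.ct)

theorem fstar (h : Hy G) (x : Pair z A) :
    generalizedFittingSubgroup (centralizer ({z} : Set G)) = pCore 2 (centralizer ({z} : Set G)) := by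
  rw [fstar_eq_pCore_iff, ← CP.isCharP_iff]
  exact h.ch2c x.z1 x.zz

theorem cyclic (h : Hy G) (x : Pair z A) {X : Subgroup G} (hX : IsPGroup 2 X) (hc : X ≤ 𝐂[X])
    (hn : A ≤ 𝐍[X]) (hz : X ≤ centralizer {z}) : IsCyclic X := by
  have tX : zpowers z ≤ 𝐂[X] := zpowers_le.2 fun y hy => mem_centralizer_singleton_iff.1 (hz hy)
  have pz : IsPGroup 2 (zpowers z) := isPGroup_zpowers ⟨1, by rw [pow_one, pow_two, x.zz]⟩
  have k : X ≤ 𝐂[A] := by
    refine le_sup_left.trans (h.ctx.cent_ab x.ea x.gd x.nine x.nine (X := X ⊔ zpowers z)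
      (isPGroup_sup hX pz ((le_centralizer_iff.1 tX).trans (centralizer_le_normalizer' _))) ?_
      (Amb.le_normalizer_sup hn ?_) (mem_sup_right (mem_zpowers z)) x.z1 x.zz x.ct)
    · rw [Amb.centralizer_sup]
      exact sup_le (le_inf hc (le_centralizer_iff.1 tX)) (le_inf tX (Subgroup.le_centralizer _))
    · refine le_trans ?_ (centralizer_le_normalizer' _)
      rw [Amb.centralizer_zpowers]; exact x.A_le
  have := Subgroup.le_centralizer_iff_isMulCommutative.1 hc
  have key : ∀ u : X, (orderOf u).Prime → (u : G) = z := by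
    intro u hu
    obtain ⟨n, hn⟩ := IsPGroup.iff_orderOf.1 hX u
    have e : orderOf u = 2 :=
      (Nat.prime_dvd_prime_iff_eq hu Nat.prime_two).1 (hu.dvd_of_dvd_pow hn.dvd)
    refine (x.fix h (mem_centralizer_singleton_iff.1 (hz u.2)) ?_ (k u.2)).resolve_left fun e1 => ?_
    · have := pow_orderOf_eq_one u
      rw [e, pow_two] at this
      exact congrArg Subtype.val this
    · rw [show u = 1 from Subtype.ext e1] at e
      simp at e
  refine Grp.isCyclic_of_prime_order_mem_zpowers fun u v hu hv => ?_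
  rw [show v = u from Subtype.ext ((key v (hv ▸ hu)).trans (key u hu).symm)]
  exact mem_zpowers u

theorem symp (h : Hy G) (x : Pair z A) :
    IsOfSymplecticType (generalizedFittingSubgroup (centralizer ({z} : Set G))) := by
  rw [x.fstar h]
  refine ⟨Grp.pCore_isPGroup 2 _, fun X hX hc => ?_⟩
  have p1 : IsPGroup 2 X := (Grp.pCore_isPGroup 2 _).to_subgroup X
  have := x.cyclic h (X := (X.map (Subgroup.subtype _)).map (Subgroup.subtype _)) ((p1.map _).map _)
    (Subgroup.le_centralizer_iff_isMulCommutative.2 inferInstance)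
    (x.A_le.trans (le_normalizer_map_subtype _)) (map_subtype_le _)
  exact ((X.equivMapOfInjective _ (subtype_injective _)).trans
    (Subgroup.equivMapOfInjective _ _ (subtype_injective _))).isCyclic.2 this

theorem good (h : Hy G) (x : Pair z A) {a : G} (az : a * z = z * a) (a3 : a ^ 3 = 1) (a1 : a ≠ 1) :
    Good a := by
  obtain ⟨Y, hY, aY⟩ := exists_isSyl_ge (elemAb_isPGroup (ga_ea a3))
    (zpowers_le.2 (mem_centralizer_singleton_iff.2 az) : _ ≤ centralizer {z})
  obtain ⟨g, hg, AY⟩ := hY.exists_cj_le (elemAb_isPGroup x.ea) x.A_le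
  replace x := x.cj hg
  generalize cj(g, A) = A at x AY
  obtain ⟨⟨w, hw⟩, w1⟩ := Subgroup.ne_bot_iff_exists_ne_one.1
    (Amb.inf_centralizer_ne_bot hY.pgrp hY.pgrp le_normalizer fun e =>
      Sig.ne_bot_of_pow_le (p := 3) (k := 1) x.nine (le_bot_iff.1 (e ▸ AY)))
  obtain ⟨c, hc, c1, c3⟩ : ∃ c ∈ Y ⊓ 𝐂[Y], c ≠ 1 ∧ c ^ 3 = 1 := by
    obtain ⟨k, hk⟩ := Amb.isPGroup_iff.1 hY.pgrp w hw.1
    have w1' : w ≠ 1 := fun e => w1 (Subtype.ext e)
    clear w1
    induction k with
    | zero => exact absurd (by simpa using hk) w1'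
    | succ k ih =>
      by_cases e : w ^ 3 ^ k = 1
      · exact ih e
      · exact ⟨_, pow_mem hw _, e, by rw [← pow_mul, ← pow_succ, hk]⟩
  have cz : c * z = z * c := mem_centralizer_singleton_iff.1 (hY.le hc.1)
  have cA : c ∈ A := by
    by_contra hn
    have k1 := card_ext x.ea (centralizer_anti AY hc.2) c3 hn
    have k2 := h.le_nine' (ea_ext x.ea (centralizer_anti AY hc.2) c3) x.z1 x.zz
      (mem_cent_sup x.ct cz)
    have := x.nine
    omega
  have gB : Gd (zpowers c) := x.gd.mono (zpowers_le.2 cA)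
  by_cases ac : a ∈ zpowers c
  · exact gB a ac a1
  have pz : IsPGroup 2 (zpowers z) := isPGroup_zpowers ⟨1, by rw [pow_one, pow_two, x.zz]⟩
  have aC : a ∈ 𝐂[zpowers c] := le_centralizer_iff.1 (zpowers_le.2 hc.2) (aY (mem_zpowers a))
  have zC : z ∈ 𝐂[zpowers c] := by
    rw [Amb.centralizer_zpowers]; exact mem_centralizer_singleton_iff.2 cz.symm
  have aZ : zpowers a ≤ 𝐂[zpowers z] := by
    rw [Amb.centralizer_zpowers]; exact zpowers_le.2 (mem_centralizer_singleton_iff.2 az)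
  obtain ⟨Ω, o⟩ := h.exists_om (ga_ea c3) (zpowers_ne_bot.2 c1) gB pz (elemAb_isPGroup (ga_ea a3))
    (zpowers_le.2 zC) (zpowers_le.2 aC) (aZ.trans (centralizer_le_normalizer' _))
  have nz : zpowers z ≤ 𝐍[Ω] := le_sup_left.trans o.nrm
  have k : z ∉ 𝐂[Ω ⊓ 𝐂[zpowers a]] := fun e => x.z1 (o.faith z (mem_sup_left (mem_zpowers z)) x.zz
    (S0028.result 3 (zpowers a) (zpowers z) Ω (elemAb_isPGroup (ga_ea a3))
      (by rw [Nat.card_zpowers, x.ord]; norm_num) o.pgrp aZ (le_sup_right.trans o.nrm) nz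
      (le_centralizer_iff.1 (zpowers_le.2 e)) (mem_zpowers z)))
  obtain ⟨y, hy, y1, e⟩ := exists_inverted x.zz (Amb.le_normalizer_inf nz
    (Amb.le_normalizer_centralizer ((le_centralizer_iff.1 aZ).trans (centralizer_le_normalizer' _)))
    (mem_zpowers z)) k
  have a1' := ea_ext (ga_ea c3) aC a3
  have c1' := card_ext (ga_ea c3) aC a3 ac
  have hy' := mem_cent_sup (o.le hy.1) (hy.2 a (mem_zpowers a))
  have c2 := card_ext a1' hy' (o.pow y hy.1)
    (not_mem_of_inv (by norm_num) (mem_cent_sup zC az) (o.pow y hy.1) y1 e)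
  rw [Sig.ea_card_zpowers (ga_ea c3) (mem_zpowers c) c1] at c1'
  exact h.gd_of_27 (ea_ext a1' hy' (o.pow y hy.1)) (by omega) a
    (mem_sup_left (mem_sup_right (mem_zpowers a))) a1

theorem dvd81 (h : Hy G) (x : Pair z A) : 81 ∣ Nat.card G := by
  obtain ⟨T, C, m⟩ := x.mp h
  obtain ⟨a, ha, a1⟩ := Sig.exists_ne_one_of_le_card (p := 3) (B := A) (le_trans (by norm_num) x.nine)
  obtain ⟨B, hB, -, nB⟩ := m.exists_hyp ha a1
  obtain ⟨i, hi, -, -, ii, -, -⟩ := m.quat hB.1 nB
  set U := ⁅C ⊓ 𝐂[B], A⁆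
  have UT : U ≤ T := fun u hu => m.cr.le (m.U_le hB.1 hu).1.1
  obtain ⟨Ω, o⟩ := h.exists_om (K := U) (A := A) (elemAb_mono x.ea hB.1)
    (Sig.ne_bot_of_pow_le (p := 3) (k := 0) (hB.pow_le (k := 1) x.nine)) (x.gd.mono hB.1)
    (m.cr.pT.to_le UT) (elemAb_isPGroup x.ea) (fun u hu => (m.U_le hB.1 hu).2)
    (Sig.ea_le_cent x.ea hB.1) (Amb.le_normalizer_commutator (m.nX hB.1) le_normalizer)
  have zU : z ∈ U := ii ▸ mul_mem hi hi
  obtain ⟨y, hy, y1, e⟩ := exists_inverted x.zz (o.nrm (mem_sup_left zU))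
    fun e => x.z1 (o.faith z (mem_sup_left zU) x.zz e)
  have y3 := o.pow y hy
  have yy : ∀ w : G, w ^ 3 = 1 → w = w⁻¹ → w = 1 := fun w hw =>
    eq_one_of_inv (p := 3) (by norm_num) (k := 1) (by rwa [pow_one])
  set y' := i * y * i⁻¹ with hy'
  have y'Ω : y' ∈ Ω := conj_mem_of_mem_normalizer (o.nrm (mem_sup_left hi)) hy
  have e2 : i * y' * i⁻¹ = y⁻¹ := by rw [← e, ← ii, hy']; group
  have e' : z * y' * z⁻¹ = y'⁻¹ := by
    rw [hy', conj_inv, ← e, ← ii]; group
  have n1 : y' ≠ y := fun q => y1 (yy y y3 (by rw [← e2, q, ← hy', q]))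
  have n2 : y' ≠ y⁻¹ := fun q => y1 (yy y y3 (by
    have := e2
    rw [q, ← conj_inv, ← hy', q, inv_inv] at this
    exact this))
  have n3 : y' ≠ 1 := by simpa [hy'] using y1
  have pP : IsPGroup 3 ↥(A ⊔ Ω) := isPGroup_sup (elemAb_isPGroup x.ea) o.pgrp (le_sup_right.trans o.nrm)
  let v : Fin 4 → G := ![1, y, y⁻¹, y']
  have vΩ : ∀ j, v j ∈ Ω := fun j => by
    fin_cases j
    exacts [one_mem _, hy, inv_mem hy, y'Ω]
  have vz : ∀ j, z * v j * z⁻¹ = (v j)⁻¹ := fun j => by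
    fin_cases j
    · simp [v]
    · exact e
    · show z * y⁻¹ * z⁻¹ = y⁻¹⁻¹
      rw [← conj_inv, e]
    · exact e'
  have n4 : y ≠ y⁻¹ := fun q => y1 (yy y y3 q)
  have vi : Function.Injective v := by
    intro j k hjk
    fin_cases j <;> fin_cases k <;>
      simp [v, y1, y1.symm, n1, n1.symm, n2, n2.symm, n3, n3.symm, n4, n4.symm] at hjk ⊢
  let f : A × Fin 4 → ↥(A ⊔ Ω) := fun s =>
    ⟨s.1 * v s.2, mul_mem (mem_sup_left s.1.2) (mem_sup_right (vΩ _))⟩
  have fi : Function.Injective f := by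
    rintro ⟨s, j⟩ ⟨t, k⟩ q
    have q1 : (s : G) * v j = t * v k := congrArg Subtype.val q
    have cz : ∀ s : A, z * s * z⁻¹ = s := fun s => by rw [← x.ct s s.2, mul_inv_cancel_right]
    have q2 : (s : G) * (v j)⁻¹ = t * (v k)⁻¹ := by
      rw [← vz, ← vz, ← cz s, ← cz t, conj_mul, conj_mul, q1]
    have q3 : v j * v j = v k * v k := by
      calc v j * v j = ((s : G) * (v j)⁻¹)⁻¹ * (s * v j) := by group
        _ = _ := by rw [q1, q2]; group
    have q4 : v j = v k := by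
      have c := fun j => o.pow _ (vΩ j)
      have d : ∀ j, v j * v j = (v j)⁻¹ := fun j => by
        rw [eq_inv_iff_mul_eq_one, ← c j, pow_succ, pow_two]
      rw [d, d] at q3
      exact inv_injective q3
    rw [q4] at q1
    exact Prod.ext (Subtype.ext (mul_right_cancel q1)) (vi q4)
  have c := Nat.card_le_card_of_injective f fi
  rw [Nat.card_prod, x.card h, Nat.card_eq_fintype_card, Fintype.card_fin] at c
  obtain ⟨k, hk⟩ := IsPGroup.iff_card.1 pP
  refine dvd_trans ?_ (card_subgroup_dvd_card (A ⊔ Ω))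
  rw [hk] at c ⊢
  exact pow_dvd_pow 3 (show 4 ≤ k from
    (Nat.pow_lt_pow_iff_right (a := 3) (n := 3) (by norm_num)).1 (by omega))

theorem map_fstar (h : Hy G) (x : Pair z A) :
    (generalizedFittingSubgroup (centralizer ({z} : Set G))).map (centralizer ({z} : Set G)).subtype =
      TT.O2C z := by
  rw [x.fstar h]; rfl

theorem xe (h : Hy G) (x : Pair z A)
    (hE : IsExtraspecial 2 (generalizedFittingSubgroup (centralizer ({z} : Set G)))) : XE z A := by
  have hn : (generalizedFittingSubgroup (centralizer ({z} : Set G))).Normal := by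
    rw [x.fstar h]; infer_instance
  exact ⟨x.map_fstar h ▸ LES.LX_of_fstar_eq x.ord _ rfl hE, x.ea, x.nine, x.ct,
    fun v hv => x.fix h (TT.comm_of_mem_O2C hv),
    fun a az a3 a1 K hK c => h.le_four a3 a1 (x.good h az a3 a1) hK c⟩

end Pair

end Cfsg.Agent.Msn
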