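import Cfsg.Agent.Msn.K1

/-! Mason's theorem: the Klinger–Mason argument for a family of good subgroups, II. -/

set_option autoImplicit false
set_option linter.unusedSectionVars false

namespace Cfsg.Agent.Msn

open Subgroup Cfsg Cfsg.Agent.PLocal Cfsg.Agent.PLocal.Amb
open Cfsg.Agent.PLocal.CP (IsCharP)
open Cfsg.Agent.PLocal.Sig (Hyp)
open Cfsg.Agent.KM hiding Om Ctx MP rank_le_two
open scoped commutatorElement

variable {G : Type*} [Group G] [Finite G] {p : ℕ} [hp : Fact p.Prime] {Γ : Subgroup G → Prop}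

/-- A maximal pair `(t, A)`. -/
structure MP (Γ : Subgroup G → Prop) (p n : ℕ) (A : Subgroup G) (t : G) (T C : Subgroup G) : Prop where
  ctx : Ctx Γ p n
  ea : IsElementaryAbelian p A
  gd : Γ A
  two : p ^ 2 ≤ Nat.card A
  mx : n ≤ Nat.card A
  ne : t ≠ 1
  tt : t * t = 1
  ct : t ∈ 𝐂[A]
  cr : Cr t T C

namespace MP

variable {n : ℕ} {A T C : Subgroup G} {t : G} (m : MP Γ p n A t T C)
include m

theorem A_le : A ≤ centralizer {t} := fun a ha => mem_centralizer_singleton_iff.2 (m.ct a ha)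

theorem comm_t {x : G} (hx : x ∈ T) : x * t = t * x := mem_centralizer_singleton_iff.1 (m.cr.Tle hx)

theorem t_mem : t ∈ C ⊓ 𝐂[C] :=
  have : t ∈ 𝐂[C] := fun _ hx => m.comm_t (m.cr.le hx)
  ⟨m.cr.cent t m.cr.tT this, this⟩

theorem nZ : centralizer {t} ≤ 𝐍[C ⊓ 𝐂[C]] :=
  Amb.le_normalizer_inf m.cr.nC (Amb.le_normalizer_centralizer m.cr.nC)

theorem pZ : IsPGroup 2 ↥(C ⊓ 𝐂[C]) := m.cr.pT.to_le (inf_le_left.trans m.cr.le)

theorem Z_le : C ⊓ 𝐂[C] ≤ 𝐂[A] :=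
  m.ctx.cent_ab m.ea m.gd m.two m.mx m.pZ (inf_le_right.trans (centralizer_anti inf_le_left))
    (m.A_le.trans m.nZ) m.t_mem m.ne m.tt m.ct

theorem eq_t {z : G} (hz : z ∈ T) (hA : z ∈ 𝐂[A]) (h : z * z = 1) : z ∈ zpowers t := by
  rw [mem_zpowers_inv m.tt]
  by_cases e : z = 1
  · exact Or.inl e
  · exact Or.inr (m.ctx.eq_inv m.ea m.gd m.two m.mx h m.tt e m.ne
      (m.comm_t hz) hA m.ct)

theorem Z_inv {z : G} (hz : z ∈ C ⊓ 𝐂[C]) (h : z * z = 1) : z ∈ zpowers t :=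
  m.eq_t (m.cr.le hz.1) (m.Z_le hz) h

theorem odd_cent {g : G} (hg : g ∈ centralizer {t}) (ho : (orderOf g).Coprime 2) :
    g ∈ 𝐂[C ⊓ 𝐂[C]] :=
  cent_of_inv m.pZ (inf_le_right.trans (centralizer_anti inf_le_left)) (m.nZ hg) ho fun x hx h => by
    rcases (mem_zpowers_inv m.tt).1 (m.Z_inv hx h) with rfl | rfl
    · simp
    · exact mem_centralizer_singleton_iff.1 hg

theorem comm_mem {c x : G} (hc : c ∈ C) (hx : x ∈ T) (h : c * c * x = x * (c * c)) :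
    ⁅c, x⁆ ∈ zpowers t := by
  have h1 := m.cr.cm c hc x hx
  refine m.Z_inv h1 ?_
  rw [← pow_two, ← Grp.CommPow.commutator_pow_left (Commute.symm (h1.2 c hc)), pow_two,
    commutatorElement_eq_one_iff_mul_comm, h]

theorem comm_mem' {c x : G} (hc : c ∈ C) (hx : x ∈ C) : ⁅c, x⁆ ∈ zpowers t :=
  m.comm_mem hc (m.cr.le hx) (m.cr.sq c hc x hx).symm

theorem zp_comm {z x : G} (hz : z ∈ zpowers t) (hx : x ∈ centralizer {t}) : z * x = x * z := by
  rcases (mem_zpowers_inv m.tt).1 hz with rfl | rfl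
  · simp
  · exact (mem_centralizer_singleton_iff.1 hx).symm

theorem mul_sq {x y : G} (hx : x ∈ C) (hy : y ∈ C) :
    x * y * (x * y) = ⁅x⁻¹, y⁆ * (x * x * (y * y)) := by
  have h := m.zp_comm (m.comm_mem' (inv_mem hx) hy) (m.cr.Tle (m.cr.le hx))
  calc x * y * (x * y) = x * (x * ⁅x⁻¹, y⁆) * (y * y) := by
        simp only [commutatorElement_def]; group
    _ = _ := by rw [← h, ← mul_assoc x, ← h]; simp only [mul_assoc]

/-- the elements of `C` with square in `⟨t⟩` -/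
def C2 : Subgroup G where
  carrier := {c | c ∈ C ∧ c * c ∈ zpowers t}
  one_mem' := ⟨one_mem _, by simp⟩
  mul_mem' := fun {x y} hx hy => ⟨mul_mem hx.1 hy.1, by
    rw [m.mul_sq hx.1 hy.1]
    exact mul_mem (m.comm_mem' (inv_mem hx.1) hy.1) (mul_mem hx.2 hy.2)⟩
  inv_mem' := fun {x} hx => ⟨inv_mem hx.1, by rw [← mul_inv_rev]; exact inv_mem hx.2⟩

theorem comm_C2 {c x : G} (hc : c ∈ m.C2) (hx : x ∈ T) : ⁅c, x⁆ ∈ zpowers t :=
  m.comm_mem hc.1 hx (m.zp_comm hc.2 (m.cr.Tle hx))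

theorem comm_A {c a : G} (hc : c ∈ C) (ha : a ∈ A) : ⁅c, a⁆ ∈ m.C2 := by
  have h1 : a * c⁻¹ * a⁻¹ ∈ C := conj_mem_of_mem_normalizer (m.cr.nC (m.A_le ha)) (inv_mem hc)
  have e : ⁅c, a⁆ = c * (a * c⁻¹ * a⁻¹) := by simp only [commutatorElement_def, mul_assoc]
  rw [e]
  refine ⟨mul_mem hc h1, ?_⟩
  have h2 := m.Z_le (show c⁻¹ * c⁻¹ ∈ C ⊓ 𝐂[C] from
    ⟨C.mul_mem (C.inv_mem hc) (C.inv_mem hc), m.cr.sq _ (C.inv_mem hc)⟩) a ha
  rw [m.mul_sq hc h1, conj_mul, h2, mul_inv_cancel_right, ← mul_inv_rev, mul_inv_cancel, mul_one]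
  exact m.comm_mem' (inv_mem hc) h1

theorem cent_C2 {f : G} (hf : f ∈ T) (h : f ∈ 𝐂[m.C2]) : f ∈ 𝐂[A] := by
  intro a ha
  have hf' := conj_mem_of_mem_normalizer (m.cr.nT (m.A_le ha)) hf
  have k0 : ∀ d ∈ C, a * f * a⁻¹ * d * (a * f * a⁻¹)⁻¹ = f * d * f⁻¹ := by
    intro d hd
    have hza := m.Z_le (inv_mem (m.cr.cm d hd _ hf)) a ha
    have he := h _ (m.comm_A (inv_mem hd) (inv_mem ha))
    calc a * f * a⁻¹ * d * (a * f * a⁻¹)⁻¹
        = a * (f * d * (⁅d⁻¹, a⁻¹⁆ * f⁻¹)) * a⁻¹ := by simp only [commutatorElement_def]; group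
      _ = a * (f * d * (f⁻¹ * ⁅d⁻¹, a⁻¹⁆)) * a⁻¹ := by rw [(Commute.inv_right he).eq]
      _ = (a * ⁅d, f⁆⁻¹) * a⁻¹ * d := by simp only [commutatorElement_def]; group
      _ = _ := by rw [hza]; simp only [commutatorElement_def]; group
  have key : ⁅a, f⁆ ∈ 𝐂[C] := by
    intro c hc
    have := k0 _ (inv_conj_mem_of_mem_normalizer (m.cr.nC (m.cr.Tle hf)) hc)
    calc c * ⁅a, f⁆ = f * (f⁻¹ * c * f) * f⁻¹ * ⁅a, f⁆ := by group
      _ = _ := by rw [← this]; simp only [commutatorElement_def]; group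
  exact CP.commute_of_commutator_mem (p := 2) m.pZ (coprime_two' m.ctx.ne (m.ea.2 a ha))
    (le_centralizer_iff.1 m.Z_le ha) ⟨m.cr.cent _ (mul_mem hf' (inv_mem hf)) key, key⟩

theorem nX {B : Subgroup G} (hB : B ≤ A) : A ≤ 𝐍[C ⊓ 𝐂[B]] :=
  Amb.le_normalizer_inf (m.A_le.trans m.cr.nC) (Sig.ea_norm_cent m.ea hB)

theorem U_le {B : Subgroup G} (hB : B ≤ A) : ⁅C ⊓ 𝐂[B], A⁆ ≤ m.C2 ⊓ 𝐂[B] :=
  commutator_le.2 fun u hu a ha => ⟨m.comm_A hu.1 ha, by
    have := Sig.ea_le_cent m.ea hB ha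
    have hu2 : u ∈ 𝐂[B] := hu.2
    show u * a * u⁻¹ * a⁻¹ ∈ 𝐂[B]
    exact mul_mem (mul_mem (mul_mem hu2 this) (inv_mem hu2)) (inv_mem this)⟩

theorem U_comm {B B' : Subgroup G} (hB : Hyp p B A) (hB' : B' ≤ A) {a : G} (ha : a ∈ B')
    (haB : a ∉ B) : ⁅C ⊓ 𝐂[B], A⁆ ≤ 𝐂[C ⊓ 𝐂[B']] := by
  refine comm_hyp_le hB inf_le_right (Amb.le_normalizer_centralizer (m.nX hB')) (hB' ha) haB
    fun u hu v hv => ?_
  have h1 : a * v = v * a := hv.2 a ha
  have hz := m.comm_mem' (inv_mem hu.1) hv.1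
  have h2 := m.zp_comm hz (m.A_le (hB' ha))
  have h3 : u⁻¹ * v * u = ⁅u⁻¹, v⁆ * v := by simp only [commutatorElement_def]; group
  have h4 : a * (u⁻¹ * v * u) = u⁻¹ * v * u * a := by
    rw [h3, ← mul_assoc, ← h2, mul_assoc, h1, mul_assoc]
  calc v * ⁅u, a⁆ = u * (u⁻¹ * v * u * a) * u⁻¹ * a⁻¹ := by simp only [commutatorElement_def]; group
    _ = u * a * u⁻¹ * (v * a⁻¹) := by rw [← h4]; group
    _ = _ := by rw [← (Commute.inv_left h1).eq]; simp only [commutatorElement_def]; group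

theorem U_le_comm {B : Subgroup G} (hB : Hyp p B A) {a : G} (ha : a ∈ A) (haB : a ∉ B) :
    ⁅C ⊓ 𝐂[B], A⁆ ≤ ⁅C ⊓ 𝐂[B], zpowers a⁆ :=
  comm_hyp_le hB inf_le_right
    (Amb.le_normalizer_commutator (m.nX hB.1) (Sig.ea_norm m.ea (zpowers_le.2 ha))) ha haB
    fun _ hu => commutator_mem_commutator hu (mem_zpowers a)

/-- `[C_C(B), A]` contains a quaternion group. -/
theorem quat {B : Subgroup G} (hB : B ≤ A) (hn : ¬ C ⊓ 𝐂[B] ≤ 𝐂[A]) :
    ∃ i ∈ ⁅C ⊓ 𝐂[B], A⁆, ∃ j ∈ ⁅C ⊓ 𝐂[B], A⁆, i * i = t ∧ j * j = t ∧ i * j = t * (j * i) := by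
  set U := ⁅C ⊓ 𝐂[B], A⁆ with hU
  have UC : U ≤ C := fun x hx => (m.U_le hB hx).1.1
  have UT : U ≤ T := UC.trans m.cr.le
  have pU : IsPGroup 2 U := m.cr.pT.to_le UT
  have nU : A ≤ 𝐍[U] := Amb.le_normalizer_commutator (m.nX hB) le_normalizer
  have odd : ∀ a ∈ A, (orderOf a).Coprime 2 := fun a ha => coprime_two' m.ctx.ne (m.ea.2 a ha)
  have sq : ∀ x ∈ U, x * x = 1 ∨ x * x = t := fun x hx =>
    (mem_zpowers_inv m.tt).1 (m.U_le hB hx).1.2
  have nc : ¬ U ≤ 𝐂[A] := fun h => hn fun x hx a ha =>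
    CP.commute_of_commutator_mem pU (odd a ha) (le_centralizer_iff.1 h ha) (by
      rw [← commutatorElement_inv]; exact inv_mem (commutator_mem_commutator hx ha))
  -- abelian `A`-invariant subgroups of `T` are centralized
  have ab : ∀ X : Subgroup G, X ≤ T → X ≤ 𝐂[X] → A ≤ 𝐍[X] → X ≤ 𝐂[A] := by
    intro X h1 h2 h3
    have tX : zpowers t ≤ 𝐂[X] := zpowers_le.2 fun x hx => m.comm_t (h1 hx)
    refine le_sup_left.trans (m.ctx.cent_ab m.ea m.gd m.two m.mx (X := X ⊔ zpowers t)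
      (m.cr.pT.to_le (sup_le h1 (zpowers_le.2 m.cr.tT))) ?_ (Amb.le_normalizer_sup h3 ?_)
      ((le_sup_right : zpowers t ≤ _) (mem_zpowers t)) m.ne m.tt m.ct)
    · rw [Amb.centralizer_sup]
      exact sup_le (le_inf h2 (le_centralizer_iff.1 tX)) (le_inf tX (Subgroup.le_centralizer _))
    · refine le_trans ?_ (centralizer_le_normalizer' _)
      rw [Amb.centralizer_zpowers]; exact m.A_le
  by_contra hh
  push Not at hh
  have cm : ∀ i ∈ U, ∀ j ∈ U, i * i = t → j * j = t → i * j = j * i := by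
    intro i hi j hj e1 e2
    rcases (mem_zpowers_inv m.tt).1 (m.comm_mem' (UC hi) (UC hj)) with e | e
    · exact commutatorElement_eq_one_iff_mul_comm.1 e
    · exact absurd (by rw [← e, commutatorElement_def]; group) (hh i hi j hj e1 e2)
  obtain ⟨i, hi, ii⟩ : ∃ i ∈ U, i * i = t := by
    by_contra h
    push Not at h
    have s1 : ∀ x ∈ U, x * x = 1 := fun x hx => (sq x hx).resolve_right (h x hx)
    refine nc (ab U UT (fun x hx y hy => ?_) nU)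
    have e := s1 _ (mul_mem hy hx)
    rw [← inv_eq_of_mul_eq_one_right e, mul_inv_rev, inv_eq_of_mul_eq_one_right (s1 x hx),
      inv_eq_of_mul_eq_one_right (s1 y hy)]
  set X := closure {x | x ∈ U ∧ x * x = t} with hX
  have XU : X ≤ U := (closure_le _).2 fun x hx => hx.1
  have XA : X ≤ 𝐂[A] := by
    refine ab X (XU.trans UT) ?_ fun a ha => CP.mem_normalizer_of_conj_mem fun x hx => ?_
    · rw [hX, Subgroup.centralizer_closure, closure_le]
      exact fun x hx y hy => cm y hy.1 x hx.1 hy.2 hx.2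
    · induction hx using closure_induction with
      | mem x hx =>
        exact subset_closure ⟨conj_mem_of_mem_normalizer (nU ha) hx.1, by
          rw [conj_mul, hx.2, m.ct a ha, mul_inv_cancel_right]⟩
      | one => simp
      | mul x y _ _ h1 h2 => rw [← conj_mul]; exact mul_mem h1 h2
      | inv x _ h1 => rw [← conj_inv]; exact inv_mem h1
  have iX : i ∈ X := subset_closure ⟨hi, ii⟩
  have Y : ∀ x ∈ U, x * i = i * x → x ∈ X := by
    intro x hx h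
    rcases sq x hx with e | e
    · have : x * i ∈ X := subset_closure ⟨mul_mem hx hi, by
        rw [mul_assoc, ← mul_assoc i, ← h, mul_assoc, ← mul_assoc x x, e, one_mul, ii]⟩
      simpa using mul_mem this (inv_mem iX)
    · exact subset_closure ⟨hx, e⟩
  refine nc fun u hu a ha => CP.commute_of_commutator_mem (pU.to_le XU) (odd a ha)
    (le_centralizer_iff.1 XA ha) (Y _ (mul_mem (conj_mem_of_mem_normalizer (nU ha) hu) (inv_mem hu)) ?_)
  have ia : a * i = i * a := XA iX a ha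
  have hz := m.comm_mem' (inv_mem (UC hu)) (UC hi)
  have h2 := m.zp_comm hz (m.A_le ha)
  have h3 : u⁻¹ * i * u = ⁅u⁻¹, i⁆ * i := by simp only [commutatorElement_def]; group
  have h4 : a⁻¹ * (u⁻¹ * i * u) * a = u⁻¹ * i * u := by
    rw [h3, mul_assoc, mul_assoc, ← ia, ← mul_assoc _ a, h2]; group
  calc a * u * a⁻¹ * u⁻¹ * i = a * u * (a⁻¹ * (u⁻¹ * i * u) * a) * a⁻¹ * u⁻¹ := by group
    _ = (a * i) * u * a⁻¹ * u⁻¹ := by rw [h4]; group
    _ = _ := by rw [ia]; group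

theorem exists_hyp {a : G} (ha : a ∈ A) (a1 : a ≠ 1) :
    ∃ B, Hyp p B A ∧ a ∉ B ∧ ¬ C ⊓ 𝐂[B] ≤ 𝐂[A] := by
  haveI : Fact (Nat.Prime 2) := ⟨Nat.prime_two⟩
  have : ¬ C ≤ centralizer {a} := fun h => a1 (m.cr.faith a (m.A_le ha)
    (coprime_two' m.ctx.ne (m.ea.2 a ha)) fun x hx => mem_centralizer_singleton_iff.1 (h hx))
  obtain ⟨B, hB, h⟩ := Sig.exists_hyp_not_le m.ea (Sig.ne_bot_of_pow_le (k := 1) m.two)
    (m.A_le.trans m.cr.nC) (Sig.not_dvd_of_isPGroup m.ctx.ne.symm (m.cr.pT.to_le m.cr.le)) this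
  exact ⟨B, hB, fun e => h fun x hx => mem_centralizer_singleton_iff.2 (hx.2 a e).symm,
    fun e => h fun x hx => mem_centralizer_singleton_iff.2 (e hx a ha).symm⟩

end MP

end Cfsg.Agent.Msn
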