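import Cfsg.Agent.Msn.K2

/-! Mason's theorem: the Klinger–Mason argument for a family of good subgroups, III. -/

set_option autoImplicit false
set_option linter.unusedSectionVars false

namespace Cfsg.Agent.Msn

open Subgroup Cfsg Cfsg.Agent.PLocal Cfsg.Agent.PLocal.Amb
open Cfsg.Agent.PLocal.CP (IsCharP)
open Cfsg.Agent.PLocal.Sig (Hyp)
open Cfsg.Agent.KM hiding Om Ctx MP rank_le_two
open scoped commutatorElement

variable {G : Type*} [Group G] [Finite G] {p : ℕ} [hp : Fact p.Prime] {Γ : Subgroup G → Prop}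

namespace MP

variable {n : ℕ} {A T C : Subgroup G} {t : G} (m : MP Γ p n A t T C)
include m

theorem inf_le {s u : G} {D : Subgroup G} (hs : s ∈ m.C2) (hu : u ∈ m.C2)
    (us : u * s * u⁻¹ = t * s) (nD : centralizer {s} ≤ 𝐍[D]) (sD : s ∈ D) (tD : t ∉ D) {g : G}
    (hg : g ∈ T) (gD : g ∈ D) : g = 1 ∨ g * s = 1 := by
  have k1 : ∀ f ∈ T, f ∈ D → u * f = f * u → f = 1 := by
    intro f hf fD uf
    have a1 : ∀ e ∈ m.C2, e * s = s * e → e * f = f * e := by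
      intro e he h
      rcases (mem_zpowers_inv m.tt).1 (m.comm_C2 he hf) with e1 | e1
      · exact commutatorElement_eq_one_iff_mul_comm.1 e1
      · exact absurd (e1 ▸ mul_mem (conj_mem_of_mem_normalizer
          (nD (mem_centralizer_singleton_iff.2 h)) fD) (inv_mem fD)) tD
    have a2 : f ∈ 𝐂[m.C2] := by
      intro c hc
      rcases (mem_zpowers_inv m.tt).1 (m.comm_mem' hc.1 hs.1) with e1 | e1
      · exact a1 c hc (commutatorElement_eq_one_iff_mul_comm.1 e1)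
      · have e2 : c * s * c⁻¹ = u * s * u⁻¹ := by
          rw [us, ← e1, commutatorElement_def, inv_mul_cancel_right]
        have := a1 _ (mul_mem (inv_mem hu) hc) (by
          calc u⁻¹ * c * s = u⁻¹ * (c * s * c⁻¹) * c := by group
            _ = _ := by rw [e2]; group)
        calc c * f = u * (u⁻¹ * c * f) := by group
          _ = (u * f) * (u⁻¹ * c) := by rw [this]; group
          _ = _ := by rw [uf]; group
    have a3 := m.cent_C2 hf a2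
    by_contra f1
    obtain ⟨k, hk⟩ := Amb.isPGroup_iff.1 m.cr.pT f hf
    obtain ⟨j, j1, j2⟩ := exists_inv_pow f1 hk
    rcases (mem_zpowers_inv m.tt).1 (m.eq_t (pow_mem hf j) (pow_mem a3 j) j2) with e | e
    · exact j1 e
    · exact tD (e ▸ pow_mem fD j)
  rcases (mem_zpowers_inv m.tt).1 (m.comm_C2 hu hg) with e | e
  · exact Or.inl (k1 g hg gD (commutatorElement_eq_one_iff_mul_comm.1 e))
  · refine Or.inr (k1 _ (mul_mem hg (m.cr.le hs.1)) (mul_mem gD sD) ?_)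
    have e1 : u * g * u⁻¹ = t * g := by rw [← e, commutatorElement_def, inv_mul_cancel_right]
    rw [← mul_inv_eq_iff_eq_mul, ← conj_mul, e1, us, ← m.comm_t hg, mul_assoc, ← mul_assoc t t,
      m.tt, one_mul]

theorem final {As Ts D X Ω : Subgroup G} {s u i b y y' : G} (ms : MP Γ p n As s Ts D)
    (hs : s ∈ m.C2) (hu : u ∈ m.C2) (us : u * s * u⁻¹ = t * s) (XC : X ≤ C)
    (Xs : X ≤ centralizer {s}) (hi : i ∈ ⁅X, zpowers b⁆) (iT : i ∈ T) (ii : i * i = t)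
    (hb : b ∈ A) (bs : b ∈ centralizer {s}) (hΩ : ∀ x ∈ Ω, x ^ p = 1) (hy : y ∈ Ω) (hy' : y' ∈ Ω)
    (ys : y ∈ centralizer {s}) (ys' : y' ∈ centralizer {s}) (y1 : y ≠ 1) (yy : y' ∉ zpowers y)
    (ty : t * y * t⁻¹ = y⁻¹) (ty' : t * y' * t⁻¹ = y'⁻¹) : False := by
  set Z := D ⊓ 𝐂[D] with hZ
  have h : SecHyp (centralizer {s}) D Z :=
    ⟨inf_le_left, commutator_le.2 fun x hx z hz => ms.cr.cm x hx z (ms.cr.le hz), ms.cr.nC, ms.nZ⟩
  have odd : ∀ {g : G}, g ^ p = 1 → (orderOf g).Coprime 2 := coprime_two' m.ctx.ne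
  have is : i ∈ centralizer {s} :=
    comm_zpowers_le bs (fun v hv k hk => mul_mem (mul_mem (Xs hv) hk) (inv_mem (Xs hv))) hi
  have ts : t ∈ centralizer {s} := ii ▸ mul_mem is is
  have iZ : i ∈ 𝐂[Z] := comm_zpowers_le (ms.odd_cent bs (odd (m.ea.2 b hb)))
    (fun v hv k hk => conj_mem_of_mem_normalizer
      (Amb.le_normalizer_centralizer ms.nZ (Xs hv)) hk) hi
  have tZ : t ∈ 𝐂[Z] := ii ▸ mul_mem iZ iZ
  have faith : ∀ g : centralizer ({s} : Set G), (g : G) ^ p = 1 → Sec.rep h g = 1 → g = 1 := by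
    intro g hg e
    refine Subtype.ext (ms.cr.faith g g.2 (odd hg) ?_)
    exact CP.mem_centralizer_of_commutator_mem ms.pZ (odd hg) (ms.odd_cent g.2 (odd hg))
      ((Sec.rep_eq_one_iff h g).1 e)
  have tD : t ∉ D := by
    intro tD
    have e1 : Sec.rep h ⟨t, ts⟩ = 1 :=
      (Sec.rep_eq_one_iff h _).2 fun x hx => ms.cr.cm t tD x (ms.cr.le hx)
    have e2 : (⟨t, ts⟩ * ⟨y, ys⟩ * ⟨t, ts⟩⁻¹ * ⟨y, ys⟩ : centralizer ({s} : Set G)) = 1 :=
      Subtype.ext (by simp [ty])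
    have e3 : Sec.rep h (⟨y, ys⟩ * ⟨y, ys⟩) = 1 := by
      have e4 : Sec.rep h ⟨t, ts⟩⁻¹ = 1 := by
        have := map_mul (Sec.rep h) ⟨t, ts⟩ ⟨t, ts⟩⁻¹
        rwa [mul_inv_cancel, map_one, e1, one_mul, eq_comm] at this
      have := congrArg (Sec.rep h) e2
      rwa [map_mul, map_mul, map_mul, e1, e4, one_mul, mul_one, map_one, ← map_mul] at this
    have e5 := congrArg Subtype.val (faith _ (hΩ _ (mul_mem hy hy)) e3)
    exact y1 (eq_one_of_inv m.ctx.ne (k := 1) (by rw [pow_one, hΩ y hy])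
      (eq_inv_of_mul_eq_one_left e5))
  have h2 : ∀ v : Sec h, v + v = 0 := by
    intro v
    obtain ⟨x, hx, rfl⟩ := Sec.exists_pr_eq h v
    rw [← Sec.pr_mul h hx hx, Sec.pr_eq_zero h (mul_mem hx hx)]
    exact ⟨mul_mem hx hx, ms.cr.sq x hx⟩
  obtain ⟨l, hl, hl'⟩ := transvection (Sec.rep h) h2 (hp.out.odd_of_ne_two m.ctx.ne)
    (i := ⟨i, is⟩) (t := ⟨t, ts⟩) (b := ⟨b, bs⟩) (Subtype.ext ii) (Subtype.ext m.tt)
    (Subtype.ext (m.ea.2 b hb)) (Subtype.ext (m.ct b hb))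
    (fun v => ∃ x ∈ D, t * x = x * t ∧ Sec.pr h x = v) (by
      intro v v' e e'
      obtain ⟨x, hx, rfl⟩ := Sec.exists_pr_eq h v
      obtain ⟨x', hx', rfl⟩ := Sec.exists_pr_eq h v'
      have k : ∀ x ∈ D, Sec.rep h ⟨t, ts⟩ (Sec.pr h x) = Sec.pr h x → t * x = x * t ∨ ⁅t, x⁆ = s := by
        intro x hx e
        have z := (Sec.rep_pr_eq_iff h ⟨t, ts⟩ hx).1 e
        rw [← commutatorElement_eq_one_iff_mul_comm, ← mem_zpowers_inv ms.tt]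
        refine ms.Z_inv z ?_
        rw [← pow_two, ← Grp.CommPow.commutator_pow_left (tZ _ z), pow_two, m.tt,
          commutatorElement_one_left]
      rcases k x hx e with a | a
      · exact Or.inl ⟨x, hx, a, rfl⟩
      rcases k x' hx' e' with a' | a'
      · exact Or.inr (Or.inl ⟨x', hx', a', rfl⟩)
      refine Or.inr (Or.inr ⟨x * x', mul_mem hx hx', ?_, Sec.pr_mul h hx hx'⟩)
      rw [← commutatorElement_eq_one_iff_mul_comm, Grp.CommPow.commutator_mul_right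
        (by rw [a']; exact (ms.comm_t (ms.cr.le hx)).symm), a, a', ms.tt]) (by
      rintro _ ⟨x, hx, e, rfl⟩
      rw [Sec.rep_pr_eq_iff h _ hx]
      have g1 : ⁅i, x⁆ ∈ T := by
        rw [commutatorElement_def, mul_assoc, mul_assoc, ← mul_assoc x]
        exact mul_mem iT (conj_mem_of_mem_normalizer
          (m.cr.nT (mem_centralizer_singleton_iff.2 e.symm)) (inv_mem iT))
      rcases m.inf_le hs hu us ms.cr.nC ms.t_mem.1 tD g1 (Sec.comm_mem h is hx) with a | a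
      · show ⁅i, x⁆ ∈ Z
        rw [a]; exact one_mem _
      · show ⁅i, x⁆ ∈ Z
        rw [eq_inv_of_mul_eq_one_left a]; exact inv_mem ms.t_mem) (by
      rintro _ ⟨x, hx, e, rfl⟩
      refine ⟨b * x * b⁻¹, conj_mem_of_mem_normalizer (ms.cr.nC bs) hx, ?_,
        (Sec.rep_pr' h bs hx).symm⟩
      have bt : Commute t b := (m.ct b hb).symm
      exact (bt.mul_right e).mul_right bt.inv_right) (by
      intro K hK hbK
      have : i ∈ K.map (centralizer ({s} : Set G)).subtype := by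
        refine comm_zpowers_le (mem_map.2 ⟨_, hbK, rfl⟩) ?_ hi
        rintro v hv _ ⟨k, hk, rfl⟩
        exact ⟨_, hK ⟨v, Xs hv⟩ (Subtype.ext (m.comm_t (m.cr.le (XC hv)))) k hk, rfl⟩
      obtain ⟨k, hk, e⟩ := this
      rwa [show k = ⟨i, is⟩ from Subtype.ext e] at hk)
  have YΩ : closure {(⟨y, ys⟩ : centralizer ({s} : Set G)), ⟨y', ys'⟩} ≤ Ω.subgroupOf _ := by
    rw [closure_le]
    rintro _ (rfl | rfl)
    exacts [hy, hy']
  have pY : IsPGroup p (closure {(⟨y, ys⟩ : centralizer ({s} : Set G)), ⟨y', ys'⟩} : Subgroup _) :=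
    Amb.isPGroup_iff.2 fun x hx => ⟨1, Subtype.ext (by rw [pow_one]; exact hΩ _ (YΩ hx))⟩
  refine transvection_false (Sec.rep h) h2 m.ctx.ne hl hl' (y := ⟨y, ys⟩) (y' := ⟨y', ys'⟩)
    (Subtype.ext ty) (Subtype.ext ty') (Subtype.ext m.tt) (Subtype.ext (hΩ y hy))
    (Subtype.ext (hΩ y' hy')) pY ?_ fun g hg e => faith g (hΩ _ (YΩ hg)) e
  have lt : zpowers (⟨y, ys⟩ : centralizer ({s} : Set G)) <
      closure {(⟨y, ys⟩ : centralizer ({s} : Set G)), ⟨y', ys'⟩} := by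
    refine lt_of_le_of_ne (zpowers_le.2 (subset_closure (by simp))) fun e => yy ?_
    have : (⟨y', ys'⟩ : centralizer ({s} : Set G)) ∈ zpowers ⟨y, ys⟩ := by
      rw [e]; exact subset_closure (by simp)
    obtain ⟨k, hk⟩ := this
    exact ⟨k, congrArg Subtype.val hk⟩
  have := card_mul_le_of_lt pY lt
  rwa [Nat.card_zpowers, orderOf_eq_prime (Subtype.ext (hΩ y hy))
    (fun e => y1 (congrArg Subtype.val e)), ← pow_two] at this

theorem false_of_three (h3 : p ^ 3 ≤ Nat.card A) : False := by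
  have A1 : A ≠ ⊥ := Sig.ne_bot_of_pow_le (k := 1) m.two
  obtain ⟨⟨a1, ha1⟩, a11⟩ := Subgroup.ne_bot_iff_exists_ne_one.1 A1
  obtain ⟨B1, hB1, -, n1⟩ := m.exists_hyp ha1 fun e => a11 (Subtype.ext e)
  obtain ⟨⟨a2, ha2⟩, a21⟩ := Subgroup.ne_bot_iff_exists_ne_one.1
    (Sig.ne_bot_of_pow_le (k := 0) (hB1.pow_le m.two))
  obtain ⟨B2, hB2, aB2, n2⟩ := m.exists_hyp (hB1.1 ha2) fun e => a21 (Subtype.ext e)
  obtain ⟨b, b1, b2, bne⟩ := hB1.exists_mem_inf hB2 h3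
  obtain ⟨B3, hB3, bB3, n3⟩ := m.exists_hyp (hB1.1 b1) bne
  obtain ⟨i1, hi1, j1, hj1, ii1, jj1, ij1⟩ := m.quat hB1.1 n1
  obtain ⟨i2, hi2, j2, hj2, ii2, jj2, ij2⟩ := m.quat hB2.1 n2
  obtain ⟨i, hi, -, -, ii, -, -⟩ := m.quat hB3.1 n3
  obtain ⟨c1, c13, c11⟩ := hyp_symm hB1 hB3 b1 bB3
  obtain ⟨c2, c23, c22⟩ := hyp_symm hB2 hB3 b2 bB3
  set B0 := B1 ⊓ B2 with hB0
  set X := C ⊓ 𝐂[B3] with hX
  set E := m.C2 ⊓ (𝐂[B0] ⊓ 𝐂[X]) with hE
  have U1 : ⁅C ⊓ 𝐂[B1], A⁆ ≤ E := fun x hx => ⟨(m.U_le hB1.1 hx).1,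
    centralizer_anti inf_le_left (m.U_le hB1.1 hx).2, m.U_comm hB1 hB3.1 c13 c11 hx⟩
  have U2 : ⁅C ⊓ 𝐂[B2], A⁆ ≤ E := fun x hx => ⟨(m.U_le hB2.1 hx).1,
    centralizer_anti inf_le_right (m.U_le hB2.1 hx).2, m.U_comm hB2 hB3.1 c23 c22 hx⟩
  have cm : ∀ x ∈ ⁅C ⊓ 𝐂[B1], A⁆, ∀ z ∈ ⁅C ⊓ 𝐂[B2], A⁆, Commute x z := fun x hx z hz =>
    m.U_comm hB2 hB1.1 ha2 aB2 hz x ⟨(m.U_le hB1.1 hx).1.1, (m.U_le hB1.1 hx).2⟩
  have tE : t ∈ E := ii1 ▸ mul_mem (U1 hi1) (U1 hi1)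
  have ct : ∀ x ∈ E, Commute x t := fun x hx => m.comm_t (m.cr.le hx.1.1)
  have sq : ∀ x ∈ ⁅C ⊓ 𝐂[B1], A⁆, ∀ z ∈ ⁅C ⊓ 𝐂[B2], A⁆, x * x = t → z * z = t →
      x * z * (x * z) = 1 := fun x hx z hz e1 e2 => by
    rw [(cm x hx z hz).symm.mul_mul_mul_comm, e1, e2, m.tt]
  set e1 := i1 * i2 with he1
  set e2 := j1 * j2 with he2
  have E1 : e1 ∈ E := mul_mem (U1 hi1) (U2 hi2)
  have E2 : e2 ∈ E := mul_mem (U1 hj1) (U2 hj2)
  have s1 : e1 * e1 = 1 := sq _ hi1 _ hi2 ii1 ii2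
  have s2 : e2 * e2 = 1 := sq _ hj1 _ hj2 jj1 jj2
  have ji1 : j1 * i1 = t * (i1 * j1) := by rw [ij1, ← mul_assoc, m.tt, one_mul]
  have e12 : e1 * e2 = e2 * e1 := by
    rw [he1, he2, (cm _ hj1 _ hi2).symm.mul_mul_mul_comm, (cm _ hi1 _ hj2).symm.mul_mul_mul_comm,
      ij1, ij2, (ct _ (mul_mem (U1 hj1) (U1 hi1))).mul_mul_mul_comm, m.tt, one_mul]
  have u1e1 : j1 * e1 * j1⁻¹ = t * e1 := by
    rw [he1, ← mul_assoc, ji1, mul_assoc, mul_assoc, mul_assoc, ← mul_assoc j1,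
      (cm _ hj1 _ hi2).eq, mul_inv_cancel_right]
  have u1e2 : j1 * e2 * j1⁻¹ = e2 := by
    rw [he2, mul_assoc, mul_assoc, ← mul_assoc j1 j2, (cm _ hj1 _ hj2).eq, mul_inv_cancel_right,
      (cm _ hj1 _ hj2).eq]
  have u2e2 : i1 * e2 * i1⁻¹ = t * e2 := by
    rw [he2, ← mul_assoc, ij1, mul_assoc, mul_assoc, mul_assoc, ← mul_assoc i1,
      (cm _ hi1 _ hj2).eq, mul_inv_cancel_right]
  have ne : ∀ u ∈ E, ∀ e, u * e * u⁻¹ = t * e → e ≠ 1 ∧ t ≠ e := fun u hu e h =>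
    ⟨fun a => m.ne (by simpa [a] using h.symm), fun a => m.ne (by
      rw [← a, (ct u hu).eq, mul_inv_cancel_right] at h; simpa using h)⟩
  have alt : ∀ u ∈ E, ∀ e ∈ E, e * e = 1 → ∀ s, s = e ∨ s = t * e → s ∈ E ∧ s * s = 1 ∧
      (u * e * u⁻¹ = e → u * s * u⁻¹ = s) ∧ (u * e * u⁻¹ = t * e → u * s * u⁻¹ = t * s) := by
    rintro u hu e he h s (rfl | rfl)
    · exact ⟨he, h, id, id⟩
    · have ut : u * t * u⁻¹ = t := by rw [(ct u hu).eq, mul_inv_cancel_right]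
      exact ⟨mul_mem tE he, by rw [(ct e he).mul_mul_mul_comm, h, m.tt, one_mul],
        fun a => by rw [← conj_mul, ut, a], fun a => by rw [← conj_mul, ut, a]⟩
  have eB0 : IsElementaryAbelian p B0 := elemAb_mono m.ea (inf_le_left.trans hB1.1)
  have B01 : B0 ≠ ⊥ := fun e => bne (by rw [← mem_bot, ← e]; exact ⟨b1, b2⟩)
  obtain ⟨Ω, o⟩ := m.ctx.om' (K := E) eB0 B01 (m.ctx.mono m.gd (inf_le_left.trans hB1.1))
    (m.cr.pT.to_le fun x hx => m.cr.le hx.1.1) fun x hx => hx.2.1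
  have nΩ : ∀ x ∈ E, x ∈ 𝐍[Ω] := fun x hx => o.nrm hx
  obtain ⟨s, hs, ts⟩ := four_act (o.not_two_dvd m.ctx.ne le_rfl) m.tt s2 (ct _ E2).symm m.ne
    (ne _ (U1 hi1) _ u2e2).1 (ne _ (U1 hi1) _ u2e2).2 (nΩ _ tE) (nΩ _ E2)
    fun e => m.ne (o.faith t tE m.tt e)
  obtain ⟨sE, ss, -, us⟩ := alt _ (U1 hi1) _ E2 s2 s hs
  obtain ⟨-, -, us', -⟩ := alt _ (U1 hj1) _ E2 s2 s hs
  replace us := us u2e2
  replace us' := us' u1e2
  have nc : ∀ {x z : G}, Commute x z → x ∈ 𝐍[centralizer {z}] := fun {x z} h =>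
    le_normalizer (mem_centralizer_singleton_iff.2 h.eq)
  have e1s : Commute e1 s := by
    rcases hs with rfl | rfl
    · exact e12
    · exact (ct _ E1).mul_right e12
  have n1 : ∀ x ∈ E, Commute x s → x ∈ 𝐍[Ω ⊓ centralizer {s}] := fun x hx h =>
    Amb.le_normalizer_inf (zpowers_le.2 (nΩ x hx)) (zpowers_le.2 (nc h)) (mem_zpowers x)
  obtain ⟨s', hs', ts'⟩ := four_act (o.not_two_dvd m.ctx.ne inf_le_left) m.tt s1 (ct _ E1).symm m.ne
    (ne _ (U1 hj1) _ u1e1).1 (ne _ (U1 hj1) _ u1e1).2 (n1 _ tE (ct _ sE).symm) (n1 _ E1 e1s) ts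
  obtain ⟨s'E, -, -, vs⟩ := alt _ (U1 hj1) _ E1 s1 s' hs'
  replace vs := vs u1e1
  obtain ⟨y, ⟨⟨hy, ys⟩, ys'⟩, y1, ty⟩ := exists_inverted m.tt
    (Amb.le_normalizer_inf (zpowers_le.2 (n1 _ tE (ct _ sE).symm))
      (zpowers_le.2 (nc (ct _ s'E).symm)) (mem_zpowers t)) ts'
  have ys1 : y * s = s * y := mem_centralizer_singleton_iff.1 ys
  have ys2 : y * s' = s' * y := mem_centralizer_singleton_iff.1 ys'
  set z := j1 * y * j1⁻¹ with hz
  have zΩ : z ∈ Ω := conj_mem_of_mem_normalizer (nΩ _ (U1 hj1)) hy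
  have z1 : z ≠ 1 := by simpa [hz] using y1
  have jt : j1 * t * j1⁻¹ = t := by rw [(ct _ (U1 hj1)).eq, mul_inv_cancel_right]
  have tz : t * z * t⁻¹ = z⁻¹ := by
    rw [hz, conj_inv, ← ty]
    conv_lhs => rw [← jt]
    group
  have zs : z * s = s * z := by rw [← us', hz, conj_mul, conj_mul, ys1]
  have zs' : s' * z * s'⁻¹ = z⁻¹ := by
    have a : z * (t * s') = t * s' * z := by rw [← vs, hz, conj_mul, conj_mul, ys2]
    have a2 : t⁻¹ * z * t = z⁻¹ := by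
      rw [← tz, inv_eq_of_mul_eq_one_right m.tt]
    calc s' * z * s'⁻¹ = t⁻¹ * (t * s' * z) * s'⁻¹ := by group
      _ = _ := by rw [← a, ← a2]; group
  obtain ⟨As, eAs, cAs, sAs⟩ := o.two m.ctx.ne eB0 hy zΩ y1 z1 tE.2.1 s'E.2.1 sE.2.1 ty ys2 zs'
    ys1 zs
  have hc := hB1.card_le_inf hB2
  have sne := (ne _ (U1 hi1) _ us).1
  obtain ⟨Ts, D, cr⟩ := exists_cr ss (m.ctx.ch2 s sne ss)
  have ms : MP Γ p n As s Ts D :=
    ⟨m.ctx, eAs, m.ctx.g3 eAs (h3.trans (hc.trans cAs)), m.two.trans (hc.trans cAs), m.mx.trans (hc.trans cAs), sne, ss, sAs, cr⟩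
  refine m.final ms sE.1 (U1 hi1).1 us (X := X) inf_le_left
    (fun x hx => mem_centralizer_singleton_iff.2 (sE.2.2 x hx)) (m.U_le_comm hB3 (hB1.1 b1) bB3 hi)
    (m.cr.le (m.U_le hB3.1 hi).1.1) ii (hB1.1 b1)
    (mem_centralizer_singleton_iff.2 (sE.2.1 b ⟨b1, b2⟩)) o.pow hy zΩ ys
    (mem_centralizer_singleton_iff.2 zs) y1 ?_ ty tz
  refine not_mem_of_inv m.ctx.ne ?_ (o.pow z zΩ) z1 zs'
  rw [Amb.centralizer_zpowers]
  exact mem_centralizer_singleton_iff.2 ys2.symm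

end MP

theorem Ctx0.rank_le_two (c0 : Ctx0 Γ p) {Q E : Subgroup G}
    (hQ : IsPGroup 2 Q) (Q1 : Q ≠ ⊥) (hE : IsElementaryAbelian p E) (hn : E ≤ 𝐍[Q]) :
    Nat.card E ≤ p ^ 2 := by
  haveI : Fact (Nat.Prime 2) := ⟨Nat.prime_two⟩
  have hp2 := c0.ne
  by_contra hlt
  have h3 : p ^ 3 ≤ Nat.card E := by
    obtain ⟨k, hk⟩ := IsPGroup.iff_card.1 (elemAb_isPGroup hE)
    rw [hk] at hlt ⊢
    exact Nat.pow_le_pow_right hp.out.pos
      ((Nat.pow_lt_pow_iff_right hp.out.one_lt).1 (not_le.1 hlt))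
  obtain ⟨B, hB, hB'⟩ := Sig.exists_hyp_not_le (L := ⊥) hE (Sig.ne_bot_of_pow_le (k := 2) h3) hn
    (Sig.not_dvd_of_isPGroup hp2.symm hQ) fun e => Q1 (le_bot_iff.1 e)
  have eB := elemAb_mono hE hB.1
  set Q0 := Q ⊓ 𝐂[B] with hQ0
  have pQ0 : IsPGroup 2 Q0 := hQ.to_le inf_le_left
  have nQ0 : E ≤ 𝐍[Q0] := Amb.le_normalizer_inf hn (Sig.ea_norm_cent hE hB.1)
  obtain ⟨⟨w, hw⟩, w1⟩ := Subgroup.ne_bot_iff_exists_ne_one.1
    (Amb.inf_centralizer_ne_bot pQ0 pQ0 le_normalizer fun e => hB' e.le)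
  obtain ⟨k, hk⟩ := Amb.isPGroup_iff.1 pQ0 w hw.1
  obtain ⟨j, z1, zz⟩ := exists_inv_pow (fun e => w1 (Subtype.ext e)) hk
  have hz := pow_mem hw j
  set z := w ^ j with hzdef
  have gE := c0.g3 hE h3
  have gB := c0.mono gE hB.1
  obtain ⟨A, ⟨eA, gA, t, t1, tt, ct⟩, hmax⟩ := Set.exists_max_image
    {A : Subgroup G | IsElementaryAbelian p A ∧ Γ A ∧ ∃ s : G, s ≠ 1 ∧ s * s = 1 ∧ s ∈ 𝐂[A]}
    (fun A => Nat.card A) (Set.toFinite _) ⟨B, eB, gB, z, z1, zz, hz.1.2⟩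
  have c : Ctx Γ p (Nat.card A) :=
    ⟨c0, fun A' s h1 h0 h2 h3 h4 => hmax A' ⟨h1, h0, s, h2, h3, h4⟩⟩
  have B2 : p ^ 2 ≤ Nat.card B := hB.pow_le h3
  have lt : Nat.card B < Nat.card A := by
    by_contra hle
    have zE : z ∈ 𝐂[E] := fun e he => by
      have h1 := conj_mem_of_mem_normalizer (nQ0 he) hz.1
      have := c.eq_inv eB gB B2 (not_lt.1 hle) (v := e * z * e⁻¹)
        (by rw [conj_mul, zz, mul_one, mul_inv_cancel]) zz (by simpa using z1) z1 (hz.2 _ h1) h1.2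
        hz.1.2
      exact mul_inv_eq_iff_eq_mul.1 this
    have h1 := c.mx E z hE gE z1 zz zE
    have h2 := hB.card_mul
    have := hp.out.two_le
    have := Nat.card_pos (α := B)
    nlinarith
  have A3 : p ^ 3 ≤ Nat.card A := by
    obtain ⟨a, ha⟩ := IsPGroup.iff_card.1 (elemAb_isPGroup eA)
    rw [ha] at lt ⊢
    exact Nat.pow_le_pow_right hp.out.pos
      ((Nat.pow_lt_pow_iff_right hp.out.one_lt).1 (B2.trans_lt lt))
  obtain ⟨T, C, cr⟩ := exists_cr tt (c0.ch2 t t1 tt)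
  exact MP.false_of_three ⟨c, eA, gA, (Nat.pow_le_pow_right hp.out.pos (by norm_num)).trans A3, le_rfl,
    t1, tt, ct, cr⟩ A3

end Cfsg.Agent.Msn
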