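import Cfsg.Agent.Msn.Defs
import Cfsg.Agent.S3109
import Cfsg.Agent.S1480
import Cfsg.Agent.Grp.PChain

/-! Mason's theorem: the standing hypotheses. -/

set_option autoImplicit false
set_option linter.unusedSectionVars false

namespace Cfsg.Agent.Msn

open Subgroup Cfsg Cfsg.Agent.PLocal Cfsg.Agent.PLocal.Amb
open Cfsg.Agent.PLocal.CP (IsCharP)
open scoped commutatorElement

variable {G : Type*} [Group G] [Finite G]

/-- `S3109` (with `A.subgroupOf S`) gives `O(C(t)) = 1` for every involution `t`; `C(t) = N(⟨t⟩)` is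
2-constrained, so has characteristic 2 (`PCA.charP_of_isPConstrained`, `CP.isCharP_iff`). For a 2-group
`T ≠ 1` take an involution `t ∈ Z(T)`; `C(T) = C(t) ⊓ C(T)` has characteristic 2 (`IsCharP.inf_centralizer`),
so `N(T)` too (`isCharP_normalizer_iff`). -/
theorem ch2_of [IsSimpleGroup G] (hG : ¬ IsMulCommutative G) (S : Sylow 2 G) (A : Subgroup G)
    (hA : IsSCN (S : Subgroup G) A) (hA3 : ¬ PRankLE 2 2 A)
    (hcon : ∀ T : Subgroup G, IsPGroup 2 T → T ≠ ⊥ → IsPConstrained 2 𝐍[T]) (T : Subgroup G)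
    (hT : IsPGroup 2 T) (h1 : T ≠ ⊥) : IsCharP 2 𝐍[T] := by
  have hc : A ≤ 𝐂[A] := hA.2.2.ge.trans inf_le_right
  have hE : ¬ PRankLE 2 2 (A.subgroupOf S) := fun h => hA3 (by
    rw [FT.R2.pRankLE_iff] at h ⊢
    intro E hE h2
    have := h2.1
    have h3 := h (E.subgroupOf S) (subgroupOf_mono _ hE) ⟨inferInstance, fun a ha =>
      Subtype.ext (h2.2 a ha)⟩
    rwa [Grp.card_subgroupOf_of_le (hE.trans hA.1)] at h3)
  have hab : IsMulCommutative A := le_centralizer_iff_isMulCommutative.1 hc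
  have h0 := S3109.result hG hcon S (A.subgroupOf S) (normal_subgroupOf' hA.2.1) inferInstance
    (by rw [centralizer_subgroupOf hA.1, ← inf_subgroupOf_left, hA.2.2]) hE
  obtain ⟨t, ht, h2, h3⟩ := Inv.exists_central_involution_of_isPGroup hT h1
  have h4 : IsCharP 2 (centralizer ({t} : Set G)) := CP.isCharP_iff.2
    (PCA.charP_of_isPConstrained (Inv.CoreSig.constrained_centralizer hcon h2)
      ((map_eq_bot_iff_of_injective _ (subtype_injective _)).1 (h0 t h2)))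
  have h5 := h4.inf_centralizer hT (le_trans (fun s hs => mem_centralizer_singleton_iff.2 (h3 s hs))
    le_normalizer)
  rw [inf_eq_right.2 (centralizer_le (Set.singleton_subset_iff.2 ht))] at h5
  exact (CP.isCharP_normalizer_iff hT).2 h5

/-- `B` normalizes no non-trivial 2-subgroup: `B` is abelian and contains every 3-element of `C(B)` (`B` is Sylow in
`C(B)`: `P ⊓ C(B) = B`, `C(B) ⊴ N(B) ≥ P`, `IsSyl.inf_of_le`; it is central in `C(B)`). By `S1480` `C(B)` is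
transitive on the maximal `B`-invariant 2-subgroups; `N(B)` permutes them, so for such an `R`,
`N(B) = C(B) (N(B) ⊓ N(R))`, and the index of `N(B) ⊓ N(R)` in `N(B)` equals that of `C(B) ⊓ N(R) ≥ B` in `C(B)`,
which is prime to 3. So a conjugate of `P` normalizes `R`, `P` normalizes a conjugate of `R`, `R = ⊥`. -/
theorem inv_eq_bot (con : ∀ R : Subgroup G, IsPGroup 3 R → R ≠ ⊥ → IsPConstrained 3 𝐍[R])
    (P : Sylow 3 G) (B : Subgroup G) (hB : IsSCN (P : Subgroup G) B) (hB3 : ¬ PRankLE 3 2 B)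
    (hP : ∀ X : Subgroup G, IsPGroup 2 X → (P : Subgroup G) ≤ 𝐍[X] → X = ⊥) (R : Subgroup G)
    (hR : IsPGroup 2 R) (hn : B ≤ 𝐍[R]) : R = ⊥ := by
  have hc : B ≤ 𝐂[B] := hB.2.2.ge.trans inf_le_right
  have hPs : IsSyl 3 (P : Subgroup G) 𝐍[B] := isSyl_of_le P hB.2.1
  have hs : IsSyl 3 B 𝐂[B] := by
    have := hPs.inf_of_le (centralizer_le_normalizer' B) (normalizer_le_normalizer_centralizer B)
    rwa [hB.2.2] at this
  have h1 := S1480.result 3 con (fun h => absurd h (by norm_num)) B hs.pgrp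
    (le_centralizer_iff_isMulCommutative.1 hc) hB3 (fun x hx h => hs.le_of_normalizes h
      (zpowers_le.2 hx) ((zpowers_le.2 hx).trans (centralizer_le_normalizer' B)) (mem_zpowers x))
    2 (by norm_num)
  have h2 : ∀ X : Subgroup G, (∀ p : ℕ, p.Prime → p ∣ Nat.card X → p ∈ ({2} : Set ℕ)) ↔
      IsPGroup 2 X := fun X => by
    constructor
    · intro h
      exact IsPGroup.iff_card.2 ⟨_, Nat.eq_prime_pow_of_unique_prime_dvd Nat.card_pos.ne'
        fun hp hd => h _ hp hd⟩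
    · intro h p hp hd
      obtain ⟨k, hk⟩ := IsPGroup.iff_card.1 h
      exact (Nat.prime_dvd_prime_iff_eq hp Nat.prime_two).1 (hp.dvd_of_dvd_pow (hk ▸ hd))
  obtain ⟨Q, hRQ, hQ⟩ := Finite.exists_le_maximal (p := fun Q => Q ∈ invSubgroups ⊤ B {2}) (a := R)
    ⟨le_top, (h2 R).2 hR, hn⟩
  have hQ2 := (h2 Q).1 hQ.1.2.1
  have hQm : ∀ g ∈ 𝐍[B], cj(g, Q) ∈ maxInvSubgroups ⊤ B {2} := fun g hg => by
    refine ⟨⟨le_top, (h2 _).2 (isPGroup_cj g hQ2), ?_⟩, fun X hX h => ?_⟩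
    · rw [normalizer_cj, ← cj_of_mem_normalizer hg]
      exact cj_mono g hQ.1.2.2
    · refine le_antisymm ?_ h
      rw [le_cj_iff]
      refine hQ.2 ⟨le_top, (h2 _).2 (isPGroup_cj _ ((h2 X).1 hX.2.1)), ?_⟩ (cj_le_iff.1 h)
      rw [normalizer_cj, ← cj_of_mem_normalizer (inv_mem hg)]
      exact cj_mono _ hX.2.2
  set K := piCoreOf (primesNotDvd 3) 𝐂[B]
  have hK : K ≤ 𝐍[B] := (FT.B7.piCoreOf_le _ _).trans (centralizer_le_normalizer' B)
  have hKn : 𝐍[B] ≤ 𝐍[K] := (normalizer_le_normalizer_centralizer B).trans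
    (FT.B7.normalizer_le_normalizer_piCoreOf _ _)
  have h3 : (𝐍[B] ⊓ 𝐍[Q]) ⊔ K = 𝐍[B] := by
    refine le_antisymm (sup_le inf_le_left hK) fun g hg => ?_
    obtain ⟨k, hk, e⟩ := h1 _ (hQm g hg) _ (hQm 1 (one_mem _))
    rw [cj_one, ← cj_mul, eq_comm, cj_eq_iff] at e
    have := mul_mem (inv_mem (mem_sup_right (S := 𝐍[B] ⊓ 𝐍[Q]) hk))
      (mem_sup_left (T := K) (⟨mul_mem (hK hk) hg, e⟩ : k * g ∈ 𝐍[B] ⊓ 𝐍[Q]))
    rwa [inv_mul_cancel_left] at this
  obtain ⟨T, hT⟩ := exists_isSyl 3 (𝐍[B] ⊓ 𝐍[Q])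
  have h4 : IsSyl 3 T 𝐍[B] := isSyl_of_not_dvd_relIndex hT.pgrp (hT.le.trans inf_le_left) (by
    rw [← relIndex_mul_relIndex _ _ _ hT.le inf_le_left, Nat.prime_three.dvd_mul]
    rintro (h | h)
    · exact hT.not_dvd_relIndex h
    have h5 := Grp.card_sup_dvd_of_le_normalizer (inf_le_left.trans hKn : 𝐍[B] ⊓ 𝐍[Q] ≤ 𝐍[K])
    rw [h3, ← Grp.card_mul_relIndex (inf_le_left : 𝐍[B] ⊓ 𝐍[Q] ≤ 𝐍[B])] at h5
    exact (FT.B7.piCoreOf_pi _ _ 3 Nat.prime_three
      (h.trans (Nat.dvd_of_mul_dvd_mul_left Nat.card_pos h5))).2 dvd_rfl)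
  obtain ⟨g, -, e⟩ := hPs.exists_cj_eq h4
  have h5 := hP cj(g, Q) (isPGroup_cj g hQ2) (by
    rw [normalizer_cj, ← e]
    exact cj_mono g (hT.le.trans inf_le_right))
  exact le_bot_iff.1 (hRQ.trans (cj_eq_bot.1 h5).le)

/-- `con`: `N(R) ≠ ⊤` as `G` is simple and not a 3-group (a simple 3-group is abelian). `perf`: a normal subgroup
of index 3 is `⊥`, so `G` is cyclic. `flag`: `Ω₁(B)` (the elements of `B` with `x ^ 3 = 1`) is elementary
abelian of order `≥ 27`, normal in `P`, so contains a subgroup `B₀` of order 27 normal in `P` (`Grp/PChain`). For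
`1 ≠ b ∈ B` a `B`-invariant Sylow 2-subgroup of `O_{3'}(C(b))` (`Sig.exists_invSyl`) is trivial by
`inv_eq_bot`, so `b` is good (`IsSyl.eq_bot_iff`). -/
theorem hy_of [IsSimpleGroup G] (hG : ¬ IsMulCommutative G) (S : Sylow 2 G) (A : Subgroup G)
    (hA : IsSCN (S : Subgroup G) A) (hA3 : ¬ PRankLE 2 2 A)
    (hcon : ∀ T : Subgroup G, IsPGroup 2 T → T ≠ ⊥ → IsPConstrained 2 𝐍[T])
    (P : Sylow 3 G) (B : Subgroup G) (hB : IsSCN (P : Subgroup G) B) (hB3 : ¬ PRankLE 3 2 B)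
    (hP : ∀ X : Subgroup G, IsPGroup 2 X → (P : Subgroup G) ≤ 𝐍[X] → X = ⊥)
    (h3 : ∀ R : Subgroup G, IsPGroup 3 R → R ≠ ⊥ → 𝐍[R] ≠ ⊤ → IsPConstrained 3 𝐍[R]) : Hy G := by
  have con : ∀ R : Subgroup G, IsPGroup 3 R → R ≠ ⊥ → IsPConstrained 3 𝐍[R] := by
    intro R hR h1
    refine h3 R hR h1 fun e => ?_
    rcases (normalizer_eq_top_iff.1 e).eq_bot_or_eq_top with h | h
    · exact h1 h
    subst h
    have := (hR.of_equiv topEquiv).isNilpotent
    exact hG ⟨⟨mul_comm⟩⟩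
  have hc : B ≤ 𝐂[B] := hB.2.2.ge.trans inf_le_right
  have hBp : IsPGroup 3 B := P.isPGroup'.to_le hB.1
  refine ⟨ch2_of hG S A hA hA3 hcon, con, ?_, fun N hN e => ?_⟩
  · let W : Subgroup G :=
      { carrier := {x | x ∈ B ∧ x ^ 3 = 1}
        one_mem' := ⟨one_mem _, one_pow 3⟩
        mul_mem' := fun {a b} ha hb => ⟨mul_mem ha.1 hb.1, by
          rw [Commute.mul_pow (hc hb.1 a ha.1), ha.2, hb.2, one_mul]⟩
        inv_mem' := fun {a} ha => ⟨inv_mem ha.1, by rw [inv_pow, ha.2, inv_one]⟩ }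
    have hWB : W ≤ B := fun x hx => hx.1
    have hWn : (P : Subgroup G) ≤ 𝐍[W] := le_normalizer_iff_cj.2 fun g hg =>
      cj_le_iff_forall.2 fun x hx => ⟨conj_mem_of_mem_normalizer (hB.2.1 hg) hx.1, by
        rw [conj_pow, hx.2, mul_one, mul_inv_cancel]⟩
    have hW : 3 ^ 3 ≤ Nat.card W := by
      rw [FT.R2.pRankLE_iff] at hB3
      push Not at hB3
      obtain ⟨E, h1, h2, h4⟩ := hB3
      exact (FT.R2.pow_succ_le_card (hBp.to_le h1) h4).trans
        (card_le_of_le fun x hx => ⟨h1 hx, h2.2 x hx⟩)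
    have := normal_subgroupOf' hWn
    obtain ⟨C, hC, h1, h2⟩ := Grp.PChain.exists_normal_le_card P.isPGroup' (W.subgroupOf P) 3 (by
      rwa [Grp.card_subgroupOf_of_le (hWB.trans hB.1)])
    have h4 : C.map (P : Subgroup G).subtype ≤ W := map_le_iff_le_comap.2 h1
    refine ⟨P, C.map (P : Subgroup G).subtype, isSyl_top P, map_subtype_le _,
      le_normalizer_map_subtype C, ⟨Grp.PChain.isMulCommutative_of_le
        (le_centralizer_iff_isMulCommutative.1 hc) (h4.trans hWB), fun a ha => (h4 ha).2⟩,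
      by rw [Subgroup.card_map_of_injective (subtype_injective _), h2]; rfl, fun b hb _ => ?_⟩
    have h5 : B ≤ 𝐍[centralizerPPrimeCore 3 b] := le_trans
      (fun x hx => mem_centralizer_singleton_iff.2 (hc (hWB (h4 hb)) x hx))
      (centralizer_le_normalizer_centralizerPPrimeCore b)
    obtain ⟨k, hk⟩ := hBp.exists_card_eq
    have := hBp.isNilpotent
    obtain ⟨R, hR, hn⟩ := Sig.exists_invSyl h5
      (hk ▸ (centralizerPPrimeCore_coprime b).symm.pow_left k) (Or.inl inferInstance) 2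
    exact hR.eq_bot_iff.1 (inv_eq_bot con P B hB hB3 hP R hR.pgrp hn)
  · rcases hN.eq_bot_or_eq_top with h | h
    · rw [h, index_bot] at e
      have := isCyclic_of_prime_card (p := 3) e
      exact hG inferInstance
    · rw [h, index_top] at e
      omega

end Cfsg.Agent.Msn
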