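import Cfsg.Agent.Msn.Defs
import Cfsg.Agent.U6R.Orth
import Cfsg.Agent.Class.Orth.TypeCount
import Cfsg.Agent.Class.Orth.Simple

/-! Mason's theorem: elements of order three of `C(z)` on the large extraspecial group `Q = O₂(C(z))`. -/

set_option autoImplicit false
set_option linter.unusedSectionVars false

namespace Cfsg.Agent.Msn

open Subgroup Cfsg Cfsg.Agent.PLocal.Amb Cfsg.Agent.TT Cfsg.Agent.U6R Cfsg.Agent.Class.Orth
  QuadraticMap

variable {G : Type*} [Group G] [Finite G] {z : G} {A : Subgroup G}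
  {V : Type} [AddCommGroup V] [Module (ZMod 2) V] {q : QuadraticForm (ZMod 2) V}
  {π : G → V} {r : centralizer ({z} : Set G) →* OG q}

/-- conjugation action on an invariant set -/
@[reducible] def xaAct (Y : Subgroup G) (S : Set G) (hn : ∀ y ∈ Y, ∀ s ∈ S, y * s * y⁻¹ ∈ S) :
    MulAction Y S where
  smul y s := ⟨y * s * (y : G)⁻¹, hn y y.2 s s.2⟩
  one_smul s := Subtype.ext (by change ((1 : Y) : G) * s * ((1 : Y) : G)⁻¹ = s; simp)
  mul_smul y w s := Subtype.ext (by
    change ((y * w : Y) : G) * s * ((y * w : Y) : G)⁻¹ = y * (w * s * (w : G)⁻¹) * (y : G)⁻¹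
    simp [mul_assoc])

theorem xa_fix {Y : Subgroup G} (hY : IsPGroup 3 Y) {S : Set G}
    (hn : ∀ y ∈ Y, ∀ s ∈ S, y * s * y⁻¹ ∈ S) :
    S.ncard ≡ {s | s ∈ S ∧ ∀ y ∈ Y, y * s = s * y}.ncard [MOD 3] := by
  let := xaAct Y S hn
  have : Fact (Nat.Prime 3) := ⟨Nat.prime_three⟩
  have h := hY.card_modEq_card_fixedPoints S
  rw [← Nat.card_coe_set_eq, ← Nat.card_coe_set_eq]
  convert h using 1
  refine (Nat.card_congr ⟨fun s => ⟨s.1.1, s.1.2, fun y hy => comm_of_conj_eq
    (congrArg Subtype.val (s.2 ⟨y, hy⟩))⟩, fun s => ⟨⟨s.1, s.2.1⟩, fun y =>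
      Subtype.ext (conj_eq_of_comm (s.2.2 y y.2))⟩, fun _ => rfl, fun _ => rfl⟩).symm

theorem xa_fix1 {a : G} (a3 : a ^ 3 = 1) {S : Set G} (hn : ∀ s ∈ S, a * s * a⁻¹ ∈ S) :
    S.ncard ≡ {s | s ∈ S ∧ a * s = s * a}.ncard [MOD 3] := by
  have h := xa_fix (Y := zpowers a) (isPGroup_zpowers ⟨1, by simpa using a3⟩) (S := S) (by
    intro y hy
    obtain ⟨n, rfl⟩ := (mem_powers_iff_mem_zpowers.2 hy)
    induction n with
    | zero => simp
    | succ n ih =>
      intro s hs
      have := hn _ (ih (pow_mem (mem_zpowers a) n) s hs)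
      simp only at this ⊢
      rwa [pow_succ', mul_inv_rev, ← mul_assoc, mul_assoc a, mul_assoc a])
  convert h using 3
  refine Set.ext fun s => and_congr_right fun _ => ⟨fun e y hy => ?_, fun e => e a (mem_zpowers a)⟩
  obtain ⟨n, rfl⟩ := hy
  exact (Commute.zpow_left e n).eq

theorem xa_comm {a y z : G} (a3 : a ^ 3 = 1) (az : a * z = z * a) (zz : z * z = 1)
    (h : Eqv z (a * y * a⁻¹) y) : a * y = y * a := by
  rcases h with h | h
  · exact comm_of_conj_eq h
  have h2 : a * a * y * (a * a)⁻¹ = y := by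
    calc a * a * y * (a * a)⁻¹ = a * (a * y * a⁻¹) * a⁻¹ := by group
      _ = a * (y * z) * a⁻¹ := by rw [h]
      _ = a * y * a⁻¹ * (a * z * a⁻¹) := by group
      _ = y := by rw [h, conj_eq_of_comm az, mul_assoc, zz, mul_one]
  have h3 : Commute (a * a) y := comm_of_conj_eq h2
  have h4 : a * a * (a * a) = a := by
    rw [show a * a * (a * a) = a ^ 3 * a by simp only [pow_succ, pow_zero, one_mul, mul_assoc], a3,
      one_mul]
  exact h4 ▸ (h3.mul_left h3).eq

theorem xa_four (x : XE z A) {a : G} (az : a * z = z * a) (a3 : a ^ 3 = 1) (a1 : a ≠ 1) {y w : G}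
    (hy : y ∈ O2C z) (yy : y * y = 1) (ay : a * y = y * a) (y1 : y ≠ 1) (yz : y ≠ z)
    (hw : w ∈ O2C z) (ww : w * w = 1) (aw : a * w = w * a) (yw : y * w = w * y) :
    w = 1 ∨ w = z ∨ w = y ∨ w = y * z := by
  by_contra hc
  push Not at hc
  obtain ⟨w1, wz, wy, wyz⟩ := hc
  have xs := x.lx.toXS
  have zy := xs.z_comm y hy
  have zw := xs.z_comm w hw
  have hm : IsMulCommutative (closure ({z, y, w} : Set G)) := isMulCommutative_closure (by
    simp only [Set.mem_insert_iff, Set.mem_singleton_iff]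
    rintro _ (rfl | rfl | rfl) _ (rfl | rfl | rfl) <;> first | rfl | assumption | (symm; assumption))
  have h4 := x.four a az a3 a1 (closure {z, y, w}) ⟨hm, fun k hk => ?_⟩ ((closure_le _).2 (by
    rintro _ (rfl | rfl | rfl) <;> exact mem_centralizer_singleton_iff.2 (by symm; assumption)))
  · have mz : z ∈ closure ({z, y, w} : Set G) := subset_closure (by simp)
    have my : y ∈ closure ({z, y, w} : Set G) := subset_closure (by simp)
    have mw : w ∈ closure ({z, y, w} : Set G) := subset_closure (by simp)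
    have h5 : ({w, 1, z, y, y * z} : Set G).ncard ≤ Nat.card (closure ({z, y, w} : Set G)) := by
      rw [← SetLike.coe_sort_coe, Nat.card_coe_set_eq]
      refine Set.ncard_le_ncard ?_ (Set.toFinite _)
      rintro _ (rfl | rfl | rfl | rfl | rfl)
      exacts [mw, one_mem _, mz, my, mul_mem my mz]
    have n1 : (1 : G) ≠ y * z := fun e => yz (by rw [← mul_one y, ← xs.z_sq, ← mul_assoc, ← e, one_mul])
    have n2 : z ≠ y * z := fun e => y1 (by simpa using e.symm)
    have n3 : y ≠ y * z := fun e => xs.z_ne (by simpa using e.symm)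
    rw [Set.ncard_insert_of_notMem (by simp [w1, wz, wy, wyz]),
      Set.ncard_insert_of_notMem (by simp [xs.z_ne.symm, y1.symm, n1]),
      Set.ncard_insert_of_notMem (by simp [yz.symm, y1]), Set.ncard_pair n3] at h5
    omega
  · induction hk using closure_induction with
    | mem k hk => rcases hk with rfl | rfl | rfl <;> rw [pow_two] <;> first | assumption | exact xs.z_sq
    | one => simp
    | mul k l hk hl h1 h2 =>
      rw [(show Commute k l from setLike_mul_comm hk hl).mul_pow, h1, h2, one_mul]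
    | inv k _ h => rw [inv_pow, h, inv_one]

theorem xa_bij {S T : Set G} (f : G) (h1 : ∀ s ∈ S, s * f ∈ T) (h2 : ∀ t ∈ T, t * f⁻¹ ∈ S) :
    S.ncard = T.ncard :=
  Set.ncard_congr (fun s _ => s * f) h1 (fun _ _ _ _ e => mul_right_cancel e)
    fun t ht => ⟨t * f⁻¹, h2 t ht, by simp⟩

namespace XE

/-- `XS.isExtraspecial` and the order of an extraspecial group (library) -/
theorem exists_n (x : XE z A) : ∃ n, Nat.card (O2C z) = 2 ^ (2 * n + 1) := by
  obtain ⟨w, hw, -⟩ := Grp.ES.isES_of_isExtraspecial x.lx.toXS.isExtraspecial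
  obtain ⟨n, _, _, B⟩ := hw.exists_sympBasis
  exact ⟨n, B.card⟩

/-- an element of odd order fixing `π y` centralizes `y`: `a y a⁻¹ ∈ {y, y z}` (`OS.eqv_of_fix`); in the second case
`a ^ 3 y a ^ (-3) = y z` -/
theorem comm_of_fix (o : OS z (O2C z) q π r) (a : centralizer ({z} : Set G)) (a3 : (a : G) ^ 3 = 1)
    {y : G} (hy : y ∈ O2C z) (e : (r a).1 (π y) = π y) : a * y = y * a :=
  xa_comm a3 (mem_centralizer_singleton_iff.1 a.2) o.zz (o.eqv_of_fix a hy e)

/-- Work in `V` (`exists_n`, `exists_OS`), `S` the set of non-zero singular vectors. The 3-group `A` acts on `S` without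
fixed points (`comm_of_fix`, `fix`), so `3 ∣ |S|` (`IsPGroup.card_modEq_card_fixedPoints`); so the number of `a`-fixed
elements of `S` is divisible by 3. Suppose `u = π y ∈ S` (`y ≠ 1, z`); `F` = the fixed space of `a`. No `v ∈ S ∩ F`, `v ≠ u`, is
orthogonal to `u`: else its lift `y'` commutes with `a` (`comm_of_fix`) and `⟨z, y, y'⟩` is elementary of order 8, against
`four`. There is `f ∈ F` with `polar u f = 1` (`f = w + a w + a² w` with `polar u w = 1`), so half of `F` is not orthogonal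
to `u`, and `v ↦ v + u` changes `q` there: `|S ∩ F| = 1 + |F| / 4`. `|F| ≡ |V| = 4 ^ n ≡ 1` mod 3, so `|S ∩ F| ≡ 2` mod 3. -/
theorem star (x : XE z A) {a : G} (az : a * z = z * a) (a3 : a ^ 3 = 1) (a1 : a ≠ 1) {y : G}
    (hy : y ∈ O2C z) (yy : y * y = 1) (ay : a * y = y * a) : y = 1 ∨ y = z := by
  by_contra hc
  push Not at hc
  obtain ⟨y1, yz⟩ := hc
  obtain ⟨n, hn⟩ := x.exists_n
  obtain ⟨V, _, _, q, π, r, o⟩ := exists_OS x.lx hn
  have xs := x.lx.toXS
  -- an element of `C_Q(a)` not commuting with `y`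
  obtain ⟨f, hf, af, fy⟩ : ∃ f ∈ O2C z, a * f = f * a ∧ f * y ≠ y * f := by
    let a' : centralizer ({z} : Set G) := ⟨a, mem_centralizer_singleton_iff.2 az⟩
    have e3 : r a' * r a' * r a' = 1 := by
      rw [← map_mul, ← map_mul, ← map_one r]
      exact congrArg r (Subtype.ext (by simpa [pow_succ] using a3))
    have hu : (r a').1 (π y) = π y := o.fix_of_commute a' hy ay
    obtain ⟨w, hw⟩ := o.nd.exists_polar_eq (x := π y)
      (fun e => ((o.ker y hy).1 e).elim y1 yz) 1
    obtain ⟨f, hf, e⟩ := o.surj (w + (r a').1 w + (r a').1 ((r a').1 w))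
    refine ⟨f, hf, comm_of_fix o a' a3 hf ?_, fun c => ?_⟩
    · have : (r a').1 ((r a').1 ((r a').1 w)) = w := congrArg (fun g : OG q => g.1 w) e3
      rw [e, map_add, map_add, this]; abel
    · have h1 := (o.comm y hy f hf).1 c.symm
      have h2 : ∀ v, polar q (π y) ((r a').1 v) = polar q (π y) v := fun v => by
        conv_lhs => rw [← hu]
        exact OG.map_polar _ _ _
      rw [e, polar_add_right, polar_add_right, h2, h2, h2, hw] at h1
      revert h1; decide
  set D : Set G := {d | d ∈ O2C z ∧ a * d = d * a} with hD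
  set I : Set G := {d | d ∈ O2C z ∧ d * d = 1 ∧ d ≠ 1 ∧ d ≠ z} with hI
  have hIn : ∀ c, c * z = z * c → ∀ s ∈ I, c * s * c⁻¹ ∈ I := fun c hc s hs =>
    ⟨x.lx.norm c hc s hs.1, by rw [conj_mul, hs.2.1, mul_one, mul_inv_cancel],
      fun e => hs.2.2.1 (by simpa using e),
      fun e => hs.2.2.2 (by simpa using e.trans (conj_eq_of_comm hc).symm)⟩
  have h1 := xa_fix1 a3 (S := (O2C z : Set G)) fun s hs => x.lx.norm a az s hs
  have h2 := xa_fix1 a3 (hIn a az)
  have h3 := xa_fix (Y := A) (isPGroup_iff.2 fun c hc => ⟨1, by simpa using x.ea.2 c hc⟩)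
    (S := I) fun c hc => hIn c (mem_centralizer_iff.1 x.ct c hc)
  have h4 : {s | s ∈ I ∧ ∀ y ∈ A, y * s = s * y} = ∅ := Set.eq_empty_of_forall_notMem fun s hs =>
    (x.fix s hs.1.1 hs.1.2.1 (mem_centralizer_iff.2 hs.2)).elim hs.1.2.2.1 hs.1.2.2.2
  rw [h4, Set.ncard_empty] at h3
  rw [← Nat.card_coe_set_eq, SetLike.coe_sort_coe, hn] at h1
  change _ ≡ D.ncard [MOD 3] at h1
  have Dm : ∀ s ∈ D, ∀ t ∈ D, s * t ∈ D := fun s hs t ht =>
    ⟨mul_mem hs.1 ht.1, (Commute.mul_right hs.2 ht.2).eq⟩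
  have Di : ∀ s ∈ D, s⁻¹ ∈ D := fun s hs => ⟨inv_mem hs.1, (Commute.inv_right hs.2).eq⟩
  have fD : f ∈ D := ⟨hf, af⟩
  have yD : y ∈ D := ⟨hy, ay⟩
  set C : Set G := {d | d ∈ D ∧ d * y = y * d} with hC
  set N : Set G := {d | d ∈ D ∧ d * y ≠ y * d} with hN
  set N₁ : Set G := {d | d ∈ N ∧ d * d = 1} with hN₁
  set N₂ : Set G := {d | d ∈ N ∧ d * d ≠ 1} with hN₂
  have e1 : D.ncard = C.ncard + N.ncard := by
    rw [← Set.ncard_union_eq (Set.disjoint_left.2 fun d h1 h2 => h2.2 h1.2)]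
    congr 1
    exact Set.ext fun d => ⟨fun h => (em _).imp (fun e => ⟨h, e⟩) fun e => ⟨h, e⟩,
      fun h => h.elim (·.1) (·.1)⟩
  have e2 : N.ncard = N₁.ncard + N₂.ncard := by
    rw [← Set.ncard_union_eq (Set.disjoint_left.2 fun d h1 h2 => h2.2 h1.2)]
    congr 1
    exact Set.ext fun d => ⟨fun h => (em _).imp (fun e => ⟨h, e⟩) fun e => ⟨h, e⟩,
      fun h => h.elim (·.1) (·.1)⟩
  have e3 : C.ncard = N.ncard := xa_bij f
    (fun s hs => ⟨Dm s hs.1 f fD, fun e => fy (by
      have := (Commute.inv_left hs.2).mul_left e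
      rwa [inv_mul_cancel_left] at this)⟩)
    fun t ht => ⟨Dm t ht.1 _ (Di f fD), xs.mul_comm_of_not_comm hy ht.1.1 (inv_mem hf) ht.2
      fun e => fy (by simpa using (Commute.inv_left e).eq)⟩
  have yi : y⁻¹ = y := inv_eq_of_mul_eq_one_left yy
  have Ny : ∀ s ∈ N, s * y ∈ N ∧ s * y * (s * y) = s * s * z := fun s hs =>
    ⟨⟨Dm s hs.1 y yD, fun e => hs.2 (mul_right_cancel (e.trans (mul_assoc _ _ _).symm))⟩, by
      have := xs.comm_of_ne hy hs.1.1 (Ne.symm hs.2)
      calc s * y * (s * y) = s * (y * s) * y := by group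
        _ = s * s * (y * (z * y)) := by rw [this]; group
        _ = s * s * z := by rw [← xs.z_comm y hy, ← mul_assoc y, yy, one_mul]⟩
  have e4 : N₁.ncard = N₂.ncard := xa_bij y
    (fun s hs => ⟨(Ny s hs.1).1, by rw [(Ny s hs.1).2, hs.2, one_mul]; exact xs.z_ne⟩)
    fun t ht => by
      rw [yi]
      exact ⟨(Ny t ht.1).1, by rw [(Ny t ht.1).2, (xs.sq ht.1.1.1).resolve_left ht.2, xs.z_sq]⟩
  have zy := xs.z_comm y hy
  have e5 : {s | s ∈ I ∧ a * s = s * a} = insert y (insert (y * z) N₁) := by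
    refine Set.ext fun s => ⟨fun ⟨⟨s1, s2, s3, s4⟩, s5⟩ => ?_, ?_⟩
    · by_cases c : s * y = y * s
      · rcases xa_four x az a3 a1 hy yy ay y1 yz s1 s2 s5 c.symm with e | e | e | e
        exacts [absurd e s3, absurd e s4, .inl e, .inr (.inl e)]
      · exact .inr (.inr ⟨⟨⟨s1, s5⟩, c⟩, s2⟩)
    · rintro (rfl | rfl | ⟨⟨⟨s1, s5⟩, c⟩, s2⟩)
      · exact ⟨⟨hy, yy, y1, yz⟩, ay⟩
      · refine ⟨⟨mul_mem hy xs.z_mem, ?_, fun e => yz ?_, fun e => y1 (by simpa using e)⟩,
          (Commute.mul_right ay az).eq⟩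
        · rw [mul_assoc, ← mul_assoc z, ← zy, mul_assoc y z, xs.z_sq, mul_one, yy]
        · rw [← mul_one y, ← xs.z_sq, ← mul_assoc, e, one_mul]
      · exact ⟨⟨s1, s2, fun e => c (by rw [e, one_mul, mul_one]), fun e => c (by rw [e, zy])⟩, s5⟩
  rw [e5, Set.ncard_insert_of_notMem (by
      rintro (e | e)
      exacts [xs.z_ne (by simpa using e.symm), e.1.2 rfl]),
    Set.ncard_insert_of_notMem fun e => e.1.2 (by rw [mul_assoc, ← zy])] at h2
  have h5 : 2 ^ (2 * n + 1) % 3 = 2 := by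
    rw [pow_succ, pow_mul, Nat.mul_mod, Nat.pow_mod]; simp
  unfold Nat.ModEq at h1 h2 h3
  omega

/-- `Y` acts on `S` by conjugation with trivial stabilizers (a non-trivial stabilizer contains an element of order 3,
`star`), so all orbits have length `|Y|`. -/
theorem semi (x : XE z A) {Y : Subgroup G} (hY : IsPGroup 3 Y) (hz : Y ≤ centralizer {z}) {S : Set G}
    (hS : ∀ s ∈ S, s ∈ O2C z ∧ s * s = 1 ∧ s ≠ 1 ∧ s ≠ z) (hn : ∀ y ∈ Y, ∀ s ∈ S, y * s * y⁻¹ ∈ S) :
    Nat.card Y ∣ S.ncard := by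
  let := xaAct Y S hn
  have : Fact (Nat.Prime 3) := ⟨Nat.prime_three⟩
  have hs : ∀ s : S, MulAction.stabilizer Y s = ⊥ := fun s => by
    by_contra hne
    obtain ⟨k, hk⟩ := IsPGroup.iff_card.1 (hY.to_subgroup (MulAction.stabilizer Y s))
    have hd : 3 ∣ Nat.card (MulAction.stabilizer Y s) := by
      rw [hk]
      refine dvd_pow_self 3 fun e => hne (card_eq_one.1 (by rw [hk, e, pow_zero]))
    obtain ⟨a, ha⟩ := exists_prime_orderOf_dvd_card' 3 hd
    have ha' : orderOf (a.1.1 : G) = 3 := by rw [orderOf_coe, orderOf_coe, ha]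
    obtain ⟨s1, s2, s3, s4⟩ := hS s.1 s.2
    exact (x.star (mem_centralizer_singleton_iff.1 (hz a.1.2)) (ha' ▸ pow_orderOf_eq_one _)
      (fun e => by rw [e, orderOf_one] at ha'; omega) s1 s2
      (comm_of_conj_eq (congrArg Subtype.val a.2))).elim s3 s4
  rw [← Nat.card_coe_set_eq, Nat.card_congr (MulAction.selfEquivOrbitsQuotientProd hs),
    Nat.card_prod]
  exact dvd_mul_left _ _

/-- `g ^ 3 ∈ Q` has order dividing 4 (`XS.pow_four`), so `a = g ^ 4` has `a ^ 3 = 1` and `r a = r g`; `comm_of_fix`, `star`. -/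
theorem lift (x : XE z A) (o : OS z (O2C z) q π r) {σ : OG q} (hσ : σ ∈ r.range) (s3 : σ ^ 3 = 1)
    (s1 : σ ≠ 1) {v : V} (qv : q v = 0) (e : σ.1 v = v) : v = 0 := by
  obtain ⟨g, rfl⟩ := hσ
  have h3 : ((g ^ 3 : centralizer ({z} : Set G)) : G) ∈ O2C z :=
    (o.r_eq_one_iff _).1 (by rw [map_pow, s3])
  have h4 : r (g ^ 4) = r g := by rw [map_pow, pow_succ, s3, one_mul]
  have h5 : ((g ^ 4 : centralizer ({z} : Set G)) : G) ^ 3 = 1 := by
    have := x.lx.toXS.pow_four h3
    rwa [coe_pow, ← pow_mul, mul_comm, pow_mul, ← coe_pow] at this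
  obtain ⟨y, hy, rfl⟩ := o.surj v
  exact (o.ker y hy).2 (x.star (mem_centralizer_singleton_iff.1 (g ^ 4).2) h5
    (fun e1 => s1 (by rw [← h4, show g ^ 4 = 1 from Subtype.ext e1, map_one])) hy
    ((o.sq y hy).2 qv) (comm_of_fix o _ h5 hy (by rw [h4, e])))

/-- Take `E = ⟨a, b⟩ ≤ A` of order 9. For `1 ≠ c ∈ E` the fixed space `F c` has no non-zero singular vector (`lift`; `r c ≠ 1` as
`c ∉ Q`), so has dimension `≤ 2` (`exists_singular_mem`). With `T c = 1 + c + c²` (values in `F c`),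
`T a + T b + T (a b) + T (a b²) = 4 + ∑_{e ≠ 1} e = 1 + T a T b` on `V`, so `V = F a + F b + F (a b) + F (a b²)` has dimension
`2 n ≤ 8`. `E` acts faithfully on `V`, so `2 n ≥ 4` (`|GL₂(2)| = 6`; or: if `dim V ≤ 2` then `E` embeds in the permutations of
at most 3 non-zero vectors). -/
theorem card (x : XE z A) : Nat.card (O2C z) = 32 ∨ Nat.card (O2C z) = 128 ∨ Nat.card (O2C z) = 512 := by
  obtain ⟨n, hn⟩ := x.exists_n
  obtain ⟨V, _, _, q, π, r, o⟩ := exists_OS x.lx hn
  have : Fact (Nat.Prime 3) := ⟨Nat.prime_three⟩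
  have hV : Nat.card V = 2 ^ (2 * n) := by
    have := o.card_V
    rw [hn, pow_succ] at this
    omega
  have : Finite V := Nat.finite_of_card_ne_zero (by rw [hV]; positivity)
  have hd : Module.finrank (ZMod 2) V = 2 * n := by
    have := Module.natCard_eq_pow_finrank (K := ZMod 2) (V := V)
    rw [hV, Nat.card_zmod] at this
    exact (Nat.pow_right_injective le_rfl this).symm
  have hA : A ≤ centralizer {z} := fun c hc =>
    mem_centralizer_singleton_iff.2 (mem_centralizer_iff.1 x.ct c hc)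
  let ρ : A →* OG q := r.comp (inclusion hA)
  have c3 : ∀ c : A, c ^ 3 = 1 := fun c => Subtype.ext (x.ea.2 c c.2)
  have inj : ∀ c : A, ρ c = 1 → c = 1 := fun c hc => by
    have h4 : (c : G) ^ 4 = 1 := x.lx.toXS.pow_four ((o.r_eq_one_iff (inclusion hA c)).1 hc)
    rw [pow_succ, x.ea.2 c c.2, one_mul] at h4
    exact Subtype.ext h4
  have h2 : 2 ≤ n := by
    by_contra hlt
    let ρ' : A →* Equiv.Perm V := (MulAction.toPermHom (V ≃ₗ[ZMod 2] V) V).comp
      ((OG q).subtype.comp ρ)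
    have h1 := card_dvd_of_injective ρ' ((injective_iff_map_eq_one _).2 fun c hc =>
      inj c (OG.ext fun v => congrArg (fun g : Equiv.Perm V => g v) hc))
    obtain ⟨k, hk⟩ := IsPGroup.iff_card.1 (isPGroup_iff.2 fun c hc =>
      ⟨1, by simpa using x.ea.2 c hc⟩ : IsPGroup 3 A)
    have h9 : 9 ∣ Nat.card A := by
      have := x.nine
      rw [hk] at this ⊢
      refine pow_dvd_pow 3 (show 2 ≤ k from ?_)
      by_contra hk2
      interval_cases k <;> omega
    rw [Nat.card_perm, hV] at h1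
    have := h9.trans h1
    interval_cases n <;> simp [Nat.factorial] at this
  have h4 : n ≤ 4 := by
    have hnt : Nontrivial A := Finite.one_lt_card_iff_nontrivial.1 (by have := x.nine; omega)
    obtain ⟨a, a1⟩ := exists_ne (1 : A)
    obtain ⟨b, hb⟩ : ∃ b : A, b ∉ zpowers a := by
      by_contra hc
      push Not at hc
      have e : zpowers a = ⊤ := eq_top_iff.2 fun b _ => hc b
      have := x.nine
      rw [← card_top (G := A), ← e, Nat.card_zpowers, orderOf_eq_prime (c3 a) a1] at this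
      omega
    let F : A → Submodule (ZMod 2) V := fun c =>
      LinearMap.eqLocus ((ρ c).1 : V →ₗ[ZMod 2] V) LinearMap.id
    have hF : ∀ c, c ≠ 1 → Module.finrank (ZMod 2) (F c) ≤ 2 := fun c c1 => by
      by_contra hlt
      obtain ⟨v, hv, v0, qv⟩ := exists_singular_mem q (F c) (by omega)
      exact v0 (x.lift o (σ := ρ c) ⟨_, rfl⟩ (by rw [← map_pow, c3, map_one])
        (fun e => c1 (inj c e)) qv hv)
    have act : ∀ (c d : A) v, (ρ c).1 ((ρ d).1 v) = (ρ (c * d)).1 v := fun c d v => by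
      rw [map_mul]; rfl
    have hT : ∀ (c : A) v, v + (ρ c).1 v + (ρ (c * c)).1 v ∈ F c := fun c v => by
      change (ρ c).1 _ = v + (ρ c).1 v + (ρ (c * c)).1 v
      rw [map_add, map_add, act, act, show c * (c * c) = 1 by simpa [pow_succ, mul_assoc] using c3 c,
        map_one]
      change (ρ c).1 v + (ρ (c * c)).1 v + v = _
      abel
    have := x.ea.1
    have ab : b * a = a * b := mul_comm' b a
    have b3 : b * (b * b) = 1 := by simpa [pow_succ, mul_assoc] using c3 b
    have e1 : a * b * (a * b) = a * a * (b * b) := by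
      rw [mul_assoc, ← mul_assoc b, ab]; group
    have e2 : a * (b * b) * (a * (b * b)) = a * a * b := by
      have : b * b * a = a * (b * b) := by rw [mul_assoc, ab, ← mul_assoc, ab, mul_assoc]
      rw [mul_assoc, ← mul_assoc (b * b), this, mul_assoc a (b * b), mul_assoc b b, b3, mul_one,
        mul_assoc]
    have htop : F a ⊔ F b ⊔ (F (a * b) ⊔ F (a * (b * b))) = ⊤ := by
      refine eq_top_iff.2 fun v _ => ?_
      have m := Submodule.add_mem_sup (Submodule.add_mem_sup ((F a).add_mem (hT a v)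
        (hT a (v + (ρ b).1 v + (ρ (b * b)).1 v))) (hT b v))
        (Submodule.add_mem_sup (hT (a * b) v) (hT (a * (b * b)) v))
      convert m using 1
      simp only [map_add, act, e1, e2]
      have t := two_add_self (V := V)
      linear_combination (norm := abel) - t v - t v - t ((ρ a).1 v) - t ((ρ (a * a)).1 v) -
        t ((ρ b).1 v) - t ((ρ (b * b)).1 v) - t ((ρ (a * b)).1 v) - t ((ρ (a * (b * b))).1 v) -
        t ((ρ (a * a * b)).1 v) - t ((ρ (a * a * (b * b))).1 v)
    have f1 := hF a a1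
    have f2 := hF b fun e => hb (e ▸ one_mem _)
    have f3 := hF (a * b) fun e => hb (by
      rw [eq_inv_of_mul_eq_one_right e]; exact inv_mem (mem_zpowers a))
    have f4 := hF (a * (b * b)) fun e => hb (by
      rw [mul_right_cancel (b3.trans e.symm)]; exact mem_zpowers a)
    have g1 := Submodule.finrank_add_le_finrank_add_finrank (F a) (F b)
    have g2 := Submodule.finrank_add_le_finrank_add_finrank (F (a * b)) (F (a * (b * b)))
    have g3 := Submodule.finrank_add_le_finrank_add_finrank (F a ⊔ F b) (F (a * b) ⊔ F (a * (b * b)))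
    rw [htop, finrank_top, hd] at g3
    omega
  rw [hn]
  interval_cases n <;> simp

end XE

end Cfsg.Agent.Msn
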